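import Groth.Agent.CMReg7.PullVanish
import Groth.Agent.H23.PnChart
import Groth.Agent.ProjGen7.Pn
import Mathlib.RingTheory.RingHom.Smooth
import Groth.Agent.ProjGen7.FlatBase
import Mathlib.AlgebraicGeometry.Morphisms.SmoothFiber

/-!
# `P^n_Y ⟶ Y` is smooth
-/

set_option autoImplicit false
set_option linter.style.haveILetI false
set_option backward.isDefEq.respectTransparency false
universe u
open CategoryTheory CategoryTheory.Limits AlgebraicGeometry TopologicalSpace

namespace Groth.Agent.KRR7

open Groth.Agent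

theorem smooth_toSpec (n : ℕ) (k : Type u) [Field k] : Smooth (CohB1.ProjSpace.toSpec n k) := by
  refine IsZariskiLocalAtSource.of_iSup_eq_top (fun i => (ZetaLib.chart n k i).opensRange) ?_ fun i => ?_
  · refine top_le_iff.1 fun x _ => ?_
    obtain ⟨i, hi⟩ := Opens.mem_iSup.1 ((ProjGen7.iSup_coord' n k).ge (trivial : x ∈ (⊤ : Opens _)))
    exact Opens.mem_iSup.2 ⟨i.down, (ZetaLib.mem_range_chart i.down x).2 hi⟩
  rw [← Scheme.Hom.isoOpensRange_inv_comp, Category.assoc, ZetaLib.chart_toSpec]
  haveI : Smooth (Spec.map (CommRingCat.ofHom (ZetaLib.base n k i))) := by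
    rw [HasRingHomProperty.Spec_iff (P := @Smooth)]
    show (ZetaLib.base n k i).Smooth
    have h : ZetaLib.base n k i = (H23.PnChart.fromChart n k i).comp MvPolynomial.C :=
      RingHom.ext fun c => (MvPolynomial.eval₂Hom_C _ _ c).symm
    rw [h]
    refine RingHom.Smooth.stableUnderComposition _ _ ?_ (RingHom.Smooth.of_bijective
      ⟨H23.PnChart.fromChart_injective n k i, H23.PnChart.fromChart_surjective n k i⟩)
    exact RingHom.smooth_algebraMap.2
      (⟨inferInstance, inferInstance⟩ : Algebra.Smooth k (MvPolynomial (H23.PnChart.Idx n i) k))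
  infer_instance

theorem smooth_pr (n : ℕ) (Y : Scheme.{u}) : Smooth (KRR.pr n Y) := by
  haveI : LocallyOfFinitePresentation (KRR.pr n Y) := ProjGen7.lfp_toBase n Y
  haveI : Flat (KRR.pr n Y) := ProjGen7.flat_toBase n Y
  refine Smooth.of_smooth_fiberToSpecResidueField _ fun y => ?_
  haveI := smooth_toSpec.{u} n (Y.residueField y)
  have h₁ : IsPullback (ProjX.pmap n (ProjX.zto (Y.residueField y))) (CohB1.ProjSpace.toSpec n (Y.residueField y))
      (CohB1.ProjSpace.toSpec n (ULift.{u} ℤ))
      (Y.fromSpecResidueField y ≫ specULiftZIsTerminal.from Y) := by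
    rw [specULiftZIsTerminal.hom_ext (Y.fromSpecResidueField y ≫ specULiftZIsTerminal.from Y)
      (Spec.map (CommRingCat.ofHom (ProjX.zto (Y.residueField y))))]
    exact ProjX.isPullback_pmap n _
  have h₂ : IsPullback ((KRR.pr n Y).fiberι y ≫ pullback.fst _ _) ((KRR.pr n Y).fiberToSpecResidueField y)
      (CohB1.ProjSpace.toSpec n (ULift.{u} ℤ)) (Y.fromSpecResidueField y ≫ specULiftZIsTerminal.from Y) :=
    (IsPullback.of_hasPullback (KRR.pr n Y) (Y.fromSpecResidueField y)).paste_horiz (IsPullback.of_hasPullback _ _)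
  rw [← h₂.isoIsPullback_hom_snd _ _ h₁]
  infer_instance

end Groth.Agent.KRR7
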