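import Groth.Agent.KRR7.Deg
import Groth.Agent.KZ.CycleTensor
import Groth.Agent.ResPropLib.Ample

/-!
# The class of an ample invertible module is an ample line element
-/

set_option autoImplicit false
set_option linter.style.haveILetI false
set_option backward.isDefEq.respectTransparency false
universe u v
open CategoryTheory CategoryTheory.Limits AlgebraicGeometry
attribute [local instance] HasDerivedCategory.standard

namespace Groth.Agent.KRR7

open Groth.Agent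
open scoped Groth.Agent.H23.PicMul

variable {X : Scheme.{u}}

/-- on a connected scheme the rank is constant -/
theorem exists_rank [ConnectedSpace ↥X] {M : X.Modules} (hM : FlatMod.IsFinLocFree M) :
    ∃ r : ℕ, FlatMod.IsFinLocFreeOfRank r M := by
  have huniq : ∀ (U V : X.Opens) (r s : ℕ) (x : X), x ∈ U → x ∈ V →
      Nonempty (M.restrict U.ι ≅ FlatMod.freeMod (U : Scheme.{u}) r) →
      Nonempty (M.restrict V.ι ≅ FlatMod.freeMod (V : Scheme.{u}) s) → r = s := fun U V r s x hU hV ⟨a⟩ ⟨b⟩ => by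
    let W := U ⊓ V
    let y : (W : Scheme.{u}) := ⟨x, hU, hV⟩
    let a' := KFlatLib.restrictFreeIso (W := W) inf_le_left a
    let b' := KFlatLib.restrictFreeIso (W := W) inf_le_right b
    have h₁ : ∀ (t : ℕ), (M.restrict W.ι ≅ FlatMod.freeMod (W : Scheme.{u}) t) →
        FlatMod.IsFinLocFreeOfRank t (M.restrict W.ι) := fun t e z =>
      ⟨⊤, trivial, ⟨(Scheme.Modules.restrictFunctor _).mapIso e ≪≫ QCoh.freeModRestrict _ t⟩⟩
    obtain ⟨p⟩ := KZ.CycleClass.exists_basis (h₁ r a') y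
    obtain ⟨q⟩ := KZ.CycleClass.exists_basis (h₁ s b') y
    simpa using Fintype.card_congr (p.indexEquiv q)
  obtain ⟨x₀⟩ := (inferInstance : Nonempty ↥X)
  obtain ⟨U₀, r, hx₀, h₀⟩ := hM x₀
  let A : Set X := {x | ∃ U : X.Opens, x ∈ U ∧ Nonempty (M.restrict U.ι ≅ FlatMod.freeMod (U : Scheme.{u}) r)}
  have hA : IsClopen A := by
    refine ⟨⟨isOpen_iff_forall_mem_open.2 fun x hx => ?_⟩, isOpen_iff_forall_mem_open.2 fun x hx => ?_⟩
    · obtain ⟨U, t, hxU, ht⟩ := hM x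
      refine ⟨U, fun z hz => ?_, U.2, hxU⟩
      rintro ⟨V, hzV, hV⟩
      exact hx ⟨U, hxU, (huniq V U r t z hzV hz hV ht) ▸ ht⟩
    · obtain ⟨U, hxU, hU⟩ := hx
      exact ⟨U, fun z hz => ⟨U, hz, hU⟩, U.2, hxU⟩
  have := hA.eq_univ ⟨x₀, U₀, hx₀, h₀⟩
  exact ⟨r, fun x => (this ▸ Set.mem_univ x : x ∈ A)⟩

theorem exists_epi_freeMod_twist {L : X.Modules} (hL : CohB1.IsAmple L) (M : X.Modules) (hM : Coh.IsCoh M) :
    ∃ n₀ : ℕ, ∀ n, n₀ ≤ n → ∃ (k : ℕ) (p : FlatMod.freeMod X k ⟶ CohB1.tensorMod M (CohB1.tensorPow L n)), Epi p := by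
  haveI := hL.2.1
  haveI := AmpleX.isSeparated_of_isAmple hL
  obtain ⟨n₀, h⟩ := AmpleX.eventually_generated hL hM.1 hM.2
  refine ⟨n₀, fun n hn => ?_⟩
  obtain ⟨G, iso, ι, s, hs⟩ := h n hn
  have hC : Coh.IsCoh (CohB1.tensorMod M (CohB1.tensorPow L n)) := by
    obtain ⟨c⟩ := H23.PicMul.comm (CohB1.tensorPow L n) M
    have h1 := CurveTensor.isCoh_tensor
      (H23.PullPush.isFinLocFree_of_isInvertible (InvX.isInvertible_tensorPow hL.1 n)) hM
    exact QCoh.isCoh_of_epi c.hom h1 ((QCoh.isQCoh_iff_iso c.symm).2 h1.1)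
  have hGq : Coh.IsQCoh G := (QCoh.isQCoh_iff_iso iso).2 hC.1
  haveI : SheafOfModules.IsFiniteType (R := X.ringCatSheaf) G := (QCoh.isCoh_of_epi iso.inv hC hGq).2
  obtain ⟨k, t, ht⟩ := ResPropLib.exists_fin_generatedBy G (fun x => FDescent.finite_stalk G x) hs
  obtain ⟨p, hp⟩ := InvX.exists_epi_freeMod ht
  exact ⟨k, p ≫ iso.hom, inferInstance⟩

theorem pow_mem_pos {K : Type v} [CommRing K] [LambdaRing.LambdaOps K] (P : LambdaRing.PosStructure K) {u : K}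
    (hu : u ∈ P.pos) : ∀ n : ℕ, u ^ n ∈ P.pos
  | 0 => by simpa using P.natCast_mem 1 one_pos
  | n + 1 => by rw [pow_succ]; exact P.mul_mem _ _ (pow_mem_pos P hu n) hu

variable [IsNoetherian X] [ConnectedSpace ↥X] {K : Type v} [CommRing K] [LambdaRing.LambdaOps K]
  {P : LambdaRing.PosStructure K} {φ : SGA6.Kvb X →+ K}

theorem cl_tensorPow (hK : KRR.IsModel X K P φ) {L : X.Modules} (hL : PicF.IsInvertible L) :
    ∀ n : ℕ, φ (KRR.cl X (CohB1.tensorPow L n)) = φ (KRR.cl X L) ^ n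
  | 0 => by rw [pow_zero]; exact hK.map_one
  | n + 1 => by
    rw [pow_succ, ← cl_tensorPow hK hL n, hK.map_mul _ _
      (H23.PullPush.isFinLocFree_of_isInvertible (InvX.isInvertible_tensorPow hL n))
      (H23.PullPush.isFinLocFree_of_isInvertible hL)]
    rfl

theorem isAmpleElt (hK : KRR.IsModel X K P φ) {L : X.Modules} (hL : CohB1.IsAmple L) :
    KRR.IsAmpleElt P (φ (KRR.cl X L)) := by
  have h1 := InvEnd.isFinLocFreeOfRank_one hL.1
  refine ⟨⟨(hK.mem_pos_iff _).2 ⟨1, L, le_rfl, h1, rfl⟩, by simpa using hK.aug_cl 1 L h1⟩, fun x => ?_⟩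
  obtain ⟨e, f, he, hf, rfl⟩ := P.exists_sub x
  obtain ⟨a, E, ha, hE, rfl⟩ := (hK.mem_pos_iff e).1 he
  obtain ⟨b, F, hb, hF, rfl⟩ := (hK.mem_pos_iff f).1 hf
  have hE' : FlatMod.IsFinLocFree E := fun y => let ⟨U, hy, h⟩ := hE y; ⟨U, a, hy, h⟩
  have hF' : FlatMod.IsFinLocFree F := fun y => let ⟨U, hy, h⟩ := hF y; ⟨U, b, hy, h⟩
  obtain ⟨n₀, h⟩ := exists_epi_freeMod_twist hL F ⟨QCoh.isQCoh_of_isFinLocFree hF',
    QCoh.isFT_of_isFP (QCoh.isFP_of_isFinLocFree hF')⟩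
  refine ⟨n₀, fun n hn => ?_⟩
  have hLn := H23.PullPush.isFinLocFree_of_isInvertible (InvX.isInvertible_tensorPow hL.1 n)
  have hG : FlatMod.IsFinLocFree (CohB1.tensorMod F (CohB1.tensorPow L n)) := KFlatLib.isFinLocFree_tensor hF' hLn
  obtain ⟨k, p, hp⟩ := h n hn
  let q : FlatMod.freeMod X k ⊞ FlatMod.freeMod X (b + 1) ⟶ CohB1.tensorMod F (CohB1.tensorPow L n) := biprod.fst ≫ p
  have hk := KFlatLib.isFinLocFree_biprod (KFlatLib.isFinLocFree_freeMod (X := X) k) (KFlatLib.isFinLocFree_freeMod (X := X) (b + 1))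
  have hS : (ShortComplex.mk (kernel.ι q) q (kernel.condition q)).ShortExact :=
    { exact := ShortComplex.exact_kernel q }
  have hQ : FlatMod.IsFinLocFree (kernel q) := flf_ker hS hk hG
  have hrel : KRR.cl X (FlatMod.freeMod X k ⊞ FlatMod.freeMod X (b + 1)) =
      KRR.cl X (kernel q) + KRR.cl X (CohB1.tensorMod F (CohB1.tensorPow L n)) :=
    KZ.clSub_ses (KRR.vbP X) hS hQ hk hG
  rw [cl_iso (KFlatLib.biprodFreeIso k (b + 1)) hk, cl_freeMod] at hrel
  have hmul : φ (KRR.cl X F) * φ (KRR.cl X (CohB1.tensorPow L n)) = φ (KRR.cl X (CohB1.tensorMod F (CohB1.tensorPow L n))) :=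
    hK.map_mul F _ hF' hLn
  obtain ⟨r, hr⟩ := exists_rank hQ
  refine ⟨φ (KRR.cl X L) ^ n * φ (KRR.cl X E) + φ (KRR.cl X (kernel q)), k + (b + 1), P.add_mem _ _ ?_ ?_, ?_⟩
  · have hu := (hK.mem_pos_iff _).2 ⟨1, L, le_rfl, h1, rfl⟩
    exact P.mul_mem _ _ (pow_mem_pos P hu n) he
  · refine (hK.mem_pos_iff _).2 ⟨r, kernel q, ?_, hr, rfl⟩
    have h := congrArg (fun z => P.aug (φ z)) hrel
    simp only [map_add, map_nsmul, hK.map_one, nsmul_one, map_natCast] at h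
    rw [hK.aug_cl r _ hr, ← hmul, map_mul, hK.aug_cl b F hF,
      hK.aug_cl 1 _ (InvEnd.isFinLocFreeOfRank_one (InvX.isInvertible_tensorPow hL.1 n))] at h
    push_cast at h
    omega
  · have := congrArg φ hrel
    rw [map_add, map_nsmul, hK.map_one, nsmul_one, ← hmul, cl_tensorPow hK hL.1] at this
    rw [this]
    ring

end Groth.Agent.KRR7
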