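import Groth.Agent.KRR7.Proj
import Groth.Agent.PnCoh.TwistH0
import Groth.Agent.QCoh.LocFree

/-!
# The values `p_K [O(a)]` for `p : P^n_Y ⟶ Y`
-/

set_option autoImplicit false
set_option linter.style.haveILetI false
set_option backward.isDefEq.respectTransparency false
universe u v
open CategoryTheory CategoryTheory.Limits AlgebraicGeometry
attribute [local instance] HasDerivedCategory.standard

namespace Groth.Agent.KRR7

open Groth.Agent
open scoped Groth.Agent.H23.PicMul

theorem intLinearEquiv {M N : Type u} [AddCommGroup M] [AddCommGroup N] [Module (ULift.{u} ℤ) M]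
    [Module (ULift.{u} ℤ) N] (e : M ≃+ N) : Nonempty (M ≃ₗ[ULift.{u} ℤ] N) := by
  refine ⟨e.toLinearEquiv fun c x => ?_⟩
  have hc : c = ((c.down : ℤ) : ULift.{u} ℤ) := ULift.ext _ _ (by simp)
  rw [hc, Int.cast_smul_eq_zsmul, Int.cast_smul_eq_zsmul, map_zsmul]

theorem exists_homogeneous_equiv (n a : ℕ) (R : Type u) [CommRing R] :
    Nonempty (↥(MvPolynomial.homogeneousSubmodule (Fin (n + 1)) R a) ≃+
      (ULift.{u} (Fin (Nat.choose (n + a) n)) →₀ R)) := by
  classical
  let T : Set (Fin (n + 1) →₀ ℕ) := {e | e.degree = a}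
  let e : {b // b ∈ (Finset.univ : Finset (Fin (n + 1))).finsuppAntidiag a} ≃ T :=
    Equiv.subtypeEquivRight fun b => by simp [T, Finset.mem_finsuppAntidiag, Finsupp.degree_eq_sum]
  haveI : Fintype T := Fintype.ofEquiv _ e
  let φ : MvPolynomial.homogeneousSubmodule (Fin (n + 1)) R a ≃ₗ[R] (T →₀ R) :=
    (LinearEquiv.ofEq _ _ (MvPolynomial.homogeneousSubmodule_eq_finsupp_supported (σ := Fin (n + 1)) (R := R) a)).trans
      (AddMonoidAlgebra.supportedEquivFinsupp T)
  have hc : Fintype.card T = Nat.choose (n + a) n := by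
    rw [← Fintype.card_congr e, Fintype.card_coe, Finset.card_finsuppAntidiag_nat_eq_choose, Finset.card_univ,
      Fintype.card_fin, show n + 1 + a - 1 = n + a by omega, Nat.choose_symm_add]
  exact ⟨φ.toAddEquiv.trans
    (Finsupp.domLCongr (R := R) (M := R) (((Fintype.equivFinOfCardEq hc).trans Equiv.ulift.symm))).toAddEquiv⟩

theorem nonempty_push_twistProjSpace (n a : ℕ) :
    Nonempty ((Scheme.Modules.pushforward (CohB1.ProjSpace.toSpec n (ULift.{u} ℤ))).obj
        (Twist.twistProjSpace n (ULift.{u} ℤ) (a : ℤ)) ≅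
      FlatMod.freeMod (Spec (CommRingCat.of (ULift.{u} ℤ))) (Nat.choose (n + a) n)) := by
  let R := ULift.{u} ℤ
  let π := CohB1.ProjSpace.toSpec n R
  letI := MvPolynomial.gradedAlgebra (σ := Fin (n + 1)) (R := R)
  haveI : IsProper π := PnCoh.Chow.isProper_toSpec n R
  let g : ↥(MvPolynomial.homogeneousSubmodule (Fin (n + 1)) R a) ≃+ PnCoh.TwTop (Fin (n + 1)) R (a : ℤ) :=
    { PnCoh.globalOfEquiv with map_add' := PnCoh.globalOf_add }
  obtain ⟨b⟩ := exists_homogeneous_equiv n a R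
  let N := (Scheme.Modules.pushforward π).obj (Twist.twistProjSpace n R (a : ℤ))
  have hq : Coh.IsQCoh N := QCoh.isQCoh_pushforward π (ProjUPX.isQCoh_of_isInvertible
    (PnCoh.Finite.isInvertible_twist ((ProjGen7.coord' n R)) (ProjGen7.coord'_mem n R) (ProjGen7.iSup_coord' n R) (a : ℤ)))
  let t : (moduleSpecΓFunctor (R := CommRingCat.of R)).obj N ≃+ (ULift.{u} (Fin (Nat.choose (n + a) n)) →₀ R) := g.symm.trans b
  obtain ⟨l⟩ := intLinearEquiv t
  exact QCoh.exists_freeIso_of_linearEquiv hq l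

/-- `p_* O(a)` is free of rank `C(n+a, n)`. -/
theorem nonempty_push_twistOver (n : ℕ) (Y : Scheme.{u}) (a : ℕ) :
    Nonempty ((Scheme.Modules.pushforward (KRR.pr n Y)).obj (Twist.twistOver n Y (a : ℤ)) ≅
      FlatMod.freeMod Y (Nat.choose (n + a) n)) := by
  let R := ULift.{u} ℤ
  let π := CohB1.ProjSpace.toSpec n R
  let L := Twist.twistProjSpace n R (a : ℤ)
  haveI : IsProper π := PnCoh.Chow.isProper_toSpec n R
  haveI : Flat π := ProjGen7.flat_toSpec_int n
  haveI : IsNoetherianRing R := isNoetherianRing_of_ringEquiv ℤ ULift.ringEquiv.symm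
  haveI : LocallyOfFinitePresentation π := ProjGen7.lfp_of_lft _
  haveI : HasInjectiveResolutions (CohB1.ProjSpace n R).Modules := KFlatLib.hasInjectiveResolutions_modules
  have hL : PicF.IsInvertible L :=
    PnCoh.Finite.isInvertible_twist ((ProjGen7.coord' n R)) (ProjGen7.coord'_mem n R) (ProjGen7.iSup_coord' n R) (a : ℤ)
  have hf : FlatMod.IsFinLocFree L := H23.PullPush.isFinLocFree_of_isInvertible hL
  have hq := QCoh.isQCoh_of_isFinLocFree hf
  have hex : ∀ y, CohPullLib.ExchAt π L 0 y := fun y => by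
    refine CohPullLib.exchAt_of_isFinLocFree_above hq (QCoh.isFP_of_isFinLocFree hf)
      (PerfLocus7.isFlatOver_of_isFinLocFree π hf) (m := 0) (fun i hi => ?_) y 0 le_rfl
    obtain ⟨k, rfl⟩ := Nat.exists_eq_add_of_le' hi
    exact KFlatLib.isFinLocFree_of_isZero (ProjGen7.isZero_Rpush_succ π hq k
      (Groth.Agent.S0844.result R n (a : ℤ) (k + 1) (fun h => Nat.succ_ne_zero k h.1) (fun h => by omega)))
  have hsq : IsPullback (pullback.fst π (specULiftZIsTerminal.from Y)) (KRR.pr n Y) π (specULiftZIsTerminal.from Y) :=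
    IsPullback.of_hasPullback _ _
  haveI := CohPullLib.isIso_bc0_of_exchAt hsq hq (fun z => hex _)
  obtain ⟨e⟩ := nonempty_push_twistProjSpace.{u} n a
  exact ⟨(asIso (CohBC.bc0 π (specULiftZIsTerminal.from Y) (KRR.pr n Y)
      (pullback.fst π (specULiftZIsTerminal.from Y)) hsq.w L)).symm ≪≫
    (Scheme.Modules.pullback (specULiftZIsTerminal.from Y)).mapIso e ≪≫ KFlatLib.pullFreeIso _ _⟩

variable {Y : Scheme.{u}}

theorem cl_freeMod_succ (m : ℕ) :
    KRR.cl Y (FlatMod.freeMod Y (m + 1)) = KRR.cl Y (FlatMod.freeMod Y m) + KRR.cl Y (Coh.structureModule Y) := by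
  let A := FlatMod.freeMod Y m
  let B := FlatMod.freeMod Y 1
  have hA : FlatMod.IsFinLocFree A := KFlatLib.isFinLocFree_freeMod m
  have hB : FlatMod.IsFinLocFree B := KFlatLib.isFinLocFree_freeMod 1
  let S := ShortComplex.mk (biprod.inl : A ⟶ A ⊞ B) biprod.snd biprod.inl_snd
  let σ : S.Splitting := ShortComplex.Splitting.ofHasBinaryBiproduct _ _
  have h2 : FlatMod.IsFinLocFree (A ⊞ B) := KFlatLib.isFinLocFree_biprod hA hB
  have := KZ.clSub_ses (KRR.vbP Y) σ.shortExact hA h2 hB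
  rw [← cl_iso (coproductUniqueIso fun _ : Fin 1 => Coh.structureModule Y) hB, ← cl_iso (KFlatLib.biprodFreeIso m 1) h2]
  exact this

theorem cl_freeMod (m : ℕ) : KRR.cl Y (FlatMod.freeMod Y m) = m • KRR.cl Y (Coh.structureModule Y) := by
  induction m with
  | zero =>
    have h := cl_freeMod_succ (Y := Y) 0
    rw [← cl_iso (coproductUniqueIso fun _ : Fin 1 => Coh.structureModule Y).symm (H23.PullPush.isFinLocFree_of_iso (coproductUniqueIso fun _ : Fin 1 => Coh.structureModule Y)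
      (KFlatLib.isFinLocFree_freeMod 1))] at h
    simpa using h.symm
  | succ m ih => rw [cl_freeMod_succ, ih, succ_nsmul]

theorem iter_fwdDiff_choose_int {G : Type v} [AddCommGroupWithOne G] : ∀ (m : ℕ) (c : ℤ),
    (fwdDiff (1 : ℤ))^[m + 1] (fun b : ℤ => ((Ring.choose (b + c) m : ℤ) : G)) = 0
  | 0, c => by funext b; simp [fwdDiff]
  | m + 1, c => by
    rw [Function.iterate_succ_apply]
    have h : fwdDiff (1 : ℤ) (fun b : ℤ => ((Ring.choose (b + c) (m + 1) : ℤ) : G)) =
        fun b : ℤ => ((Ring.choose (b + c) m : ℤ) : G) := by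
      funext b
      simp only [fwdDiff]
      rw [show b + 1 + c = b + c + 1 by ring, Ring.choose_succ_succ, Int.cast_add, add_sub_cancel_right]
    rw [h, iter_fwdDiff_choose_int m c]

variable {n : ℕ}

theorem nonempty_twF_structureModule (a : ℤ) :
    Nonempty (KRR.twF n Y a (Coh.structureModule (KRR.PY n Y)) ≅ Twist.twistOver n Y a) :=
  H23.PicMul.unit (Twist.twistOver n Y a)

theorem gval_natCast [IsNoetherian Y] {KP KY : Type v} [CommRing KP] [CommRing KY]
    (φP : SGA6.Kvb (KRR.PY n Y) →+ KP) (φY : SGA6.Kvb Y →+ KY)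
    (hone : φY (KRR.cl Y (Coh.structureModule Y)) = 1)
    (g : KP →+ KY) (hg : KRR.IsPushPr n Y φP φY g) (m : ℕ) :
    g (φP (KRR.cl _ (KRR.twF n Y (m : ℤ) (Coh.structureModule (KRR.PY n Y))))) = (Nat.choose (n + m) n : KY) := by
  have hO : FlatMod.IsFinLocFree (Coh.structureModule (KRR.PY n Y)) :=
    H23.PullPush.isFinLocFree_of_iso (coproductUniqueIso fun _ : Fin 1 => Coh.structureModule (KRR.PY n Y))
      (KFlatLib.isFinLocFree_freeMod 1)
  obtain ⟨u⟩ := nonempty_twF_structureModule (Y := Y) (n := n) (m : ℤ)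
  obtain ⟨z⟩ := nonempty_twF_zero (n := n) (Y := Y) (Coh.structureModule (KRR.PY n Y))
  obtain ⟨e⟩ := nonempty_push_twistOver n Y m
  let i := (Scheme.Modules.pushforward (KRR.pr n Y)).mapIso u ≪≫ e
  rw [hg _ (flf_twF hO _) (reg_twF_ge (a := 0) (by omega) (reg_of_iso z.symm reg_structureModule)),
    cl_iso i (flf_of_iso i.symm (KFlatLib.isFinLocFree_freeMod _)), cl_freeMod, map_nsmul, hone, nsmul_one]

theorem gval_int [IsNoetherian Y] {KP KY : Type v} [CommRing KP] [CommRing KY]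
    (φP : SGA6.Kvb (KRR.PY n Y) →+ KP) (φY : SGA6.Kvb Y →+ KY)
    (hone : φY (KRR.cl Y (Coh.structureModule Y)) = 1)
    (g : KP →+ KY) (hg : KRR.IsPushPr n Y φP φY g) (d : ℕ) :
    g (φP (KRR.cl _ (KRR.twF n Y (-(d : ℤ)) (Coh.structureModule (KRR.PY n Y))))) =
      ((Ring.choose (-(d : ℤ) + n) n : ℤ) : KY) := by
  have hO : FlatMod.IsFinLocFree (Coh.structureModule (KRR.PY n Y)) :=
    H23.PullPush.isFinLocFree_of_iso (coproductUniqueIso fun _ : Fin 1 => Coh.structureModule (KRR.PY n Y))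
      (KFlatLib.isFinLocFree_freeMod 1)
  let ψ := g.comp φP
  let y : ℤ → KY := fun b => ψ (KRR.cl _ (KRR.twF n Y b (Coh.structureModule (KRR.PY n Y))))
  have hy : ∀ a, (fwdDiff (1 : ℤ))^[n + 1] y a = 0 := fun a => by
    have h := congrArg ψ (koszul_relation _ hO a).1
    rw [map_zero] at h
    rw [← h, fwdDiff_iter_eq_sum_shift, fwdDiff_iter_eq_sum_shift, map_sum]
    simp [y]
  have h0 := eq_of_window (n + 1) hy (fun a => congrFun (iter_fwdDiff_choose_int (G := KY) n (n : ℤ)) a) 0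
    (fun k _ => by
      simp only [y, ψ, zero_add, AddMonoidHom.comp_apply]
      beta_reduce
      rw [gval_natCast φP φY hone g hg k, show (k : ℤ) + (n : ℤ) = ((n + k : ℕ) : ℤ) by push_cast; ring,
        Ring.choose_natCast, Int.cast_natCast]) d 0 n.succ_pos
  simpa [y, ψ] using h0

end Groth.Agent.KRR7
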