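import Groth.Agent.KRR7.Square
import Groth.Agent.KRR7.Deg
import Groth.Agent.CMReg7.Res

/-!
# The push-forward on classes of bundles along `P^n_Y ⟶ Y`, and generators of `K(P^n_Y)`
-/

set_option autoImplicit false
set_option linter.style.haveILetI false
set_option linter.unusedSectionVars false
set_option backward.isDefEq.respectTransparency false
universe u v
open CategoryTheory CategoryTheory.Limits AlgebraicGeometry
attribute [local instance] HasDerivedCategory.standard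

namespace Groth.Agent.KRR7

open Groth.Agent
open scoped Groth.Agent.H23.PicMul

variable (n : ℕ) (Y : Scheme.{u}) [IsNoetherian Y]

theorem exists_gP : ∃ g : SGA6.Kvb (KRR.PY n Y) →+ SGA6.Kvb Y,
    PushPrHom n Y (AddMonoidHom.id _) (AddMonoidHom.id _) g := by
  haveI : HasInjectiveResolutions (KRR.PY n Y).Modules := KFlatLib.hasInjectiveResolutions_modules
  haveI := SpObjSS.enoughInjectives_of_hasInjectiveResolutions (C := (KRR.PY n Y).Modules)
  haveI := QCoh.preservesFiniteLimits_push (KRR.pr n Y)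
  have hflf : ∀ M, RB n Y M → FlatMod.IsFinLocFree ((Scheme.Modules.pushforward (KRR.pr n Y)).obj M) := fun M h =>
    CMReg7.isFinLocFree_push_pr h.1 fun i hi => CMReg7.higher_zero M h.2 i hi
  obtain ⟨f, hf⟩ := KZ.exists_liftSub (RB n Y) (fun M => KRR.cl Y ((Scheme.Modules.pushforward (KRR.pr n Y)).obj M))
    fun S hS h₁ h₂ h₃ => KZ.clSub_ses (KRR.vbP Y)
      (TriCat.shortExact_map_of_subsingleton (F := Scheme.Modules.pushforward (KRR.pr n Y)) hS
        ((isZero_rpush_iff S.X₁ 0).1 (CMReg7.higher_zero _ h₁.2 1 le_rfl)))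
      (hflf _ h₁) (hflf _ h₂) (hflf _ h₃)
  have hle : ∀ M : (KRR.PY n Y).Modules, RB n Y M → FlatMod.IsFinLocFree M := fun M h => h.1
  let ι := SGA6.mapSub (𝟭 (KRR.PY n Y).Modules) (RB n Y) (KRR.vbP (KRR.PY n Y)) hle
  have hι : ∀ M, RB n Y M → ι (KZero.clSub (RB n Y) M) = KRR.cl _ M := fun M hM => by
    rw [KZ.clSub_of_prop (RB n Y) hM]
    exact (KZ.clSub_of_prop (KRR.vbP (KRR.PY n Y)) (hle M hM)).symm
  let e := AddEquiv.ofBijective ι (bijective_mapSub hle)
  refine ⟨f.comp e.symm.toAddMonoidHom, fun F hF hreg => ?_⟩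
  show f (e.symm (KRR.cl _ F)) = _
  rw [show e.symm (KRR.cl _ F) = KZero.clSub (RB n Y) F from (AddEquiv.symm_apply_eq e).2 (hι F ⟨hF, hreg⟩).symm]
  exact hf F ⟨hF, hreg⟩

/-- the push-forward `K(P^n_Y) → K(Y)` -/
noncomputable def gP : SGA6.Kvb (KRR.PY n Y) →+ SGA6.Kvb Y := (exists_gP n Y).choose

theorem gP_reg {F : (KRR.PY n Y).Modules} (hF : FlatMod.IsFinLocFree F) (hreg : KRR.IsRegSheaf n Y F) :
    gP n Y (KRR.cl _ F) = KRR.cl Y ((Scheme.Modules.pushforward (KRR.pr n Y)).obj F) :=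
  (exists_gP n Y).choose_spec F hF hreg

variable {n Y}

theorem gP_eq {KP KY : Type v} [AddCommGroup KP] [AddCommGroup KY] (φP : SGA6.Kvb (KRR.PY n Y) →+ KP)
    (φY : SGA6.Kvb Y →+ KY) (g : KP →+ KY) (hg : PushPrHom n Y φP φY g) : g.comp φP = φY.comp (gP n Y) :=
  hom_ext_reg fun F hF hreg => (hg F hF hreg).trans (congrArg φY (gP_reg n Y hF hreg).symm)

theorem flf_twF_pull {E : Y.Modules} (hE : FlatMod.IsFinLocFree E) (a : ℤ) :
    FlatMod.IsFinLocFree (KRR.twF n Y a ((Scheme.Modules.pullback (KRR.pr n Y)).obj E)) :=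
  flf_twF (KFlatLib.isFinLocFree_pullback _ hE) a

theorem nsmul_cl_eq (C : ℕ) {E : Y.Modules} (hE : FlatMod.IsFinLocFree E) :
    KRR.cl Y (((DCoh.tensorBi (X := Y)).obj E).obj (FlatMod.freeMod Y C)) = C • KRR.cl Y E := by
  let T := (DCoh.tensorBi (X := Y)).obj E
  haveI := preservesHomology_tensor hE
  induction C with
  | zero =>
    rw [zero_smul]
    exact KZ.clSub_isZero (KRR.vbP Y) (T.map_isZero KFlatLib.isZero_freeMod_zero)
  | succ C ih =>
    let A := FlatMod.freeMod Y C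
    let B := FlatMod.freeMod Y 1
    let S := ShortComplex.mk (biprod.inl : A ⟶ A ⊞ B) biprod.snd biprod.inl_snd
    let σ : S.Splitting := ShortComplex.Splitting.ofHasBinaryBiproduct _ _
    have hA : FlatMod.IsFinLocFree (T.obj A) := KFlatLib.isFinLocFree_tensor hE (KFlatLib.isFinLocFree_freeMod C)
    have hB : FlatMod.IsFinLocFree (T.obj B) := KFlatLib.isFinLocFree_tensor hE (KFlatLib.isFinLocFree_freeMod 1)
    have hAB : FlatMod.IsFinLocFree (T.obj (A ⊞ B)) :=
      KFlatLib.isFinLocFree_tensor hE (KFlatLib.isFinLocFree_biprod (KFlatLib.isFinLocFree_freeMod C) (KFlatLib.isFinLocFree_freeMod 1))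
    obtain ⟨u⟩ : Nonempty (T.obj B ≅ E) := ⟨T.mapIso (coproductUniqueIso fun _ : Fin 1 => Coh.structureModule Y) ≪≫
      (H23.PicMul.unit E).some⟩
    have h : KRR.cl Y (T.obj (A ⊞ B)) = KRR.cl Y (T.obj A) + KRR.cl Y (T.obj B) :=
      KZ.clSub_ses (KRR.vbP Y) (σ.map T).shortExact hA hAB hB
    rw [cl_iso (T.mapIso (KFlatLib.biprodFreeIso C 1)) hAB, cl_iso u hB, ih] at h
    rw [succ_nsmul]
    exact h

theorem reg_twF_pull {E : Y.Modules} (hE : FlatMod.IsFinLocFree E) (a : ℕ) :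
    KRR.IsRegSheaf n Y (KRR.twF n Y (a : ℤ) ((Scheme.Modules.pullback (KRR.pr n Y)).obj E)) := by
  have h1 := reg_tensor_pull (reg_structureModule (n := n) (Y := Y)) hE
  obtain ⟨u⟩ : Nonempty (CohB1.tensorMod (Coh.structureModule (KRR.PY n Y)) ((Scheme.Modules.pullback (KRR.pr n Y)).obj E) ≅
      KRR.twF n Y 0 ((Scheme.Modules.pullback (KRR.pr n Y)).obj E)) := H23.PicMul.cl_eq_iff.1 (by
    show _ = PicF.cl (CohB1.tensorMod _ _)
    rw [H23.PicMul.cl_tensor, H23.PicMul.cl_tensor, CMReg7.cl_twistOver_zero]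
    rfl)
  exact reg_twF_ge (a := 0) (Int.natCast_nonneg a) (reg_of_iso u h1)

/-- the values of the push-forward on the generators -/
theorem gP_gen {E : Y.Modules} (hE : FlatMod.IsFinLocFree E) (a : ℕ) :
    gP n Y (KRR.cl _ (KRR.twF n Y (a : ℤ) ((Scheme.Modules.pullback (KRR.pr n Y)).obj E))) =
      Nat.choose (n + a) n • KRR.cl Y E := by
  rw [gP_reg n Y (flf_twF_pull hE _) (reg_twF_pull hE a)]
  obtain ⟨e⟩ := nonempty_push_tensor_pull (n := n) (Twist.twistOver n Y (a : ℤ)) hE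
  obtain ⟨p⟩ := nonempty_push_twistOver n Y a
  obtain ⟨b⟩ : Nonempty (CohB1.tensorMod ((Scheme.Modules.pushforward (KRR.pr n Y)).obj (Twist.twistOver n Y (a : ℤ))) E ≅
      ((DCoh.tensorBi (X := Y)).obj E).obj (FlatMod.freeMod Y (Nat.choose (n + a) n))) :=
    nonempty_tensor_congr (by rw [H23.PicMul.cl_eq_iff.2 ⟨p⟩, mul_comm])
  let i : (Scheme.Modules.pushforward (KRR.pr n Y)).obj
      (CohB1.tensorMod (Twist.twistOver n Y (a : ℤ)) ((Scheme.Modules.pullback (KRR.pr n Y)).obj E)) ≅ _ := e ≪≫ b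
  rw [← nsmul_cl_eq (Nat.choose (n + a) n) hE]
  refine (cl_iso i.symm (KFlatLib.isFinLocFree_tensor hE (KFlatLib.isFinLocFree_freeMod _))).symm.trans ?_
  rfl

/-- `K(P^n_Y)` is generated by the classes of the `(p^*E)(a)`, `a ≥ 0` -/
theorem hom_ext_gen {G : Type v} [AddCommGroup G] {f g : SGA6.Kvb (KRR.PY n Y) →+ G}
    (h : ∀ (E : Y.Modules), FlatMod.IsFinLocFree E → ∀ a : ℕ,
      f (KRR.cl _ (KRR.twF n Y (a : ℤ) ((Scheme.Modules.pullback (KRR.pr n Y)).obj E))) =
        g (KRR.cl _ (KRR.twF n Y (a : ℤ) ((Scheme.Modules.pullback (KRR.pr n Y)).obj E)))) : f = g := by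
  have hrec : ∀ (ψ : SGA6.Kvb (KRR.PY n Y) →+ G) (M : (KRR.PY n Y).Modules), FlatMod.IsFinLocFree M → ∀ a : ℤ,
      (fwdDiff (1 : ℤ))^[n + 1] (fun b => ψ (KRR.cl _ (KRR.twF n Y b M))) a = 0 := fun ψ M hM a => by
    have h := congrArg ψ (koszul_relation M hM a).1
    rw [map_zero] at h
    rw [← h, fwdDiff_iter_eq_sum_shift, fwdDiff_iter_eq_sum_shift, map_sum]
    simp
  have hall : ∀ (E : Y.Modules), FlatMod.IsFinLocFree E → ∀ b : ℤ,
      f (KRR.cl _ (KRR.twF n Y b ((Scheme.Modules.pullback (KRR.pr n Y)).obj E))) =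
        g (KRR.cl _ (KRR.twF n Y b ((Scheme.Modules.pullback (KRR.pr n Y)).obj E))) := fun E hE b => by
    rcases Int.eq_nat_or_neg b with ⟨k, rfl | rfl⟩
    · exact h E hE k
    · have hw := eq_of_window (n + 1) (hrec f _ (KFlatLib.isFinLocFree_pullback _ hE))
        (hrec g _ (KFlatLib.isFinLocFree_pullback _ hE)) 0 (fun j _ => by simpa using h E hE j) k 0 n.succ_pos
      simpa using hw
  refine hom_ext_reg fun F hF hreg => ?_
  have hlev := CMReg7.lev_props F (QCoh.isQCoh_of_isFinLocFree hF) hreg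
  haveI := isLocallyNoetherian_PY (n := n) (Y := Y)
  have hflev : ∀ i, FlatMod.IsFinLocFree (CMReg7.lev F i) := by
    intro i
    induction i with
    | zero => exact flf_twF hF _
    | succ i ih =>
      haveI := CMReg7.epi_counit (CMReg7.lev F i) (hlev i).1 (hlev i).2
      obtain ⟨e⟩ := CMReg7.nonempty_lev_succ F i
      have hS : (ShortComplex.mk (kernel.ι (CMReg7.eps (CMReg7.lev F i))) (CMReg7.eps (CMReg7.lev F i))
          (kernel.condition _)).ShortExact := { exact := ShortComplex.exact_kernel _ }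
      exact flf_of_iso e.symm (flf_twF (flf_ker hS (KFlatLib.isFinLocFree_pullback _
        (CMReg7.isFinLocFree_push_pr ih fun q hq => CMReg7.higher_zero _ (hlev i).2 q hq)) ih) 1)
  have key : ∀ (j i : ℕ), n + 1 ≤ i + j → ∀ b : ℤ,
      f (KRR.cl _ (KRR.twF n Y b (CMReg7.lev F i))) = g (KRR.cl _ (KRR.twF n Y b (CMReg7.lev F i))) := by
    intro j
    induction j with
    | zero =>
      intro i hi b
      have hz : IsZero (KRR.twF n Y b (CMReg7.lev F i)) := by
        obtain ⟨h₁, -⟩ := CMReg7.additive_tw (n := n) (T := Y) b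
        obtain ⟨h₂, -⟩ := CMReg7.additive_tw (n := n) (T := Y) (i : ℤ)
        haveI := h₁
        haveI := h₂
        exact (CMReg7.twd n Y b).map_isZero ((CMReg7.twd n Y (i : ℤ)).map_isZero
          (CMReg7.isZero_syz F (QCoh.isQCoh_of_isFinLocFree hF) hreg i (by omega)))
      have h0 : KRR.cl (KRR.PY n Y) (KRR.twF n Y b (CMReg7.lev F i)) = 0 := KZ.clSub_isZero (KRR.vbP _) hz
      rw [h0, map_zero, map_zero]
    | succ j ih =>
      intro i hi b
      haveI := CMReg7.epi_counit (CMReg7.lev F i) (hlev i).1 (hlev i).2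
      have hS : (ShortComplex.mk (kernel.ι (CMReg7.eps (CMReg7.lev F i))) (CMReg7.eps (CMReg7.lev F i))
          (kernel.condition _)).ShortExact := { exact := ShortComplex.exact_kernel _ }
      have hE := CMReg7.isFinLocFree_push_pr (hflev i) fun q hq => CMReg7.higher_zero _ (hlev i).2 q hq
      have hK : FlatMod.IsFinLocFree (kernel (CMReg7.eps (CMReg7.lev F i))) :=
        flf_ker hS (KFlatLib.isFinLocFree_pullback _ hE) (hflev i)
      obtain ⟨e⟩ := CMReg7.nonempty_lev_succ F i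
      obtain ⟨t⟩ := RegSheaf7.twF_twF (n := n) (T := Y) (b - 1) 1 b (by ring) (kernel (CMReg7.eps (CMReg7.lev F i)))
      obtain ⟨h₁, -⟩ := CMReg7.additive_tw (n := n) (T := Y) (b - 1)
      let u : KRR.twF n Y (b - 1) (CMReg7.lev F (i + 1)) ≅ KRR.twF n Y b (kernel (CMReg7.eps (CMReg7.lev F i))) :=
        (CMReg7.twd n Y (b - 1)).mapIso e ≪≫ t
      have hu := ih (i + 1) (by omega) (b - 1)
      rw [cl_iso u (flf_twF (hflev (i + 1)) _)] at hu
      have hrel : KRR.cl _ (KRR.twF n Y b ((Scheme.Modules.pullback (KRR.pr n Y)).obj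
            ((Scheme.Modules.pushforward (KRR.pr n Y)).obj (CMReg7.lev F i)))) =
          KRR.cl _ (KRR.twF n Y b (kernel (CMReg7.eps (CMReg7.lev F i)))) + KRR.cl _ (KRR.twF n Y b (CMReg7.lev F i)) :=
        KZ.clSub_ses (KRR.vbP (KRR.PY n Y)) (RegSheaf7.shortExact_twF b hS) (flf_twF hK b) (flf_twF_pull hE b)
          (flf_twF (hflev i) b)
      have hm := hall _ hE b
      rw [hrel, map_add, map_add, hu] at hm
      exact add_left_cancel hm
  obtain ⟨z⟩ := nonempty_twF_zero (n := n) (Y := Y) F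
  obtain ⟨z'⟩ := nonempty_twF_zero (n := n) (Y := Y) (KRR.twF n Y 0 F)
  have h0 := key (n + 1) 0 (by omega) 0
  rw [cl_iso (show KRR.twF n Y 0 (CMReg7.lev F 0) ≅ F from z' ≪≫ z) (flf_twF (hflev 0) 0)] at h0
  exact h0

end Groth.Agent.KRR7
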