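import Groth.Agent.KRR7.Koszul
import Groth.Agent.CMReg7.PullVanish
import Groth.Agent.NormX.RelVanishing
import Groth.Agent.ChowX.QuasiProj
import Groth.Agent.KZ.Basic
import Groth.Agent.QCoh.Support

/-!
# `K₀` of regular bundles on `P^n_Y` is `K₀` of all bundles
-/

set_option autoImplicit false
set_option linter.style.haveILetI false
set_option backward.isDefEq.respectTransparency false
universe u v w
open CategoryTheory CategoryTheory.Limits AlgebraicGeometry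
attribute [local instance] HasDerivedCategory.standard

namespace Groth.Agent.KRR7

open Groth.Agent

section seq

variable {G : Type w} {H : Type v} [AddCommGroup G] [AddCommGroup H] (N : ℕ)

/-- the value forced at `m` by an `N`-th order difference equation -/
def stepV (y : ℤ → G) (m : ℤ) : G :=
  -((-1 : ℤ) ^ N • ∑ k ∈ Finset.range N, ((-1 : ℤ) ^ (N - (k + 1)) * (N.choose (k + 1) : ℤ)) • y (m + ((k + 1 : ℕ) : ℤ)))

theorem eq_stepV {y : ℤ → G} {m : ℤ} (h : (fwdDiff (1 : ℤ))^[N] y m = 0) : y m = stepV N y m := by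
  rw [fwdDiff_iter_eq_sum_shift, Finset.sum_range_succ'] at h
  simp only [nsmul_one, Nat.sub_zero, Nat.choose_zero_right, Nat.cast_one, mul_one, Nat.cast_zero, add_zero] at h
  rw [stepV, eq_neg_of_add_eq_zero_left h, smul_neg, neg_neg, ← mul_smul, ← pow_add, Even.neg_one_pow ⟨N, rfl⟩, one_smul]

/-- backward extension to `0` from the values at integers `≥ m` -/
noncomputable def ext : ℕ → (ℤ → G) → G
  | 0, y => y 0
  | m + 1, y => ext m (Function.update y (m : ℤ) (stepV N y m))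

theorem stepV_congr {y y' : ℤ → G} {m : ℤ} (h : ∀ a, m < a → y a = y' a) : stepV N y m = stepV N y' m := by
  simp only [stepV]
  congr 2
  exact Finset.sum_congr rfl fun k _ => by rw [h _ (by omega)]

theorem ext_congr : ∀ (m : ℕ) {y y' : ℤ → G}, (∀ a, (m : ℤ) ≤ a → y a = y' a) → ext N m y = ext N m y'
  | 0, y, y', h => h 0 le_rfl
  | m + 1, y, y', h => ext_congr m fun a ha => by
    rcases eq_or_lt_of_le ha with rfl | ha'
    · simp only [Function.update_self]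
      exact stepV_congr N fun a ha => h a (by omega)
    · rw [Function.update_of_ne ha'.ne', Function.update_of_ne ha'.ne']
      exact h a (by omega)

theorem ext_succ_of_rel (m : ℕ) {y : ℤ → G} (h : (fwdDiff (1 : ℤ))^[N] y m = 0) : ext N (m + 1) y = ext N m y := by
  rw [ext, ← eq_stepV N h, Function.update_eq_self]

theorem ext_of_le {m k : ℕ} (hmk : m ≤ k) {y : ℤ → G} (h : ∀ a : ℤ, (m : ℤ) ≤ a → (fwdDiff (1 : ℤ))^[N] y a = 0) :
    ext N k y = ext N m y := by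
  obtain ⟨d, rfl⟩ := Nat.exists_eq_add_of_le hmk
  induction d with
  | zero => rfl
  | succ d ih => rw [← add_assoc, ext_succ_of_rel N (m + d) (h _ (by push_cast; omega)), ih (by omega)]

theorem map_ext (f : G →+ H) : ∀ (m : ℕ) (y : ℤ → G), f (ext N m y) = ext N m (f ∘ y)
  | 0, y => rfl
  | m + 1, y => by
    rw [ext, map_ext f m, ext]
    congr 1
    rw [Function.comp_update]
    congr 1
    simp [stepV]

theorem ext_add : ∀ (m : ℕ) (y y' : ℤ → G), ext N m (y + y') = ext N m y + ext N m y'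
  | 0, y, y' => rfl
  | m + 1, y, y' => by
    rw [ext, ext, ext, ← ext_add m, ← Function.update_add]
    congr 2
    simp only [stepV, Pi.add_apply, smul_add, Finset.sum_add_distrib, neg_add]

/-- two solutions of the difference equation agreeing on `N` consecutive integers are equal -/
theorem eq_of_window {y y' : ℤ → G} (h : ∀ a, (fwdDiff (1 : ℤ))^[N] y a = 0)
    (h' : ∀ a, (fwdDiff (1 : ℤ))^[N] y' a = 0) (c : ℤ) (hw : ∀ k : ℕ, k < N → y (c + k) = y' (c + k)) (d : ℕ) :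
    ∀ k : ℕ, k < N → y (c - (d : ℤ) + k) = y' (c - (d : ℤ) + k) := by
  induction d with
  | zero => simpa using hw
  | succ d ih =>
    intro k hk
    rcases Nat.eq_zero_or_pos k with rfl | hk0
    · rw [eq_stepV N (h _), eq_stepV N (h' _)]
      simp only [stepV]
      congr 2
      refine Finset.sum_congr rfl fun j hj => ?_
      rw [show (c - ((d + 1 : ℕ) : ℤ) + ((0 : ℕ) : ℤ) + ((j + 1 : ℕ) : ℤ)) = c - (d : ℤ) + (j : ℤ) by push_cast; ring,
        ih j (Finset.mem_range.1 hj)]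
    · obtain ⟨j, rfl⟩ : ∃ j, k = j + 1 := ⟨k - 1, by omega⟩
      rw [show (c - ((d + 1 : ℕ) : ℤ) + ((j + 1 : ℕ) : ℤ)) = c - (d : ℤ) + (j : ℤ) by push_cast; ring,
        ih j (by omega)]

end seq

open scoped Groth.Agent.H23.PicMul

variable {n : ℕ} {Y : Scheme.{u}} [IsNoetherian Y]

/-- Serre vanishing: large twists are regular -/
theorem exists_reg_twF (F : (KRR.PY n Y).Modules) (hF : FlatMod.IsFinLocFree F) :
    ∃ m : ℕ, KRR.IsRegSheaf n Y (KRR.twF n Y (m : ℤ) F) := by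
  haveI : HasInjectiveResolutions (KRR.PY n Y).Modules := KFlatLib.hasInjectiveResolutions_modules
  haveI := CMReg7.isProper_pr (n := n) (T := Y)
  haveI := isLocallyNoetherian_PY (n := n) (Y := Y)
  obtain ⟨N, hN⟩ := NormX.exists_vanishing_Rpush (KRR.pr n Y) (L := Twist.twistOver n Y 1)
    (ChowX.isRelAmple_twistOver n Y).2 (RegSheaf7.isInvertible_twistOver 1)
    (QCoh.isCoh_iff_isFP.2 (QCoh.isFP_of_isFinLocFree hF))
  refine ⟨N + n, fun i hi => ?_⟩
  obtain ⟨k, rfl⟩ := Nat.exists_eq_add_of_le' hi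
  by_cases hk : n ≤ k
  · exact CMReg7.isZero_RpushAb_above n Y
      (QCoh.isQCoh_of_isFinLocFree (flf_twF (flf_twF hF _) _)) k hk
  refine (RegSheaf7.isZero_twF_congr (c := ((N + n - (k + 1) : ℕ) : ℤ)) (by push_cast; omega) (k + 1) F).2 ?_
  let m := N + n - (k + 1)
  obtain ⟨e⟩ : Nonempty (KRR.twF n Y (m : ℤ) F ≅ CohB1.tensorMod F (CohB1.tensorPow (Twist.twistOver n Y 1) m)) :=
    H23.PicMul.cl_eq_iff.1 (by
      show PicF.cl (CohB1.tensorMod _ F) = _
      rw [H23.PicMul.cl_tensor]; erw [H23.PicMul.cl_tensor]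
      rw [H23.PicMul.cl_tensorPow, CMReg7.cl_twistOver_pow]
      exact CommMonoid.mul_comm _ _)
  obtain ⟨a⟩ := QCoh.nonempty_RpushAb_iso (KRR.pr n Y) (KRR.twF n Y (m : ℤ) F) k
  obtain ⟨b⟩ := QCoh.nonempty_Rpush_iso (KRR.pr n Y) (KRR.twF n Y (m : ℤ) F) k
  exact IsZero.of_iso ((QCoh.toAbFunctor Y).map_isZero
    ((hN m (by omega) k).of_iso ((Coh.Rpush (KRR.pr n Y) (k + 1)).mapIso e))) (a ≪≫ (QCoh.toAbFunctor Y).mapIso b.symm)

theorem nonempty_twF_zero (F : (KRR.PY n Y).Modules) : Nonempty (KRR.twF n Y 0 F ≅ F) :=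
  H23.PicMul.cl_eq_iff.1 (by
    show PicF.cl (CohB1.tensorMod _ F) = _
    rw [H23.PicMul.cl_tensor, CMReg7.cl_twistOver_zero, one_mul])

theorem clSub_RB_iso {F G : (KRR.PY n Y).Modules} (e : F ≅ G) (hF : RB n Y F) :
    KZero.clSub (RB n Y) F = KZero.clSub (RB n Y) G :=
  KZ.clSub_iso (RB n Y) e hF ⟨flf_of_iso e hF.1, reg_of_iso e hF.2⟩ (isZero_zero _)
    ⟨KFlatLib.isFinLocFree_of_isZero (isZero_zero _), reg_of_isZero (isZero_zero _)⟩

theorem cl_iso {X : Scheme.{u}} {F G : X.Modules} (e : F ≅ G) (hF : FlatMod.IsFinLocFree F) :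
    KRR.cl X F = KRR.cl X G :=
  KZ.clSub_iso (KRR.vbP X) e hF (flf_of_iso e hF) (isZero_zero _) (KFlatLib.isFinLocFree_of_isZero (isZero_zero _))

theorem shortExact_map_twF {S : ShortComplex (KRR.PY n Y).Modules} (hS : S.ShortExact) (b : ℤ) :
    ∃ S' : ShortComplex (KRR.PY n Y).Modules, S'.ShortExact ∧ S'.X₁ = KRR.twF n Y b S.X₁ ∧
      S'.X₂ = KRR.twF n Y b S.X₂ ∧ S'.X₃ = KRR.twF n Y b S.X₃ :=
  ⟨_, RegSheaf7.shortExact_twF b hS, rfl, rfl, rfl⟩

/-- the inverse of `K(regular bundles) → K(bundles)` -/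
theorem exists_toReg : ∃ ρ : SGA6.Kvb (KRR.PY n Y) →+ KZero.K0sub (RB n Y),
    ∀ (F : (KRR.PY n Y).Modules), FlatMod.IsFinLocFree F → ∀ (k : ℕ), KRR.IsRegSheaf n Y (KRR.twF n Y (k : ℤ) F) →
      ρ (KRR.cl _ F) = ext (n + 1) k (fun b => KZero.clSub (RB n Y) (KRR.twF n Y b F)) := by
  classical
  let y : (KRR.PY n Y).Modules → ℤ → KZero.K0sub (RB n Y) := fun F b => KZero.clSub (RB n Y) (KRR.twF n Y b F)
  let φ : (KRR.PY n Y).Modules → KZero.K0sub (RB n Y) := fun F =>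
    if h : FlatMod.IsFinLocFree F then ext (n + 1) (Nat.find (exists_reg_twF F h)) (y F) else 0
  have key : ∀ (F : (KRR.PY n Y).Modules), FlatMod.IsFinLocFree F → ∀ k : ℕ,
      KRR.IsRegSheaf n Y (KRR.twF n Y (k : ℤ) F) → φ F = ext (n + 1) k (y F) := fun F hF k hk => by
    simp only [φ, dif_pos hF]
    exact (ext_of_le (n + 1) (Nat.find_le hk) fun a ha =>
      (koszul_relation F hF a).2 (reg_twF_ge ha (Nat.find_spec (exists_reg_twF F hF)))).symm
  have hadd : ∀ S : ShortComplex (KRR.PY n Y).Modules, S.ShortExact → FlatMod.IsFinLocFree S.X₁ →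
      FlatMod.IsFinLocFree S.X₂ → FlatMod.IsFinLocFree S.X₃ → φ S.X₂ = φ S.X₁ + φ S.X₃ := fun S hS h₁ h₂ h₃ => by
    obtain ⟨k₁, hk₁⟩ := exists_reg_twF S.X₁ h₁
    obtain ⟨k₂, hk₂⟩ := exists_reg_twF S.X₂ h₂
    obtain ⟨k₃, hk₃⟩ := exists_reg_twF S.X₃ h₃
    let k := k₁ + k₂ + k₃
    rw [key _ h₁ k (reg_twF_ge (by push_cast [k]; omega) hk₁), key _ h₂ k (reg_twF_ge (by push_cast [k]; omega) hk₂),
      key _ h₃ k (reg_twF_ge (by push_cast [k]; omega) hk₃), ← ext_add]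
    refine ext_congr (n + 1) k fun a ha => ?_
    obtain ⟨S', hS', e₁, e₂, e₃⟩ := shortExact_map_twF hS a
    have h := KZ.clSub_ses (RB n Y) hS'
      (by rw [e₁]; exact ⟨flf_twF h₁ a, reg_twF_ge (by push_cast [k] at ha; omega) hk₁⟩)
      (by rw [e₂]; exact ⟨flf_twF h₂ a, reg_twF_ge (by push_cast [k] at ha; omega) hk₂⟩)
      (by rw [e₃]; exact ⟨flf_twF h₃ a, reg_twF_ge (by push_cast [k] at ha; omega) hk₃⟩)
    rw [e₁, e₂, e₃] at h
    exact h
  obtain ⟨ρ, hρ⟩ := KZ.exists_liftSub (KRR.vbP (KRR.PY n Y)) φ hadd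
  exact ⟨ρ, fun F hF k hk => (hρ F hF).trans (key F hF k hk)⟩

/-- homomorphisms on `K(P^n_Y)` are determined by regular bundles -/
theorem hom_ext_reg {G : Type w} [AddCommGroup G] {f g : SGA6.Kvb (KRR.PY n Y) →+ G}
    (h : ∀ F, FlatMod.IsFinLocFree F → KRR.IsRegSheaf n Y F → f (KRR.cl _ F) = g (KRR.cl _ F)) : f = g := by
  refine KZ.K0sub_hom_ext (KRR.vbP (KRR.PY n Y)) fun F hF => ?_
  obtain ⟨m, hm⟩ := exists_reg_twF F hF
  let c := fun b => KRR.cl _ (KRR.twF n Y b F)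
  have hc : ext (n + 1) m c = KRR.cl _ F := by
    rw [ext_of_le (n + 1) (Nat.zero_le m) fun a _ => (koszul_relation F hF a).1]
    obtain ⟨e⟩ := nonempty_twF_zero F
    exact cl_iso e (flf_twF hF 0)
  have he : f (KRR.cl _ F) = g (KRR.cl _ F) := by
    rw [← hc, map_ext, map_ext]
    exact ext_congr (n + 1) m fun a ha => h _ (flf_twF hF a) (reg_twF_ge ha hm)
  exact he

theorem bijective_mapSub
    (h : ∀ M : (KRR.PY n Y).Modules, RB n Y M → FlatMod.IsFinLocFree M) :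
    Function.Bijective (SGA6.mapSub (𝟭 (KRR.PY n Y).Modules) (RB n Y) (KRR.vbP (KRR.PY n Y)) h) := by
  let ι := SGA6.mapSub (𝟭 (KRR.PY n Y).Modules) (RB n Y) (KRR.vbP (KRR.PY n Y)) h
  have hι : ∀ M, RB n Y M → ι (KZero.clSub (RB n Y) M) = KRR.cl _ M := fun M hM => by
    rw [KZ.clSub_of_prop (RB n Y) hM]
    exact (KZ.clSub_of_prop (KRR.vbP (KRR.PY n Y)) (h M hM)).symm
  obtain ⟨ρ, hρ⟩ := exists_toReg (n := n) (Y := Y)
  have h1 : ρ.comp ι = AddMonoidHom.id _ := KZ.K0sub_hom_ext (RB n Y) fun M hM => by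
    obtain ⟨e⟩ := nonempty_twF_zero M
    have hr : KRR.IsRegSheaf n Y (KRR.twF n Y ((0 : ℕ) : ℤ) M) := reg_of_iso e.symm hM.2
    rw [AddMonoidHom.comp_apply, hι M hM, hρ M hM.1 0 hr]
    exact clSub_RB_iso e ⟨flf_twF hM.1 0, hr⟩
  have h2 : ι.comp ρ = AddMonoidHom.id _ := hom_ext_reg fun F hF hr => by
    have h1' : ρ (ι (KZero.clSub (RB n Y) F)) = KZero.clSub (RB n Y) F := DFunLike.congr_fun h1 _
    rw [hι F ⟨hF, hr⟩] at h1'
    rw [AddMonoidHom.comp_apply, h1', hι F ⟨hF, hr⟩]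
    rfl
  exact Function.bijective_iff_has_inverse.2 ⟨ρ, fun x => DFunLike.congr_fun h1 x, fun x => DFunLike.congr_fun h2 x⟩

end Groth.Agent.KRR7
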