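import Groth.Agent.KRR7.Tower
import Groth.Agent.KFlatLib.Scheme.Pullback
import Groth.Agent.HomShX.Basic

/-!
# Pull-back on classes of bundles
-/

set_option autoImplicit false
set_option linter.style.haveILetI false
set_option linter.unusedSectionVars false
set_option backward.isDefEq.respectTransparency false
universe u v
open CategoryTheory CategoryTheory.Limits AlgebraicGeometry
attribute [local instance] HasDerivedCategory.standard

namespace Groth.Agent.KRR7

open Groth.Agent

variable {X Y : Scheme.{u}}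

/-- `KRR.IsPull` without the ring structures -/
def PullHom (f : X ⟶ Y) {KY KX : Type v} [AddCommGroup KY] [AddCommGroup KX] (φY : SGA6.Kvb Y →+ KY)
    (φX : SGA6.Kvb X →+ KX) (g : KY →+ KX) : Prop :=
  ∀ E : Y.Modules, FlatMod.IsFinLocFree E →
    g (φY (KRR.cl Y E)) = φX (KRR.cl X ((Scheme.Modules.pullback f).obj E))

theorem shortExact_pullback_flf (f : X ⟶ Y) {S : ShortComplex Y.Modules} (hS : S.ShortExact)
    (h₃ : FlatMod.IsFinLocFree S.X₃) : (S.map (Scheme.Modules.pullback f)).ShortExact := by
  haveI := (Scheme.Modules.pullbackPushforwardAdjunction f).isLeftAdjoint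
  haveI := hS.mono_f
  haveI := hS.epi_g
  haveI : (Scheme.Modules.pullback f).Additive := Functor.additive_of_preserves_binary_products _
  have hex := (Functor.preservesFiniteColimits_iff_forall_exact_map_and_epi (Scheme.Modules.pullback f)).1
    inferInstance S hS
  haveI : Epi ((S.map (Scheme.Modules.pullback f)).g) := hex.2
  haveI : Mono ((S.map (Scheme.Modules.pullback f)).f) := by
    have hx : ∀ x : X, Mono ((DerSch.stalkFunctor X x).map ((Scheme.Modules.pullback f).map S.f)) := fun x => by
      have hs := KZ.LFRes.stk_shortExact hS (f x)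
      haveI : Module.Free (Y.presheaf.stalk (f x)) (S.X₃.presheaf.stalk (f x)) := QCoh.free_stalk_of_isFinLocFree h₃ _
      haveI : Projective ((S.map (DerSch.stalkFunctor Y (f x))).X₃) :=
        (IsProjective.iff_projective (R := Y.presheaf.stalk (f x)) (S.X₃.presheaf.stalk (f x))).1 inferInstance
      let σ := hs.splittingOfProjective
      haveI : Mono ((ModuleCat.extendScalars (f.stalkMap x).hom).map ((DerSch.stalkFunctor Y (f x)).map S.f)) :=
        (σ.map (ModuleCat.extendScalars (f.stalkMap x).hom)).isSplitMono_f.mono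
      exact ((MorphismProperty.monomorphisms _).arrow_mk_iso_iff
        (Arrow.isoMk ((KFlatLib.stalkPullbackIso f x).app S.X₁) ((KFlatLib.stalkPullbackIso f x).app S.X₂)
          ((KFlatLib.stalkPullbackIso f x).hom.naturality S.f).symm)).2 inferInstance
    refine HomShX.mono_of_stalk _ fun x => ?_
    haveI := hx x
    exact (ModuleCat.mono_iff_injective ((DerSch.stalkFunctor X x).map ((Scheme.Modules.pullback f).map S.f))).1 inferInstance
  exact { exact := hex.1 }

theorem exists_pullHom (f : X ⟶ Y) : ∃ g : SGA6.Kvb Y →+ SGA6.Kvb X,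
    PullHom f (AddMonoidHom.id _) (AddMonoidHom.id _) g := by
  obtain ⟨g, hg⟩ := KZ.exists_liftSub (KRR.vbP Y) (fun M => KRR.cl X ((Scheme.Modules.pullback f).obj M))
    fun S hS h₁ h₂ h₃ => KZ.clSub_ses (KRR.vbP X) (shortExact_pullback_flf f hS h₃)
      (KFlatLib.isFinLocFree_pullback f h₁) (KFlatLib.isFinLocFree_pullback f h₂) (KFlatLib.isFinLocFree_pullback f h₃)
  exact ⟨g, fun E hE => hg E hE⟩

theorem pullHom_eq (f : X ⟶ Y) {KY KX : Type v} [AddCommGroup KY] [AddCommGroup KX] {φY : SGA6.Kvb Y →+ KY}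
    {φX : SGA6.Kvb X →+ KX} {g : KY →+ KX} (hg : PullHom f φY φX g) {c : SGA6.Kvb Y →+ SGA6.Kvb X}
    (hc : PullHom f (AddMonoidHom.id _) (AddMonoidHom.id _) c) : g.comp φY = φX.comp c :=
  KZ.K0sub_hom_ext (KRR.vbP Y) fun E hE => (hg E hE).trans (congrArg φX (hc E hE).symm)

theorem existsUnique_pullHom (f : X ⟶ Y) {KY KX : Type v} [AddCommGroup KY] [AddCommGroup KX]
    (φY : SGA6.Kvb Y →+ KY) (hY : Function.Bijective φY) (φX : SGA6.Kvb X →+ KX) :
    ∃! g : KY →+ KX, PullHom f φY φX g := by
  obtain ⟨c, hc⟩ := exists_pullHom f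
  let e := AddEquiv.ofBijective φY hY
  refine ⟨(φX.comp c).comp e.symm.toAddMonoidHom, fun E hE => ?_, fun g hg => ?_⟩
  · show φX (c (e.symm (φY _))) = _
    rw [show e.symm (φY (KRR.cl Y E)) = KRR.cl Y E from e.symm_apply_apply _]
    exact congrArg φX (hc E hE)
  · refine AddMonoidHom.ext fun y => ?_
    obtain ⟨z, rfl⟩ := hY.2 y
    show (g.comp φY) z = φX (c (e.symm (φY z)))
    rw [pullHom_eq f hg hc, show e.symm (φY z) = z from e.symm_apply_apply _]
    rfl

end Groth.Agent.KRR7
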