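import Groth.Agent.ExtPow7.PullMat
import Groth.Agent.ExtPow7.Rank
import Groth.Agent.KRR7.Pull
import Groth.Agent.KRR7.Gen
import Groth.Agent.PicClLib.Basic

/-!
# The inverse image on models of `K(X)` is an augmented `λ`-homomorphism
-/

set_option autoImplicit false
set_option linter.style.haveILetI false
set_option linter.unusedSectionVars false
set_option backward.isDefEq.respectTransparency false
universe u v w
open CategoryTheory CategoryTheory.Limits AlgebraicGeometry
attribute [local instance] HasDerivedCategory.standard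

namespace Groth.Agent.KRR7

open Groth.Agent
open scoped Groth.Agent.H23.PicMul

theorem isFinLocFreeOfRank_pullback {X Y : Scheme.{u}} (f : X ⟶ Y) {n : ℕ} {E : Y.Modules}
    (hE : FlatMod.IsFinLocFreeOfRank n E) : FlatMod.IsFinLocFreeOfRank n ((Scheme.Modules.pullback f).obj E) := by
  choose U hU e using hE
  choose s hs using fun y => H23.Frame.exists_frame (e y).some
  exact fun x => ⟨_, hU (f x), H23.Frame.exists_iso_of_frame _ (ExtPow7.isFrame_pullElt (n := fun _ => n) f hs hU x)⟩

theorem flf_of_rank {Z : Scheme.{u}} {n : ℕ} {E : Z.Modules} (hE : FlatMod.IsFinLocFreeOfRank n E) :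
    FlatMod.IsFinLocFree E := fun x => let ⟨U, hU, he⟩ := hE x; ⟨U, n, hU, he⟩

theorem lamSeries_add' {K : Type v} [CommRing K] [LambdaRing.LambdaOps K] (a b : K) :
    LambdaRing.lamSeries (a + b) = LambdaRing.lamSeries a * LambdaRing.lamSeries b := by
  ext k
  rw [PowerSeries.coeff_mul, Finset.Nat.sum_antidiagonal_eq_sum_range_succ
    (fun i j => PowerSeries.coeff i (LambdaRing.lamSeries a) * PowerSeries.coeff j (LambdaRing.lamSeries b))]
  simp only [LambdaRing.lamSeries, PowerSeries.coeff_mk, LambdaRing.LambdaOps.lam_add]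

variable {X Y : Scheme.{u}} {KY : Type v} {KX : Type w} [CommRing KY] [CommRing KX] [LambdaRing.LambdaOps KY]
  [LambdaRing.LambdaOps KX] {PY : LambdaRing.PosStructure KY} {PX : LambdaRing.PosStructure KX}
  {φY : SGA6.Kvb Y →+ KY} {φX : SGA6.Kvb X →+ KX}

theorem model_hom_ext (hY : KRR.IsModel Y KY PY φY) {A : Type w} [AddCommGroup A] {a b : KY →+ A}
    (h : ∀ E : Y.Modules, FlatMod.IsFinLocFree E → a (φY (KRR.cl Y E)) = b (φY (KRR.cl Y E))) : a = b := by
  refine AddMonoidHom.ext fun y => ?_
  obtain ⟨z, rfl⟩ := hY.bijective.2 y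
  exact DFunLike.congr_fun (KZ.K0sub_hom_ext (KRR.vbP Y) (f := a.comp φY) (g := b.comp φY) fun E hE => h E hE) z

variable (hY : KRR.IsModel Y KY PY φY) (hX : KRR.IsModel X KX PX φX) {f : X ⟶ Y} {g : KY →+ KX}
  (hg : KRR.IsPull f φY φX g)

include hY hX hg

theorem pull_map_one : g 1 = 1 := by
  rw [← hY.map_one, hg _ (ExtPow7.Lam.flf_O), ← hX.map_one]
  exact congrArg φX (cl_iso (PicClLib.nonempty_pullback_structureModule f).some
    (KFlatLib.isFinLocFree_pullback f ExtPow7.Lam.flf_O))

theorem pull_map_mul (x y : KY) : g (x * y) = g x * g y := by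
  let a : KY →+ KY →+ KX := (AddMonoidHom.compHom g).comp AddMonoidHom.mul
  let b : KY →+ KY →+ KX := (AddMonoidHom.compHom.flip g).comp ((AddMonoidHom.mul (R := KX)).comp g)
  refine DFunLike.congr_fun (DFunLike.congr_fun (model_hom_ext hY (a := a) (b := b) fun E hE =>
    model_hom_ext hY fun F hF => ?_) x) y
  show g (φY _ * φY _) = g (φY _) * g (φY _)
  rw [hY.map_mul E F hE hF, hg _ (ExtPow7.Lam.flf_tensor hE hF), hg E hE, hg F hF,
    hX.map_mul _ _ (KFlatLib.isFinLocFree_pullback f hE) (KFlatLib.isFinLocFree_pullback f hF)]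
  exact congrArg φX (cl_iso (H23.PicMul.pull f E F).some
    (KFlatLib.isFinLocFree_pullback f (ExtPow7.Lam.flf_tensor hE hF)))

/-- The inverse image as a ring homomorphism. -/
def pullRingHom : KY →+* KX :=
  { g with map_one' := pull_map_one hY hX hg, map_mul' := pull_map_mul hY hX hg }

theorem pull_lam_cl (i : ℕ) {E : Y.Modules} (hE : FlatMod.IsFinLocFree E) :
    g (LambdaRing.LambdaOps.lam i (φY (KRR.cl Y E))) = LambdaRing.LambdaOps.lam i (g (φY (KRR.cl Y E))) := by
  obtain ⟨L, hL, hLf⟩ := ExtPow7.exists_isExtPow hE i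
  have hE' := KFlatLib.isFinLocFree_pullback f hE
  obtain ⟨L', hL', hLf'⟩ := ExtPow7.exists_isExtPow hE' i
  rw [hY.map_lam i E L hE hLf hL, hg _ hLf, hg _ hE, hX.map_lam i _ L' hE' hLf' hL']
  exact congrArg φX (cl_iso (ExtPow7.nonempty_iso_pullback_isExtPow f hE hL hL').some
    (KFlatLib.isFinLocFree_pullback f hLf))

theorem pull_lam (i : ℕ) (x : KY) :
    g (LambdaRing.LambdaOps.lam i x) = LambdaRing.LambdaOps.lam i (g x) := by
  have hunit : ∀ a : KX, IsUnit (LambdaRing.lamSeries a) := fun a => by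
    rw [PowerSeries.isUnit_iff_constantCoeff, ← PowerSeries.coeff_zero_eq_constantCoeff_apply, LambdaRing.lamSeries,
      PowerSeries.coeff_mk, LambdaRing.LambdaOps.lam_zero]
    exact isUnit_one
  let G := pullRingHom hY hX hg
  have hpos : ∀ e ∈ PY.pos, (LambdaRing.lamSeries e).map G = LambdaRing.lamSeries (g e) := fun e he => by
    obtain ⟨n, E, -, hE, rfl⟩ := (hY.mem_pos_iff e).1 he
    ext k
    simp only [LambdaRing.lamSeries, PowerSeries.coeff_map, PowerSeries.coeff_mk]
    exact pull_lam_cl hY hX hg k (flf_of_rank hE)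
  obtain ⟨e, e', he, he', rfl⟩ := PY.exists_sub x
  have key : (LambdaRing.lamSeries (e - e')).map G = LambdaRing.lamSeries (g (e - e')) :=
    (hunit (g e')).mul_left_injective (by
      show _ * LambdaRing.lamSeries (g e') = _ * LambdaRing.lamSeries (g e')
      rw [← lamSeries_add', ← map_add, sub_add_cancel]
      conv_lhs => rw [← hpos e' he', ← map_mul, ← lamSeries_add', sub_add_cancel, hpos e he])
  have := congrArg (PowerSeries.coeff i) key
  simp only [LambdaRing.lamSeries, PowerSeries.coeff_map, PowerSeries.coeff_mk] at this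
  exact this

theorem pull_aug (x : KY) : PX.aug (g x) = PY.aug x := by
  have hpos : ∀ e ∈ PY.pos, PX.aug (g e) = PY.aug e := fun e he => by
    obtain ⟨n, E, -, hE, rfl⟩ := (hY.mem_pos_iff e).1 he
    rw [hg _ (flf_of_rank hE), hX.aug_cl _ _ (isFinLocFreeOfRank_pullback f hE), hY.aug_cl _ _ hE]
  obtain ⟨e, e', he, he', rfl⟩ := PY.exists_sub x
  rw [map_sub g, map_sub, map_sub, hpos e he, hpos e' he']

theorem pull_mem_pos {x : KY} (hx : x ∈ PY.pos) : g x ∈ PX.pos := by
  obtain ⟨n, E, hn, hE, rfl⟩ := (hY.mem_pos_iff x).1 hx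
  exact (hX.mem_pos_iff _).2 ⟨n, _, hn, isFinLocFreeOfRank_pullback f hE, (hg _ (flf_of_rank hE)).symm⟩

theorem pull_gamma (k : ℕ) (x : KY) : g (LambdaRing.gamma k x) = LambdaRing.gamma k (g x) := by
  rcases eq_or_ne k 0 with rfl | hk
  · simp [LambdaRing.gamma, pull_map_one hY hX hg]
  · simp only [LambdaRing.gamma, if_neg hk]
    show pullRingHom hY hX hg _ = _
    rw [map_sum]
    refine Finset.sum_congr rfl fun j _ => ?_
    rw [map_mul, map_natCast]
    split_ifs
    · rw [map_zero]
    · exact congrArg (_ * ·) (pull_lam hY hX hg j x)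

theorem pull_gammaFiltration {k : ℕ} {x : KY}
    (hx : x ∈ LambdaRing.gammaFiltration PY k) : g x ∈ LambdaRing.gammaFiltration PX k := by
  rcases eq_or_ne k 0 with rfl | hk
  · simp [LambdaRing.gammaFiltration]
  · rw [LambdaRing.gammaFiltration, if_neg hk] at hx ⊢
    induction hx using AddSubgroup.closure_induction with
    | mem y hy =>
      obtain ⟨l, hl, hsum, rfl⟩ := hy
      refine AddSubgroup.subset_closure ⟨l.map fun p => (p.1, g p.2), fun p hp => ?_, ?_, ?_⟩
      · obtain ⟨p, hp', rfl⟩ := List.mem_map.1 hp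
        exact (pull_aug hY hX hg p.2).trans (hl p hp')
      · simpa [List.map_map, Function.comp_def] using hsum
      · show pullRingHom hY hX hg _ = _
        rw [map_list_prod, List.map_map, List.map_map]
        exact congrArg List.prod (List.map_congr_left fun p _ => pull_gamma hY hX hg p.1 p.2)
    | zero => rw [map_zero]; exact zero_mem _
    | add y z _ _ hy hz => rw [map_add]; exact add_mem hy hz
    | neg y _ hy => rw [map_neg]; exact neg_mem hy

end Groth.Agent.KRR7
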