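import Groth.Agent.KRR7.PushFil
import Groth.Agent.Lambda7.AdamsTwist
import Groth.Agent.Lambda7.Residue
import Groth.Agent.Lambda.Elem

/-!
# Adams–Riemann–Roch for `P^n_Y ⟶ Y`
-/

set_option autoImplicit false
set_option linter.style.haveILetI false
set_option linter.unusedSectionVars false
set_option backward.isDefEq.respectTransparency false
universe u v w
open CategoryTheory CategoryTheory.Limits AlgebraicGeometry
open scoped TensorProduct
attribute [local instance] HasDerivedCategory.standard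

namespace Groth.Agent.KRR7

open Groth.Agent
open scoped Groth.Agent.H23.PicMul

variable {R : Type w} {A : Type*} [CommRing R] [CommRing A] [Algebra R A] {V : A} {N : ℕ}

/-- Evaluation of series at a nilpotent element. -/
noncomputable def evalNil (hV : V ^ N = 0) : PowerSeries R →+* A where
  toFun f := Polynomial.aeval V (PowerSeries.trunc N f)
  map_one' := by
    rcases N with _ | N
    · haveI := subsingleton_iff_zero_eq_one.1 (by simpa using hV.symm : (0 : A) = 1)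
      exact Subsingleton.elim _ _
    · rw [PowerSeries.trunc_one, map_one]
  map_mul' f g := by
    have key : ∀ p : Polynomial R, Polynomial.aeval V (PowerSeries.trunc N (p : PowerSeries R)) = Polynomial.aeval V p := fun p => by
      obtain ⟨r, hr⟩ : Polynomial.X ^ N ∣ p - PowerSeries.trunc N (p : PowerSeries R) :=
        Polynomial.X_pow_dvd_iff.2 fun d hd => by
          rw [Polynomial.coeff_sub, PowerSeries.coeff_trunc, if_pos hd, Polynomial.coeff_coe, sub_self]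
      have := congrArg (Polynomial.aeval V) hr
      rw [map_sub, map_mul, map_pow, Polynomial.aeval_X, hV, zero_mul, sub_eq_zero] at this
      exact this.symm
    rw [← map_mul, ← key (PowerSeries.trunc N f * PowerSeries.trunc N g), Polynomial.coe_mul,
      PowerSeries.trunc_trunc_mul_trunc]
  map_zero' := by rw [map_zero, map_zero]
  map_add' f g := by rw [map_add, map_add]

theorem evalNil_X (hV : V ^ N = 0) : evalNil (R := R) hV PowerSeries.X = V := by
  show Polynomial.aeval V (PowerSeries.trunc N (PowerSeries.X : PowerSeries R)) = V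
  rcases N with _ | _ | N
  · haveI := subsingleton_iff_zero_eq_one.1 (by simpa using hV.symm : (0 : A) = 1)
    exact Subsingleton.elim _ _
  · rw [show PowerSeries.trunc 1 (PowerSeries.X : PowerSeries R) = 0 from
      Polynomial.ext fun d => by simp [PowerSeries.coeff_X], map_zero]
    simpa using hV.symm
  · rw [PowerSeries.trunc_X, Polynomial.aeval_X]

variable {n : ℕ} {Y : Scheme.{u}} [IsNoetherian Y]
  {KP KY : Type v} [CommRing KP] [CommRing KY] [LambdaRing.LambdaOps KP] [LambdaRing.LambdaOps KY]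
  {PP : LambdaRing.PosStructure KP} {PY : LambdaRing.PosStructure KY}
  {φP : SGA6.Kvb (KRR.PY n Y) →+ KP} {φY : SGA6.Kvb Y →+ KY}
  (hKP : KRR.IsModel (KRR.PY n Y) KP PP φP) (hKY : KRR.IsModel Y KY PY φY)
  {g : KP →+ KY} (hg : KRR.IsPushPr n Y φP φY g) {q : KY →+ KP} (hq : KRR.IsPull (KRR.pr n Y) φY φP q)

include hKP hKY hg hq

theorem push_pow (y : KY) : ∀ (i a : ℕ), i ≤ n →
    g (q y * ((ell φP - 1) ^ i * ell φP ^ a)) = Nat.choose (n + a) (n - i) • y
  | 0, a, _ => by rw [pow_zero, one_mul, Nat.sub_zero, push_gen hKP hKY hg hq]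
  | i + 1, a, h => by
    rw [show q y * ((ell φP - 1) ^ (i + 1) * ell φP ^ a) =
      q y * ((ell φP - 1) ^ i * ell φP ^ (a + 1)) - q y * ((ell φP - 1) ^ i * ell φP ^ a) by ring,
      map_sub, push_pow y i (a + 1) (by omega), push_pow y i a (by omega),
      show n - i = n - (i + 1) + 1 by omega, ← Nat.add_assoc n a 1, Nat.choose_succ_succ', add_nsmul,
      add_sub_cancel_right]

variable {S : Type w} [CommRing S]

theorem lTensor_evalNil (hV : ((1 : S) ⊗ₜ[ℤ] (ell φP - 1)) ^ (n + 1) = 0) (y : KY) (f : PowerSeries S) :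
    LinearMap.lTensor S g.toIntLinearMap ((1 : S) ⊗ₜ[ℤ] q y * evalNil hV f) =
      PowerSeries.coeff n ((1 + PowerSeries.X) ^ n * f) ⊗ₜ[ℤ] y := by
  show LinearMap.lTensor S g.toIntLinearMap
    ((1 : S) ⊗ₜ[ℤ] q y * Polynomial.aeval ((1 : S) ⊗ₜ[ℤ] (ell φP - 1)) (PowerSeries.trunc (n + 1) f)) = _
  rw [Polynomial.aeval_eq_sum_range' (PowerSeries.natDegree_trunc_lt f n), Finset.mul_sum, map_sum,
    PowerSeries.coeff_mul, Finset.Nat.sum_antidiagonal_eq_sum_range_succ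
      (fun i j => PowerSeries.coeff i ((1 + PowerSeries.X : PowerSeries S) ^ n) * PowerSeries.coeff j f),
    TensorProduct.sum_tmul, ← Finset.sum_range_reflect (fun i =>
      (PowerSeries.coeff i ((1 + PowerSeries.X : PowerSeries S) ^ n) * PowerSeries.coeff (n - i) f) ⊗ₜ[ℤ] y)]
  refine Finset.sum_congr rfl fun i hi => ?_
  have hin : i ≤ n := Nat.lt_succ_iff.1 (Finset.mem_range.1 hi)
  rw [PowerSeries.coeff_trunc, if_pos (Nat.lt_succ_of_le hin), Algebra.TensorProduct.tmul_pow, one_pow,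
    TensorProduct.smul_tmul', Algebra.TensorProduct.tmul_mul_tmul, one_mul, smul_eq_mul, mul_one,
    LinearMap.lTensor_tmul]
  have h := push_pow hKP hKY hg hq y i 0 hin
  rw [pow_zero, mul_one, Nat.add_zero] at h
  rw [show g.toIntLinearMap (q y * (ell φP - 1) ^ i) = Nat.choose n (n - i) • y from h,
    TensorProduct.tmul_smul, TensorProduct.smul_tmul']
  congr 1
  rw [show n + 1 - 1 - i = n - i by omega, show n - (n - i) = i by omega, nsmul_eq_mul,
    show ((1 : PowerSeries S) + PowerSeries.X) ^ n =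
      (((1 + Polynomial.X : Polynomial S) ^ n : Polynomial S) : PowerSeries S) by simp,
    Polynomial.coeff_coe, Polynomial.coeff_one_add_X_pow]

theorem adams_push [IsAddTorsionFree S] (j : ℕ) (hj : 1 ≤ j) (hjS : IsUnit (j : S)) :
    ∃ w : S ⊗[ℤ] KP, w * ((1 : S) ⊗ₜ[ℤ] KRR.bott PP j (φP (KRR.cl (KRR.PY n Y)
      (KRR.twF n Y (-1) ((Scheme.Modules.pullback (KRR.pr n Y)).obj (FlatMod.freeMod Y (n + 1))))))) = 1 ∧
      ∀ z : KP, (1 : S) ⊗ₜ[ℤ] LambdaRing.adams PY j (g z) =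
        LinearMap.lTensor S g.toIntLinearMap ((j : S ⊗[ℤ] KP) * ((1 : S) ⊗ₜ[ℤ] LambdaRing.adams PP j z) * w) := by
  have hℓ := RegSheaf7.isInvertible_twistOver (n := n) (T := Y) 1
  have hℓ' := RegSheaf7.isInvertible_twistOver (n := n) (T := Y) (-1)
  set ℓ := ell φP with hℓdef
  set ℓ' := φP (KRR.cl (KRR.PY n Y) (Twist.twistOver n Y (-1))) with hℓ'def
  have hℓline : PP.IsLine ℓ := ⟨(hKP.mem_pos_iff _).2 ⟨1, _, le_rfl, InvEnd.isFinLocFreeOfRank_one hℓ, rfl⟩,
    by simpa [hℓdef, ell] using hKP.aug_cl 1 _ (InvEnd.isFinLocFreeOfRank_one hℓ)⟩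
  have hℓ'line : PP.IsLine ℓ' := ⟨(hKP.mem_pos_iff _).2 ⟨1, _, le_rfl, InvEnd.isFinLocFreeOfRank_one hℓ', rfl⟩,
    by simpa [hℓ'def] using hKP.aug_cl 1 _ (InvEnd.isFinLocFreeOfRank_one hℓ')⟩
  have hinv : ℓ' * ℓ = 1 := by
    rw [hℓdef, ell, hℓ'def, hKP.map_mul _ _ (H23.PullPush.isFinLocFree_of_isInvertible hℓ')
      (H23.PullPush.isFinLocFree_of_isInvertible hℓ), ← hKP.map_one]
    obtain ⟨e⟩ : Nonempty (CohB1.tensorMod (Twist.twistOver n Y (-1)) (Twist.twistOver n Y 1) ≅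
        Coh.structureModule (KRR.PY n Y)) := H23.PicMul.cl_eq_iff.1 (by
      rw [H23.PicMul.cl_tensor, RegSheaf7.cl_twistOver_add, neg_add_cancel, CMReg7.cl_twistOver_zero]
      rfl)
    exact congrArg φP (cl_iso e (KFlatLib.isFinLocFree_tensor (H23.PullPush.isFinLocFree_of_isInvertible hℓ')
      (H23.PullPush.isFinLocFree_of_isInvertible hℓ)))
  have hbott : KRR.bott PP j (φP (KRR.cl (KRR.PY n Y)
      (KRR.twF n Y (-1) ((Scheme.Modules.pullback (KRR.pr n Y)).obj (FlatMod.freeMod Y (n + 1)))))) =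
      (∑ k ∈ Finset.range j, ℓ' ^ k) ^ (n + 1) := by
    have hF : FlatMod.IsFinLocFree ((Scheme.Modules.pullback (KRR.pr n Y)).obj (FlatMod.freeMod Y (n + 1))) :=
      KFlatLib.isFinLocFree_pullback _ (KFlatLib.isFinLocFree_freeMod _)
    have he : φP (KRR.cl (KRR.PY n Y) (KRR.twF n Y (-1) ((Scheme.Modules.pullback (KRR.pr n Y)).obj
        (FlatMod.freeMod Y (n + 1))))) = ∑ _a : Fin (n + 1), ℓ' := by
      rw [show KRR.twF n Y (-1) ((Scheme.Modules.pullback (KRR.pr n Y)).obj (FlatMod.freeMod Y (n + 1))) =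
        ((DCoh.tensorBi (X := KRR.PY n Y)).obj (Twist.twistOver n Y (-1))).obj
          ((Scheme.Modules.pullback (KRR.pr n Y)).obj (FlatMod.freeMod Y (n + 1))) from rfl,
        ← hKP.map_mul _ _ (H23.PullPush.isFinLocFree_of_isInvertible hℓ') hF, ← hℓ'def,
        cl_iso (KFlatLib.pullFreeIso (KRR.pr n Y) (n + 1)) hF, cl_freeMod, map_nsmul, hKP.map_one, Fin.sum_const,
        nsmul_one, mul_comm, nsmul_eq_mul]
    rw [Lambda.bott_lines j _ (fun _ : Fin (n + 1) => ℓ') (fun _ => hℓ'line) he.symm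
      (by rw [he, map_sum, hℓ'line.2]; simp), Finset.prod_const, Finset.card_univ, Fintype.card_fin]
  have hV : ((1 : S) ⊗ₜ[ℤ] (ℓ - 1)) ^ (n + 1) = 0 := by
    rw [Algebra.TensorProduct.tmul_pow, ell_sub_one_pow hKP, TensorProduct.tmul_zero]
  let ev := evalNil (R := S) hV
  let Φ : PowerSeries S := ∑ k ∈ Finset.range j, (1 + PowerSeries.X) ^ k
  have hΦu : IsUnit Φ := by
    rw [PowerSeries.isUnit_iff_constantCoeff, map_sum]
    simpa using hjS
  obtain ⟨Ψ, hΨ⟩ := hΦu.exists_left_inv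
  obtain ⟨Θ, hΘ⟩ : ∃ Θ : PowerSeries S, Θ * Φ ^ (n + 1) = (1 + PowerSeries.X) ^ ((j - 1) * (n + 1)) :=
    ⟨(1 + PowerSeries.X) ^ ((j - 1) * (n + 1)) * Ψ ^ (n + 1), by rw [mul_assoc, ← mul_pow, hΨ, one_pow, mul_one]⟩
  have hev : ∀ k : ℕ, ev ((1 + PowerSeries.X) ^ k) = (1 : S) ⊗ₜ[ℤ] (ℓ ^ k) := fun k => by
    rw [map_pow, map_add, map_one, evalNil_X, Algebra.TensorProduct.one_def, ← TensorProduct.tmul_add,
      add_sub_cancel, Algebra.TensorProduct.tmul_pow, one_pow]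
  refine ⟨ev Θ, ?_, fun z => ?_⟩
  · let ι : KP →+* S ⊗[ℤ] KP := (Algebra.TensorProduct.includeRight (R := ℤ) (A := S) (B := KP)).toRingHom
    have hι : ∀ x, (1 : S) ⊗ₜ[ℤ] x = ι x := fun _ => rfl
    simp only [hι] at hev ⊢
    have hevΦ : ev Φ = ι (∑ k ∈ Finset.range j, ℓ' ^ k) * ι (ℓ ^ (j - 1)) := by
      rw [map_sum, Finset.sum_congr rfl fun k _ => hev k, ← map_mul, Finset.sum_mul, map_sum,
        ← Finset.sum_range_reflect (fun k => ι (ℓ ^ k))]
      refine Finset.sum_congr rfl fun k hk => congrArg ι ?_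
      have hk' := Finset.mem_range.1 hk
      rw [show ℓ ^ (j - 1) = ℓ ^ k * ℓ ^ (j - 1 - k) by rw [← pow_add]; congr 1; omega, ← mul_assoc, ← mul_pow,
        hinv, one_pow, one_mul]
    have h1 := congrArg ev hΘ
    rw [map_mul, map_pow ev Φ, hev, hevΦ, mul_pow, ← mul_assoc, ← map_pow, ← map_pow, ← pow_mul] at h1
    rw [hbott]
    exact (((IsUnit.of_mul_eq_one_right _ hinv).pow _).map ι).mul_left_injective (h1.trans (one_mul _).symm)
  · have haug : ∀ a : ℕ, PP.aug (ℓ ^ a) = 1 := fun a => by rw [map_pow, hℓline.2, one_pow]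
    let G := LinearMap.lTensor S g.toIntLinearMap
    let A1 : KP →+ S ⊗[ℤ] KY :=
      (TensorProduct.mk ℤ S KY (1 : S)).toAddMonoidHom.comp ((Lambda.adamsHom PY j).comp g)
    let A2 : KP →+ S ⊗[ℤ] KY := AddMonoidHom.mk'
      (fun z => G ((j : S ⊗[ℤ] KP) * ((1 : S) ⊗ₜ[ℤ] LambdaRing.adams PP j z) * ev Θ)) fun a b => by
        rw [Lambda.adams_add, TensorProduct.tmul_add, mul_add, add_mul, map_add]
    suffices h : A1 = A2 from DFunLike.congr_fun h z
    refine AddMonoidHom.eq_of_eqOn_dense (closure_gen hKP hKY hq) ?_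
    rintro _ ⟨a, e, he, rfl⟩
    show (1 : S) ⊗ₜ[ℤ] LambdaRing.adams PY j (g (q e * ℓ ^ a)) =
      G ((j : S ⊗[ℤ] KP) * ((1 : S) ⊗ₜ[ℤ] LambdaRing.adams PP j (q e * ℓ ^ a)) * ev Θ)
    have htw : ∀ i, LambdaRing.LambdaOps.lam i (q e * ℓ ^ a) = LambdaRing.LambdaOps.lam i (q e) * (ℓ ^ a) ^ i := by
      intro i
      obtain ⟨m, E, -, hE, rfl⟩ := (hKY.mem_pos_iff e).1 he
      rw [hq E (flf_of_rank hE), hℓdef, ← ell_pow hKP a]
      exact lam_mul_line hKP (KFlatLib.isFinLocFree_pullback _ (flf_of_rank hE))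
        (RegSheaf7.isInvertible_twistOver _) i
    have hqψ : LambdaRing.adams PP j (q e) = q (LambdaRing.adams PY j e) :=
      (Lambda.map_adams (f := pullRingHom hKY hKP hq) (fun i x => pull_lam hKY hKP hq i x)
        (pull_aug hKY hKP hq) j e).symm
    rw [push_gen hKP hKY hg hq, Lambda7.adams_mul_line PP (haug a) htw hj, hqψ, ← pow_mul,
      ← Lambda.adamsHom_apply PY j, map_nsmul, Lambda.adamsHom_apply,
      show (j : S ⊗[ℤ] KP) * ((1 : S) ⊗ₜ[ℤ] (q (LambdaRing.adams PY j e) * ℓ ^ (a * j))) * ev Θ =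
        ((1 : S) ⊗ₜ[ℤ] (q (LambdaRing.adams PY j e))) * ev ((j : PowerSeries S) * ((1 + PowerSeries.X) ^ (a * j) * Θ)) by
        rw [map_mul ev, map_natCast ev, map_mul ev, hev,
          show (1 : S) ⊗ₜ[ℤ] (q (LambdaRing.adams PY j e) * ℓ ^ (a * j)) =
            ((1 : S) ⊗ₜ[ℤ] (q (LambdaRing.adams PY j e))) * ((1 : S) ⊗ₜ[ℤ] (ℓ ^ (a * j))) by
            rw [Algebra.TensorProduct.tmul_mul_tmul, one_mul]]
        ring]
    rw [lTensor_evalNil hKP hKY hg hq hV, Lambda7.coeff_adams_projSpace n a j hj Θ hΘ hjS, TensorProduct.tmul_smul,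
      TensorProduct.smul_tmul', nsmul_one]

theorem adams_push' [IsAddTorsionFree S] (j : ℕ) (hj : 1 ≤ j) (hjS : IsUnit (j : S)) (z : KP) :
    (∃ w : S ⊗[ℤ] KP, w * ((1 : S) ⊗ₜ[ℤ] KRR.bott PP j (φP (KRR.cl (KRR.PY n Y)
      (KRR.twF n Y (-1) ((Scheme.Modules.pullback (KRR.pr n Y)).obj (FlatMod.freeMod Y (n + 1))))))) = 1) ∧
    ∀ w : S ⊗[ℤ] KP, w * ((1 : S) ⊗ₜ[ℤ] KRR.bott PP j (φP (KRR.cl (KRR.PY n Y)
      (KRR.twF n Y (-1) ((Scheme.Modules.pullback (KRR.pr n Y)).obj (FlatMod.freeMod Y (n + 1))))))) = 1 →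
      (1 : S) ⊗ₜ[ℤ] LambdaRing.adams PY j (g z) =
        LinearMap.lTensor S g.toIntLinearMap ((j : S ⊗[ℤ] KP) * ((1 : S) ⊗ₜ[ℤ] LambdaRing.adams PP j z) * w) := by
  obtain ⟨w, hw, key⟩ := adams_push hKP hKY hg hq j hj hjS
  refine ⟨⟨w, hw⟩, fun w' hw' => ?_⟩
  rw [show w' = w from left_inv_eq_right_inv hw' ((mul_comm _ _).trans hw)]
  exact key z

end Groth.Agent.KRR7
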