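import Groth.Agent.KRR7.Proj
import Groth.Agent.CohPullLib.BaseChange

/-!
# Base change of the vanishing of higher direct images; regularity under base change
-/

set_option autoImplicit false
set_option linter.style.haveILetI false
set_option backward.isDefEq.respectTransparency false
universe u
open CategoryTheory CategoryTheory.Limits AlgebraicGeometry TopologicalSpace
open scoped TensorProduct
attribute [local instance] HasDerivedCategory.standard

namespace Groth.Agent.KRR7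

open Groth.Agent Groth.Agent.CohPullLib Groth.Agent.FlatCxLib
open scoped Groth.Agent.H23.PicMul

variable {X S S' X' : Scheme.{u}} {f : X ⟶ S} {g : S' ⟶ S} {f' : X' ⟶ S'} {g' : X' ⟶ X} {F : X.Modules}

/-- If `R^i f_* F = 0` for `i > m` (`F` flat over the base) then this survives base change. -/
theorem isZero_rpush_baseChange [IsProper f] [LocallyOfFinitePresentation f] (h : IsPullback g' f' f g)
    [HasInjectiveResolutions X.Modules] [HasInjectiveResolutions X'.Modules]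
    (hF : Coh.IsQCoh F) (hfp : CohB1.IsFP F) (hfl : FlatMod.IsFlatOver f F) {m : ℕ}
    (hvan : ∀ i, m < i → IsZero ((Coh.Rpush f i).obj F)) {i : ℕ} (hi : m < i) :
    IsZero ((Coh.Rpush f' i).obj ((Scheme.Modules.pullback g').obj F)) := by
  haveI : IsProper f' := MorphismProperty.of_isPullback h inferInstance
  have hex : ∀ y, ExchAt f F i y := fun y => exchAt_of_isFinLocFree_above hF hfp hfl (m := m)
    (fun j hj => KFlatLib.isFinLocFree_of_isZero (hvan j hj)) y i hi.le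
  choose V hV P hz hP hepi using fun z : S' => hex (g z)
  choose W hWaff hzW hle using fun z : S' =>
    exists_isAffineOpen_mem_and_subset (x := z) (U := g ⁻¹ᵁ V z) (hz z)
  refine QCoh.isZero_of_cover (QCoh.isQCoh_Rpush f' (QCoh.isQCoh_pullback g' hF) i) W hWaff
    (fun z => ⟨z, hzW z⟩) fun z => ?_
  let φ := (g.appLE (V z) (W z) (hle z)).hom
  letI : Algebra Γ(S, V z) Γ(S', W z) := φ.toAlgebra
  obtain ⟨e⟩ := (hP z).nonempty_sections hF i
  obtain ⟨e'⟩ := ((hP z).baseChange h hF (hWaff z) (hle z)).nonempty_sections (QCoh.isQCoh_pullback g' hF) i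
  haveI : Subsingleton ((P z).homology (-(i : ℤ))) := by
    haveI : Subsingleton Γ((Coh.Rpush f i).obj F, V z) := by
      refine subsingleton_of_forall_eq 0 fun s => ?_
      have h0 := (IsZero.iff_id_eq_zero _).1 (hvan i hi)
      exact congrArg (fun ψ : (Coh.Rpush f i).obj F ⟶ (Coh.Rpush f i).obj F => ψ.app (V z) s) h0
    exact e.symm.toEquiv.subsingleton
  haveI : Subsingleton ((CohIII.TFun (P z) (-(i : ℤ))).obj (ModuleCat.of Γ(S, V z) Γ(S, V z))) :=
    (tUnitIso (P := P z) (-(i : ℤ))).toLinearEquiv.toEquiv.subsingleton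
  haveI : Subsingleton ((CohIII.TFun (P z) (-(i : ℤ))).obj
      ((ModuleCat.restrictScalars φ).obj (ModuleCat.of Γ(S', W z) Γ(S', W z)))) :=
    ((Equiv.ofBijective _ (bijective_tM_of_preservesEpi (hP z).flat (hepi z) _)).symm).subsingleton
  obtain ⟨b⟩ := QCoh.nonempty_bcT_iso (P z) φ (-(i : ℤ))
  have h1 : Subsingleton ((CohIII.TFun (CohIII.bcCx φ (P z)) (-(i : ℤ))).obj (ModuleCat.of Γ(S', W z) Γ(S', W z))) := by
    refine @Equiv.subsingleton _ _ (b.app (ModuleCat.of Γ(S', W z) Γ(S', W z))).addCommGroupIsoToAddEquiv.toEquiv ?_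
    assumption
  haveI : Subsingleton ((CohIII.bcCx φ (P z)).homology (-(i : ℤ))) :=
    @Equiv.subsingleton _ _ (tUnitIso (P := CohIII.bcCx φ (P z)) (-(i : ℤ))).toLinearEquiv.symm.toEquiv h1
  exact e'.toEquiv.subsingleton

theorem hom_ext_pullSec (g : X ⟶ S) {M : S.Modules} {N : X.Modules} {a b : (Scheme.Modules.pullback g).obj M ⟶ N}
    (h : ∀ (V : S.Opens) (x : Γ(M, V)),
      a.app (g ⁻¹ᵁ V) (QCoh.pullSec g M le_rfl x) = b.app (g ⁻¹ᵁ V) (QCoh.pullSec g M le_rfl x)) : a = b := by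
  apply ((Scheme.Modules.pullbackPushforwardAdjunction g).homEquiv M N).injective
  refine Scheme.Modules.hom_ext _ _ fun V => ?_
  ext x
  have key : ∀ c : (Scheme.Modules.pullback g).obj M ⟶ N,
      ((Scheme.Modules.pullbackPushforwardAdjunction g).homEquiv M N c).app V x =
        c.app (g ⁻¹ᵁ V) (QCoh.pullSec g M le_rfl x) := fun c => by
    rw [Adjunction.homEquiv_unit]
    refine congrArg (c.app (g ⁻¹ᵁ V)) ?_
    exact (QCoh.map_id' _ _).symm
  rw [key, key]
  exact h V x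

theorem homEquiv_app (g : X ⟶ S) {M : S.Modules} {N : X.Modules} (c : (Scheme.Modules.pullback g).obj M ⟶ N)
    (V : S.Opens) (x : Γ(M, V)) :
    (show Γ(N, g ⁻¹ᵁ V) from ((Scheme.Modules.pullbackPushforwardAdjunction g).homEquiv M N c).app V x) =
      c.app (g ⁻¹ᵁ V) (QCoh.pullSec g M le_rfl x) := by
  rw [Adjunction.homEquiv_unit]
  refine congrArg (c.app (g ⁻¹ᵁ V)) ?_
  exact (QCoh.map_id' _ _).symm

theorem counit_pullSec (g : X ⟶ S) (N : X.Modules) (V : S.Opens)
    (x : Γ((Scheme.Modules.pushforward g).obj N, V)) :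
    ((Scheme.Modules.pullbackPushforwardAdjunction g).counit.app N).app (g ⁻¹ᵁ V)
      (QCoh.pullSec g ((Scheme.Modules.pushforward g).obj N) le_rfl x) = (show Γ(N, g ⁻¹ᵁ V) from x) := by
  refine (homEquiv_app g ((Scheme.Modules.pullbackPushforwardAdjunction g).counit.app N) V x).symm.trans ?_
  have h : (Scheme.Modules.pullbackPushforwardAdjunction g).homEquiv _ _
      ((Scheme.Modules.pullbackPushforwardAdjunction g).counit.app N) = 𝟙 ((Scheme.Modules.pushforward g).obj N) := by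
    rw [Adjunction.homEquiv_unit]
    exact (Scheme.Modules.pullbackPushforwardAdjunction g).right_triangle_components N
  exact congrArg (fun ψ : (Scheme.Modules.pushforward g).obj N ⟶ (Scheme.Modules.pushforward g).obj N => ψ.app V x) h

variable {n : ℕ} {Y Y₁ : Scheme.{u}} (φ : Y₁ ⟶ Y)

theorem bcMap_eq_bc0 (hsq : KRR.projSpaceMap n φ ≫ KRR.pr n Y = KRR.pr n Y₁ ≫ φ) (F : (KRR.PY n Y).Modules) :
    KRR.bcMap n φ hsq F = CohBC.bc0 (KRR.pr n Y) φ (KRR.pr n Y₁) (KRR.projSpaceMap n φ) hsq F := by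
  refine hom_ext_pullSec φ fun V x => ?_
  let W := KRR.pr n Y₁ ⁻¹ᵁ (φ ⁻¹ᵁ V)
  have h2 : W ≤ KRR.projSpaceMap n φ ⁻¹ᵁ (KRR.pr n Y ⁻¹ᵁ V) := CohPullLib.sectLE hsq le_rfl
  refine Eq.trans ?_ (CohPullLib.bc0_app_pullSec hsq F le_rfl x).symm
  refine (homEquiv_app (KRR.pr n Y₁) _ (φ ⁻¹ᵁ V) _).trans ?_
  simp only [Scheme.Modules.Hom.comp_app, ConcreteCategory.comp_apply]
  refine (congrArg (fun t => ((Scheme.Modules.pullback (KRR.projSpaceMap n φ)).map
      ((Scheme.Modules.pullbackPushforwardAdjunction (KRR.pr n Y)).counit.app F)).app W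
      (((Scheme.Modules.pullbackComp (KRR.projSpaceMap n φ) (KRR.pr n Y)).inv.app _).app W
        (((Scheme.Modules.pullbackCongr hsq.symm).hom.app _).app W t)))
    (ExistEasy.pullSec_comp (KRR.pr n Y₁) φ _ le_rfl (W := W) le_rfl x)).trans ?_
  refine (congrArg (fun t => ((Scheme.Modules.pullback (KRR.projSpaceMap n φ)).map
      ((Scheme.Modules.pullbackPushforwardAdjunction (KRR.pr n Y)).counit.app F)).app W
      (((Scheme.Modules.pullbackComp (KRR.projSpaceMap n φ) (KRR.pr n Y)).inv.app _).app W t))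
    (ExistEasy.pullSec_congr hsq.symm _ (W := W) le_rfl x)).trans ?_
  refine (congrArg (fun t => ((Scheme.Modules.pullback (KRR.projSpaceMap n φ)).map
      ((Scheme.Modules.pullbackPushforwardAdjunction (KRR.pr n Y)).counit.app F)).app W t)
    (CohPullLib.pullbackComp_inv_pullSec (KRR.projSpaceMap n φ) (KRR.pr n Y) _ (U := KRR.pr n Y ⁻¹ᵁ V) le_rfl h2 x)).trans ?_
  refine (ExistEasy.pullSec_natural _ _ h2 _).trans ?_
  exact congrArg (QCoh.pullSec (KRR.projSpaceMap n φ) F h2) (counit_pullSec (KRR.pr n Y) F V x)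

theorem projSpaceMap_fst : KRR.projSpaceMap n φ ≫ pullback.fst _ _ = pullback.fst _ _ := by
  simp [KRR.projSpaceMap, pullback.map]

theorem projSpaceMap_pr : KRR.projSpaceMap n φ ≫ KRR.pr n Y = KRR.pr n Y₁ ≫ φ := by
  simp [KRR.projSpaceMap, pullback.map, KRR.pr, CohB1.ProjSpaceOver.toBase]

theorem isPullback_projSpaceMap : IsPullback (KRR.projSpaceMap n φ) (KRR.pr n Y₁) (KRR.pr n Y) φ := by
  refine IsPullback.of_right ?_ (projSpaceMap_pr φ) (IsPullback.of_hasPullback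
    (CohB1.ProjSpace.toSpec n (ULift.{u} ℤ)) (specULiftZIsTerminal.from Y))
  rw [projSpaceMap_fst φ, specULiftZIsTerminal.hom_ext (φ ≫ specULiftZIsTerminal.from Y) (specULiftZIsTerminal.from Y₁)]
  exact IsPullback.of_hasPullback _ _

theorem nonempty_pullback_twF (a : ℤ) (F : (KRR.PY n Y).Modules) :
    Nonempty ((Scheme.Modules.pullback (KRR.projSpaceMap n φ)).obj (KRR.twF n Y a F) ≅
      KRR.twF n Y₁ a ((Scheme.Modules.pullback (KRR.projSpaceMap n φ)).obj F)) := by
  refine H23.PicMul.cl_eq_iff.1 ?_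
  show PicF.pullCl (KRR.projSpaceMap n φ) (PicF.cl (CohB1.tensorMod (Twist.twistOver n Y a) F)) =
    PicF.cl (CohB1.tensorMod (Twist.twistOver n Y₁ a) _)
  rw [H23.PicMul.cl_tensor, H23.PicMul.cl_tensor, H23.PicMul.pullCl_mul]
  refine congrArg₂ (· * ·) (H23.PicMul.cl_eq_iff.2 ⟨?_⟩) rfl
  exact (Scheme.Modules.pullbackComp _ _).app _ ≪≫ (Scheme.Modules.pullbackCongr (projSpaceMap_fst φ)).app _

theorem reg_projSpaceMap {F : (KRR.PY n Y).Modules} (hF : FlatMod.IsFinLocFree F)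
    (hreg : KRR.IsRegSheaf n Y F) :
    KRR.IsRegSheaf n Y₁ ((Scheme.Modules.pullback (KRR.projSpaceMap n φ)).obj F) := by
  haveI : HasInjectiveResolutions (KRR.PY n Y).Modules := KFlatLib.hasInjectiveResolutions_modules
  haveI : HasInjectiveResolutions (KRR.PY n Y₁).Modules := KFlatLib.hasInjectiveResolutions_modules
  haveI := CMReg7.isProper_pr (n := n) (T := Y)
  haveI : LocallyOfFinitePresentation (KRR.pr n Y) := ProjGen7.lfp_toBase n Y
  haveI : Flat (KRR.pr n Y) := ProjGen7.flat_toBase n Y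
  intro i hi
  let G := KRR.twF n Y (-(i : ℤ)) F
  have hG := flf_twF hF (-(i : ℤ))
  obtain ⟨z⟩ := RegSheaf7.twF_twF (n := n) (T := Y) 0 0 0 (add_zero 0) F
  have hvan : ∀ j, i - 1 < j → IsZero ((Coh.Rpush (KRR.pr n Y) j).obj G) := fun j hj => by
    obtain ⟨k, rfl⟩ := Nat.exists_eq_add_of_le' (show 1 ≤ j by omega)
    refine (isZero_rpush_iff G k).1 ?_
    obtain ⟨e⟩ := H23.PicMul.cl_eq_iff.1 (show PicF.cl (KRR.twF n Y 0 F) = PicF.cl F by
      show PicF.cl (CohB1.tensorMod _ F) = _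
      rw [H23.PicMul.cl_tensor, CMReg7.cl_twistOver_zero, one_mul])
    have h1 := reg_twF_ge (a := 0) (b := (((k + 1 : ℕ) : ℤ) - i)) (by omega) (reg_of_iso e.symm hreg) (k + 1) (by omega)
    exact (RegSheaf7.isZero_twF_congr (show -((k + 1 : ℕ) : ℤ) + (((k + 1 : ℕ) : ℤ) - i) = -(i : ℤ) by ring) _ F).1 h1
  obtain ⟨k, rfl⟩ := Nat.exists_eq_add_of_le' hi
  refine (isZero_rpush_iff _ k).2 ?_
  obtain ⟨c⟩ := nonempty_pullback_twF φ (-((k + 1 : ℕ) : ℤ)) F
  exact (isZero_rpush_baseChange (isPullback_projSpaceMap φ) (QCoh.isQCoh_of_isFinLocFree hG)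
    (QCoh.isFP_of_isFinLocFree hG) (PerfLocus7.isFlatOver_of_isFinLocFree (KRR.pr n Y) hG)
    (m := k) (fun j hj => hvan j (by omega)) (Nat.lt_succ_self k)).of_iso ((Coh.Rpush (KRR.pr n Y₁) (k + 1)).mapIso c).symm

theorem isIso_bcMap (hsq : KRR.projSpaceMap n φ ≫ KRR.pr n Y = KRR.pr n Y₁ ≫ φ)
    {F : (KRR.PY n Y).Modules} (hF : FlatMod.IsFinLocFree F) (hreg : KRR.IsRegSheaf n Y F) :
    IsIso (KRR.bcMap n φ hsq F) := by
  haveI : HasInjectiveResolutions (KRR.PY n Y).Modules := KFlatLib.hasInjectiveResolutions_modules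
  haveI := CMReg7.isProper_pr (n := n) (T := Y)
  haveI : LocallyOfFinitePresentation (KRR.pr n Y) := ProjGen7.lfp_toBase n Y
  haveI : Flat (KRR.pr n Y) := ProjGen7.flat_toBase n Y
  rw [bcMap_eq_bc0]
  refine CohPullLib.isIso_bc0_of_exchAt (isPullback_projSpaceMap φ) (QCoh.isQCoh_of_isFinLocFree hF) fun z => ?_
  refine CohPullLib.exchAt_of_isFinLocFree_above (QCoh.isQCoh_of_isFinLocFree hF) (QCoh.isFP_of_isFinLocFree hF)
    (PerfLocus7.isFlatOver_of_isFinLocFree (KRR.pr n Y) hF) (m := 0) (fun j hj => ?_) _ 0 le_rfl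
  obtain ⟨k, rfl⟩ := Nat.exists_eq_add_of_le' hj
  exact KFlatLib.isFinLocFree_of_isZero ((isZero_rpush_iff F k).1 (CMReg7.higher_zero F hreg (k + 1) (by omega)))

end Groth.Agent.KRR7
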