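import Groth.Agent.KRR7.GP
import Groth.Agent.QCoh.RpushProper
import Groth.Agent.S0002
import Groth.Agent.Lib.CurveTensor
import Groth.Agent.SheafHomX.Coherent

/-!
# `P^n_Y` has enough locally free modules when `Y` has
-/

set_option autoImplicit false
set_option linter.style.haveILetI false
set_option backward.isDefEq.respectTransparency false
universe u v
open CategoryTheory CategoryTheory.Limits AlgebraicGeometry
attribute [local instance] HasDerivedCategory.standard

namespace Groth.Agent.KRR7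

open Groth.Agent
open scoped Groth.Agent.H23.PicMul

variable (n : ℕ) {Y : Scheme.{u}} [IsNoetherian Y]

/-- Serre vanishing for coherent sheaves: large twists are regular -/
theorem exists_reg_twF_coh (F : (KRR.PY n Y).Modules) (hF : Coh.IsCoh F) :
    ∃ m : ℕ, KRR.IsRegSheaf n Y (KRR.twF n Y (m : ℤ) F) := by
  haveI : HasInjectiveResolutions (KRR.PY n Y).Modules := KFlatLib.hasInjectiveResolutions_modules
  haveI := CMReg7.isProper_pr (n := n) (T := Y)
  haveI := isLocallyNoetherian_PY (n := n) (Y := Y)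
  obtain ⟨N, hN⟩ := NormX.exists_vanishing_Rpush (KRR.pr n Y) (L := Twist.twistOver n Y 1)
    (ChowX.isRelAmple_twistOver n Y).2 (RegSheaf7.isInvertible_twistOver 1) hF
  refine ⟨N + n, fun i hi => ?_⟩
  obtain ⟨k, rfl⟩ := Nat.exists_eq_add_of_le' hi
  by_cases hk : n ≤ k
  · exact CMReg7.isZero_RpushAb_above n Y (CMReg7.isQCoh_twF _ (CMReg7.isQCoh_twF _ hF.1)) k hk
  refine (RegSheaf7.isZero_twF_congr (c := ((N + n - (k + 1) : ℕ) : ℤ)) (by push_cast; omega) (k + 1) F).2 ?_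
  let m := N + n - (k + 1)
  obtain ⟨e⟩ : Nonempty (KRR.twF n Y (m : ℤ) F ≅ CohB1.tensorMod F (CohB1.tensorPow (Twist.twistOver n Y 1) m)) :=
    H23.PicMul.cl_eq_iff.1 (by
      show PicF.cl (CohB1.tensorMod _ F) = _
      rw [H23.PicMul.cl_tensor]; erw [H23.PicMul.cl_tensor]
      rw [H23.PicMul.cl_tensorPow, CMReg7.cl_twistOver_pow]
      exact CommMonoid.mul_comm _ _)
  obtain ⟨a⟩ := QCoh.nonempty_RpushAb_iso (KRR.pr n Y) (KRR.twF n Y (m : ℤ) F) k
  obtain ⟨b⟩ := QCoh.nonempty_Rpush_iso (KRR.pr n Y) (KRR.twF n Y (m : ℤ) F) k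
  exact IsZero.of_iso ((QCoh.toAbFunctor Y).map_isZero
    ((hN m (by omega) k).of_iso ((Coh.Rpush (KRR.pr n Y) (k + 1)).mapIso e))) (a ≪≫ (QCoh.toAbFunctor Y).mapIso b.symm)

/-- every coherent module on `P^n_Y` is a quotient of a bundle -/
theorem enough_PY (hYe : KRR.HasEnoughLocFree Y) : KRR.HasEnoughLocFree (KRR.PY n Y) := by
  intro F hF
  obtain ⟨m, hm⟩ := exists_reg_twF_coh n F hF
  haveI := CMReg7.isProper_pr (n := n) (T := Y)
  haveI := isLocallyNoetherian_PY (n := n) (Y := Y)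
  haveI : HasInjectiveResolutions (KRR.PY n Y).Modules := KFlatLib.hasInjectiveResolutions_modules
  haveI := SpObjSS.enoughInjectives_of_hasInjectiveResolutions (C := (KRR.PY n Y).Modules)
  haveI := QCoh.preservesFiniteLimits_push (KRR.pr n Y)
  let G := KRR.twF n Y (m : ℤ) F
  have hG : Coh.IsCoh G := CurveTensor.isCoh_tensor
    (H23.PullPush.isFinLocFree_of_isInvertible (RegSheaf7.isInvertible_twistOver (m : ℤ))) hF
  have hp : Coh.IsCoh ((Scheme.Modules.pushforward (KRR.pr n Y)).obj G) :=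
    SheafHomX.isCoh_of_iso ((Scheme.Modules.pushforward (KRR.pr n Y)).rightDerivedZeroIsoSelf.app G)
      (QCoh.isCoh_Rpush_of_finiteness (KRR.pr n Y) hG 0 fun A _ _ Z _ _ N hN k => Groth.Agent.S0002.result A Z N hN k)
  obtain ⟨E, q, hE, hq⟩ := hYe _ hp
  haveI := CMReg7.epi_counit G hG.1 hm
  haveI : Epi ((Scheme.Modules.pullback (KRR.pr n Y)).map q) := inferInstance
  obtain ⟨e⟩ := RegSheaf7.twF_twF (n := n) (T := Y) (-(m : ℤ)) (m : ℤ) 0 (by ring) F
  obtain ⟨z⟩ := CMReg7.nonempty_twF_zero (n := n) (T := Y) F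
  haveI := (CMReg7.additive_tw (n := n) (T := Y) (-(m : ℤ))).2
  let f := (CMReg7.twd n Y (-(m : ℤ))).map ((Scheme.Modules.pullback (KRR.pr n Y)).map q ≫ CMReg7.eps G)
  exact ⟨_, f ≫ (e ≪≫ z).hom, flf_twF_pull hE _, inferInstance⟩

end Groth.Agent.KRR7
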