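import Groth.Agent.KRR7.Compare
import Groth.Agent.KRR7.Enough

/-!
# The push-forward is functorial for composites of factorized regular morphisms
-/

set_option autoImplicit false
set_option linter.style.haveILetI false
set_option linter.unusedSectionVars false
set_option backward.isDefEq.respectTransparency false
universe u v
open CategoryTheory CategoryTheory.Limits AlgebraicGeometry
attribute [local instance] HasDerivedCategory.standard

namespace Groth.Agent.KRR7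

open Groth.Agent Groth.Agent.KZ.LFRes
open scoped Groth.Agent.H23.PicMul

variable {n m l : ℕ} {X Y Z : Scheme.{u}}

theorem comp_morphism_eq [IsNoetherian Z] (hZe : KRR.HasEnoughLocFree Z)
    (i : X ⟶ KRR.PY n Y) (hi : Mor2.IsRegularClosedImmersion i)
    (j : Y ⟶ KRR.PY m Z) (hj : Mor2.IsRegularClosedImmersion j)
    (k : X ⟶ KRR.PY l Z) (hk : Mor2.IsRegularClosedImmersion k)
    (hfg : k ≫ KRR.pr l Z = (i ≫ KRR.pr n Y) ≫ j ≫ KRR.pr m Z)
    {ci : SGA6.Kvb X →+ SGA6.Kvb (KRR.PY n Y)} (hci : PushClHom i (AddMonoidHom.id _) (AddMonoidHom.id _) ci)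
    {cj : SGA6.Kvb Y →+ SGA6.Kvb (KRR.PY m Z)} (hcj : PushClHom j (AddMonoidHom.id _) (AddMonoidHom.id _) cj)
    {ck : SGA6.Kvb X →+ SGA6.Kvb (KRR.PY l Z)} (hck : PushClHom k (AddMonoidHom.id _) (AddMonoidHom.id _) ck)
    [IsNoetherian Y] :
    (gP l Z).comp ck = ((gP m Z).comp cj).comp ((gP n Y).comp ci) := by
  haveI := isNoetherian_PY (n := m) (Y := Z)
  haveI := isNoetherian_PY (n := l) (Y := Z)
  haveI := isNoetherian_PY (n := n) (Y := Y)
  haveI := isNoetherian_PY (n := n) (Y := KRR.PY m Z)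
  haveI := isNoetherian_PY (n := l) (Y := KRR.PY m Z)
  haveI := isNoetherian_PY (n := m) (Y := KRR.PY l Z)
  haveI := isNoetherian_PY (n := l) (Y := KRR.PY n (KRR.PY m Z))
  haveI := isNoetherian_PY (n := n) (Y := KRR.PY l (KRR.PY m Z))
  haveI := isNoetherian_PY (n := n) (Y := KRR.PY m (KRR.PY l Z))
  haveI : IsClosedImmersion j := hj.1
  haveI : IsClosedImmersion k := hk.1
  haveI := isNoetherian_of_isClosedImmersion k
  have hid : ∀ {A : Scheme.{u}} [IsNoetherian A] (q : ℕ),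
      PushPrHom q A (AddMonoidHom.id _) (AddMonoidHom.id _) (gP q A) := fun {A} _ q => (exists_gP q A).choose_spec
  have eQ := enough_PY m hZe
  have eB := enough_PY n eQ
  have eLB := enough_PY l eB
  have e1 := enough_PY l hZe
  have e2 := enough_PY m e1
  have e3 := enough_PY n e2
  have eT := enough_PY l eQ
  have eNT := enough_PY n eT
  have hjn := isRegularClosedImmersion_projSpaceMap (n := n) j hj
  obtain ⟨cjn, hcjn⟩ := exists_pushClHom eB (KRR.projSpaceMap n j) hjn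
  have h1 : cj.comp (gP n Y) = (gP n (KRR.PY m Z)).comp cjn := pushCl_square eQ eB j hj (AddMonoidHom.id _)
    (AddMonoidHom.id _) (AddMonoidHom.id _) (AddMonoidHom.id _) Function.bijective_id cj hcj cjn hcjn (gP n Y) (hid n)
    (gP n (KRR.PY m Z)) (hid n)
  let k₂ := i ≫ KRR.projSpaceMap n j
  have hk₂ : Mor2.IsRegularClosedImmersion k₂ := S1661.result _ _ hi hjn
  obtain ⟨ck₂, hck₂⟩ := exists_pushClHom eB k₂ hk₂
  haveI : IsClosedImmersion (KRR.projSpaceMap n j) := hjn.1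
  have hYe' := enough_closed' eB (KRR.projSpaceMap n j)
  have h2 : ck₂ = cjn.comp ci := pushCl_comp hYe' eB i (KRR.projSpaceMap n j) hi hjn
    (AddMonoidHom.id _) (AddMonoidHom.id _) (AddMonoidHom.id _) Function.bijective_id ci hci cjn hcjn ck₂ hck₂
  let L := liftOf l (k ≫ pullback.fst _ _) k₂
  have hL := isRegular_liftOf l (k ≫ pullback.fst _ _) k₂ hk₂
  obtain ⟨cL, hcL⟩ := exists_pushClHom eLB L hL
  have h3 := gP_pushCl_liftOf l eB eLB (k ≫ pullback.fst _ _) k₂ hk₂ hck₂ hcL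
  have hs₁ := isRegularClosedImmersion_of_isIso (swapHom (KRR.PY m Z) l n)
  obtain ⟨θ₁, hθ₁⟩ := exists_pushClHom eNT (swapHom (KRR.PY m Z) l n) hs₁
  have g1 := gP_swap (KRR.PY m Z) l n θ₁ (fun F hF => by rw [pushClHom_iso hθ₁ hF, inv_swapHom])
  have hs₂ := isRegularClosedImmersion_of_isIso (swapHom Z l m)
  obtain ⟨θ₂, hθ₂⟩ := exists_pushClHom e2 (swapHom Z l m) hs₂
  have g2 := gP_swap Z l m θ₂ (fun F hF => by rw [pushClHom_iso hθ₂ hF, inv_swapHom])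
  have hsn := isRegularClosedImmersion_projSpaceMap (n := n) (swapHom Z l m) hs₂
  obtain ⟨σ, hσ⟩ := exists_pushClHom e3 (KRR.projSpaceMap n (swapHom Z l m)) hsn
  have h4 : θ₂.comp (gP n (KRR.PY l (KRR.PY m Z))) = (gP n (KRR.PY m (KRR.PY l Z))).comp σ :=
    pushCl_square e2 e3 (swapHom Z l m) hs₂ (AddMonoidHom.id _) (AddMonoidHom.id _) (AddMonoidHom.id _)
      (AddMonoidHom.id _) Function.bijective_id θ₂ hθ₂ σ hσ _ (hid n) _ (hid n)
  -- the two lifts of `k`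
  let cm := (k₂ ≫ KRR.pr n (KRR.PY m Z)) ≫ pullback.fst _ _
  let M₂ := liftOf m cm k
  have hM₂ : Mor2.IsRegularClosedImmersion M₂ := isRegular_liftOf m cm k hk
  let M₃ := liftOf n (k₂ ≫ pullback.fst _ _) M₂
  have hM₃ : Mor2.IsRegularClosedImmersion M₃ := isRegular_liftOf n (k₂ ≫ pullback.fst _ _) M₂ hM₂
  have hM : (L ≫ swapHom (KRR.PY m Z) l n) ≫ KRR.projSpaceMap n (swapHom Z l m) = M₃ := by
    apply pullback.hom_ext
    · rw [Category.assoc, projSpaceMap_fst, Category.assoc, swapHom_fst, ← Category.assoc, liftOf_pr, liftOf_fst]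
    · show _ ≫ KRR.pr n _ = _ ≫ KRR.pr n _
      rw [liftOf_pr, Category.assoc, projSpaceMap_pr, Category.assoc, ← Category.assoc (swapHom _ l n), swapHom_pr]
      apply pullback.hom_ext
      · rw [Category.assoc, Category.assoc, swapHom_fst, ← Category.assoc (KRR.projSpaceMap l _), projSpaceMap_pr,
          ← Category.assoc, ← Category.assoc, liftOf_pr, liftOf_fst]
      · show _ ≫ KRR.pr m _ = _ ≫ KRR.pr m _
        rw [Category.assoc, Category.assoc, swapHom_pr, liftOf_pr]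
        apply pullback.hom_ext
        · rw [Category.assoc, Category.assoc, projSpaceMap_fst, projSpaceMap_fst, liftOf_fst]
        · show _ ≫ KRR.pr l Z = _ ≫ KRR.pr l Z
          rw [Category.assoc, Category.assoc, projSpaceMap_pr, ← Category.assoc (KRR.projSpaceMap l (KRR.pr n _)),
            projSpaceMap_pr, Category.assoc, ← Category.assoc L, liftOf_pr, hfg]
          show (i ≫ KRR.projSpaceMap n j) ≫ KRR.pr n (KRR.PY m Z) ≫ KRR.pr m Z = _
          rw [Category.assoc, ← Category.assoc (KRR.projSpaceMap n j), projSpaceMap_pr, Category.assoc, Category.assoc]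
  obtain ⟨c₁₂, hc₁₂⟩ := exists_pushClHom eNT (L ≫ swapHom (KRR.PY m Z) l n) (S1661.result _ _ hL hs₁)
  have h5 : c₁₂ = θ₁.comp cL := pushCl_comp eLB eNT L (swapHom (KRR.PY m Z) l n) hL hs₁
    (AddMonoidHom.id _) (AddMonoidHom.id _) (AddMonoidHom.id _) Function.bijective_id cL hcL θ₁ hθ₁ c₁₂ hc₁₂
  obtain ⟨c₃, hc₃⟩ := exists_pushClHom e3 M₃ hM₃
  obtain ⟨c₂, hc₂⟩ := exists_pushClHom e2 M₂ hM₂
  have h6 : c₃ = σ.comp c₁₂ := pushCl_comp eNT e3 (L ≫ swapHom (KRR.PY m Z) l n) (KRR.projSpaceMap n (swapHom Z l m))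
    (S1661.result _ _ hL hs₁) hsn
    (AddMonoidHom.id _) (AddMonoidHom.id _) (AddMonoidHom.id _) Function.bijective_id c₁₂ hc₁₂ σ hσ c₃ (by rw [hM]; exact hc₃)
  have h7 := gP_pushCl_liftOf n e2 e3 (k₂ ≫ pullback.fst _ _) M₂ hM₂ hc₂ hc₃
  have h8 := gP_pushCl_liftOf m e1 e2 cm k hk hck hc₂
  refine AddMonoidHom.ext fun x => ?_
  simp only [AddMonoidHom.comp_apply]
  rw [show cj (gP n Y (ci x)) = gP n _ (cjn (ci x)) from DFunLike.congr_fun h1 _,
    show cjn (ci x) = ck₂ x from (DFunLike.congr_fun h2 x).symm, ← DFunLike.congr_fun h3 x]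
  simp only [AddMonoidHom.comp_apply]
  erw [show gP n _ (gP l _ (cL x)) = gP l _ (gP n _ (θ₁ (cL x))) from DFunLike.congr_fun g1 _]
  erw [show gP m Z (gP l _ (gP n _ (θ₁ (cL x)))) = gP l Z (gP m _ (θ₂ (gP n _ (θ₁ (cL x))))) from DFunLike.congr_fun g2 _]
  rw [show θ₂ (gP n _ (θ₁ (cL x))) = gP n _ (σ (θ₁ (cL x))) from DFunLike.congr_fun h4 _,
    show θ₁ (cL x) = c₁₂ x from (DFunLike.congr_fun h5 x).symm,
    show σ (c₁₂ x) = c₃ x from (DFunLike.congr_fun h6 x).symm,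
    ← DFunLike.congr_fun h8 x, ← h7]
  rfl

theorem pushPr_pushCl_comp_morphism [IsNoetherian Z] (hZe : KRR.HasEnoughLocFree Z) [IsNoetherian Y]
    (i : X ⟶ KRR.PY n Y) (hi : Mor2.IsRegularClosedImmersion i)
    (j : Y ⟶ KRR.PY m Z) (hj : Mor2.IsRegularClosedImmersion j)
    (k : X ⟶ KRR.PY l Z) (hk : Mor2.IsRegularClosedImmersion k)
    (hfg : k ≫ KRR.pr l Z = (i ≫ KRR.pr n Y) ≫ j ≫ KRR.pr m Z)
    {KX KY KZ K₁ K₂ K₃ : Type v} [AddCommGroup KX] [AddCommGroup KY] [AddCommGroup KZ] [AddCommGroup K₁]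
    [AddCommGroup K₂] [AddCommGroup K₃]
    {φX : SGA6.Kvb X →+ KX} (hXbij : Function.Bijective φX) {φY : SGA6.Kvb Y →+ KY} {φZ : SGA6.Kvb Z →+ KZ}
    {φ₁ : SGA6.Kvb (KRR.PY n Y) →+ K₁} {φ₂ : SGA6.Kvb (KRR.PY m Z) →+ K₂} {φ₃ : SGA6.Kvb (KRR.PY l Z) →+ K₃}
    {a₁ : KX →+ K₁} (ha₁ : PushClHom i φX φ₁ a₁) {b₁ : K₁ →+ KY} (hb₁ : PushPrHom n Y φ₁ φY b₁)
    {a₂ : KY →+ K₂} (ha₂ : PushClHom j φY φ₂ a₂) {b₂ : K₂ →+ KZ} (hb₂ : PushPrHom m Z φ₂ φZ b₂)
    {a₃ : KX →+ K₃} (ha₃ : PushClHom k φX φ₃ a₃) {b₃ : K₃ →+ KZ} (hb₃ : PushPrHom l Z φ₃ φZ b₃) :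
    b₃.comp a₃ = (b₂.comp a₂).comp (b₁.comp a₁) := by
  haveI := isNoetherian_PY (n := m) (Y := Z)
  haveI := isNoetherian_PY (n := l) (Y := Z)
  haveI := isNoetherian_PY (n := n) (Y := Y)
  haveI : IsClosedImmersion j := hj.1
  haveI : IsClosedImmersion k := hk.1
  haveI := isNoetherian_of_isClosedImmersion k
  have hYe := enough_closed' (enough_PY m hZe) j
  obtain ⟨ci, hci⟩ := exists_pushClHom (enough_PY n hYe) i hi
  obtain ⟨cj, hcj⟩ := exists_pushClHom (enough_PY m hZe) j hj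
  obtain ⟨ck, hck⟩ := exists_pushClHom (enough_PY l hZe) k hk
  have key := comp_morphism_eq hZe i hi j hj k hk hfg hci hcj hck
  ext x
  obtain ⟨z, rfl⟩ := hXbij.2 x
  show b₃ ((a₃.comp φX) z) = b₂ (a₂ (b₁ ((a₁.comp φX) z)))
  rw [pushClHom_eq (enough_PY l hZe) k hk ha₃ hck, pushClHom_eq (enough_PY n hYe) i hi ha₁ hci]
  show (b₃.comp φ₃) (ck z) = b₂ (a₂ ((b₁.comp φ₁) (ci z)))
  rw [gP_eq φ₃ φZ b₃ hb₃, gP_eq φ₁ φY b₁ hb₁]
  show φZ (gP l Z (ck z)) = b₂ ((a₂.comp φY) (gP n Y (ci z)))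
  rw [pushClHom_eq (enough_PY m hZe) j hj ha₂ hcj]
  show _ = (b₂.comp φ₂) _
  rw [gP_eq φ₂ φZ b₂ hb₂]
  exact congrArg φZ (DFunLike.congr_fun key z)

end Groth.Agent.KRR7
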