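import Groth.Agent.KRR7.Tower

/-!
# Factorizations through two projective spaces give the same push-forward
-/

set_option autoImplicit false
set_option linter.style.haveILetI false
set_option linter.unusedSectionVars false
set_option backward.isDefEq.respectTransparency false
universe u v
open CategoryTheory CategoryTheory.Limits AlgebraicGeometry
attribute [local instance] HasDerivedCategory.standard

namespace Groth.Agent.KRR7

open Groth.Agent Groth.Agent.KZ.LFRes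
open scoped Groth.Agent.H23.PicMul

variable {X Y W : Scheme.{u}}

/-- the section of `P^n_X ⟶ X` given by a morphism to `P^n_ℤ` -/
noncomputable def sectionOf (n : ℕ) (c : X ⟶ CohB1.ProjSpace n (ULift.{u} ℤ)) : X ⟶ KRR.PY n X :=
  pullback.lift c (𝟙 X) (specULiftZIsTerminal.hom_ext _ _)

theorem sectionOf_pr (n : ℕ) (c : X ⟶ CohB1.ProjSpace n (ULift.{u} ℤ)) : sectionOf n c ≫ KRR.pr n X = 𝟙 X :=
  pullback.lift_snd _ _ _

/-- the lift of an immersion into `W` to `P^n_W` -/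
noncomputable def liftOf (n : ℕ) (c : X ⟶ CohB1.ProjSpace n (ULift.{u} ℤ)) (i : X ⟶ W) : X ⟶ KRR.PY n W :=
  sectionOf n c ≫ KRR.projSpaceMap n i

theorem liftOf_fst (n : ℕ) (c : X ⟶ CohB1.ProjSpace n (ULift.{u} ℤ)) (i : X ⟶ W) :
    liftOf n c i ≫ pullback.fst _ _ = c := by
  rw [liftOf, Category.assoc, projSpaceMap_fst]
  exact pullback.lift_fst _ _ _

theorem liftOf_pr (n : ℕ) (c : X ⟶ CohB1.ProjSpace n (ULift.{u} ℤ)) (i : X ⟶ W) :
    liftOf n c i ≫ KRR.pr n W = i := by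
  rw [liftOf, Category.assoc, projSpaceMap_pr, ← Category.assoc, sectionOf_pr, Category.id_comp]

theorem isRegular_liftOf (n : ℕ) (c : X ⟶ CohB1.ProjSpace n (ULift.{u} ℤ)) (i : X ⟶ W)
    (hi : Mor2.IsRegularClosedImmersion i) : Mor2.IsRegularClosedImmersion (liftOf n c i) :=
  S1661.result _ _ (isRegularClosedImmersion_section _ (sectionOf_pr n c)) (isRegularClosedImmersion_projSpaceMap i hi)

theorem isNoetherian_of_isClosedImmersion [IsNoetherian W] (i : X ⟶ W) [IsClosedImmersion i] : IsNoetherian X := by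
  haveI := LocallyOfFiniteType.isLocallyNoetherian i
  haveI : CompactSpace X := QuasiCompact.compactSpace_of_compactSpace i
  exact {}

/-- pushing a lift down recovers the immersion -/
theorem gP_pushCl_liftOf [IsNoetherian X] [IsNoetherian W] (n : ℕ) (hWe : KRR.HasEnoughLocFree W)
    (hPe : KRR.HasEnoughLocFree (KRR.PY n W)) (c : X ⟶ CohB1.ProjSpace n (ULift.{u} ℤ)) (i : X ⟶ W)
    (hi : Mor2.IsRegularClosedImmersion i)
    {a : SGA6.Kvb X →+ SGA6.Kvb W} (ha : PushClHom i (AddMonoidHom.id _) (AddMonoidHom.id _) a)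
    {b : SGA6.Kvb X →+ SGA6.Kvb (KRR.PY n W)}
    (hb : PushClHom (liftOf n c i) (AddMonoidHom.id _) (AddMonoidHom.id _) b) :
    (gP n W).comp b = a := by
  haveI := isNoetherian_PY (n := n) (Y := W)
  haveI := isNoetherian_PY (n := n) (Y := X)
  haveI : IsClosedImmersion i := hi.1
  have hj := isRegularClosedImmersion_projSpaceMap (n := n) i hi
  haveI : IsClosedImmersion (KRR.projSpaceMap n i) := hj.1
  have hs := isRegularClosedImmersion_section _ (sectionOf_pr n c)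
  have hXe := enough_closed' hPe (KRR.projSpaceMap n i)
  obtain ⟨bs, hbs⟩ := exists_pushClHom hXe (sectionOf n c) hs
  obtain ⟨bj, hbj⟩ := exists_pushClHom hPe (KRR.projSpaceMap n i) hj
  have h1 : b = bj.comp bs := pushCl_comp hXe hPe (sectionOf n c) (KRR.projSpaceMap n i) hs hj
    (AddMonoidHom.id _) (AddMonoidHom.id _) (AddMonoidHom.id _) Function.bijective_id bs hbs bj hbj b hb
  have hid : ∀ {A : Scheme.{u}} [IsNoetherian A] (m : ℕ),
      PushPrHom m A (AddMonoidHom.id _) (AddMonoidHom.id _) (gP m A) := fun {A} _ m => (exists_gP m A).choose_spec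
  have h2 : a.comp (gP n X) = (gP n W).comp bj := pushCl_square hWe hPe i hi (AddMonoidHom.id _) (AddMonoidHom.id _)
    (AddMonoidHom.id _) (AddMonoidHom.id _) Function.bijective_id a ha bj hbj (gP n X) (hid n) (gP n W) (hid n)
  have h3 : (gP n X).comp bs = AddMonoidHom.id _ := pushPr_pushCl_section hXe (sectionOf n c) (sectionOf_pr n c)
    (AddMonoidHom.id _) (AddMonoidHom.id _) Function.bijective_id bs hbs (gP n X) (hid n)
  rw [h1, ← AddMonoidHom.comp_assoc, ← h2, AddMonoidHom.comp_assoc, h3, AddMonoidHom.comp_id]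

variable (n m : ℕ) (Y)

/-- `P^n_{P^m_Y} ≅ P^m_{P^n_Y}` -/
noncomputable def swapHom : KRR.PY n (KRR.PY m Y) ⟶ KRR.PY m (KRR.PY n Y) :=
  pullback.lift (KRR.pr n (KRR.PY m Y) ≫ pullback.fst _ _) (KRR.projSpaceMap n (KRR.pr m Y))
    (specULiftZIsTerminal.hom_ext _ _)

theorem swapHom_fst : swapHom Y n m ≫ pullback.fst _ _ = KRR.pr n (KRR.PY m Y) ≫ pullback.fst _ _ :=
  pullback.lift_fst _ _ _

theorem swapHom_pr : swapHom Y n m ≫ KRR.pr m (KRR.PY n Y) = KRR.projSpaceMap n (KRR.pr m Y) :=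
  pullback.lift_snd _ _ _

theorem swapHom_fst' : (swapHom Y n m ≫ KRR.pr m (KRR.PY n Y)) ≫ pullback.fst _ _ = pullback.fst _ _ := by
  rw [swapHom_pr, projSpaceMap_fst]

theorem swapHom_pr' : (swapHom Y n m ≫ KRR.pr m (KRR.PY n Y)) ≫ KRR.pr n Y =
    KRR.pr n (KRR.PY m Y) ≫ KRR.pr m Y := by
  rw [swapHom_pr, projSpaceMap_pr]

theorem swapHom_swapHom : swapHom Y n m ≫ swapHom Y m n = 𝟙 _ := by
  apply pullback.hom_ext
  · rw [Category.assoc, swapHom_fst, ← Category.assoc, swapHom_fst', Category.id_comp]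
  · show _ ≫ KRR.pr n (KRR.PY m Y) = _ ≫ KRR.pr n (KRR.PY m Y)
    rw [Category.assoc, swapHom_pr, Category.id_comp]
    apply pullback.hom_ext
    · rw [Category.assoc, projSpaceMap_fst, swapHom_fst]
    · show _ ≫ KRR.pr m Y = _ ≫ KRR.pr m Y
      rw [Category.assoc, projSpaceMap_pr, ← Category.assoc]
      exact swapHom_pr' Y n m

instance isIso_swapHom : IsIso (swapHom Y n m) :=
  ⟨⟨swapHom Y m n, swapHom_swapHom Y n m, swapHom_swapHom Y m n⟩⟩

theorem inv_swapHom : inv (swapHom Y n m) = swapHom Y m n :=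
  IsIso.inv_eq_of_hom_inv_id (swapHom_swapHom Y n m)

/-- the two iterated push-forwards agree -/
theorem gP_swap [IsNoetherian Y] (θ : SGA6.Kvb (KRR.PY n (KRR.PY m Y)) →+ SGA6.Kvb (KRR.PY m (KRR.PY n Y)))
    (hθ : ∀ F, FlatMod.IsFinLocFree F → θ (KRR.cl _ F) = KRR.cl _ ((Scheme.Modules.pullback (swapHom Y m n)).obj F)) :
    haveI := isNoetherian_PY (n := n) (Y := Y)
    haveI := isNoetherian_PY (n := m) (Y := Y)
    (gP m Y).comp (gP n (KRR.PY m Y)) = ((gP n Y).comp (gP m (KRR.PY n Y))).comp θ := by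
  haveI := isNoetherian_PY (n := n) (Y := Y)
  haveI := isNoetherian_PY (n := m) (Y := Y)
  haveI := isNoetherian_PY (n := n) (Y := KRR.PY m Y)
  refine hom_ext_gen fun G hG a => ?_
  let T := (CMReg7.twd n (KRR.PY m Y) (a : ℤ))
  let P := Scheme.Modules.pullback (KRR.pr n (KRR.PY m Y))
  haveI : Flat (KRR.pr n (KRR.PY m Y)) := ProjGen7.flat_toBase n _
  haveI : PreservesFiniteLimits P := RGLib.Lim8.preservesFiniteLimits_pullback _
  haveI : P.IsLeftAdjoint := (Scheme.Modules.pullbackPushforwardAdjunction _).isLeftAdjoint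
  obtain ⟨τ, hτ⟩ := KZ.exists_liftSub (KRR.vbP (KRR.PY m Y)) (fun M => KRR.cl _ (T.obj (P.obj M)))
    fun S hS h₁ h₂ h₃ => KZ.clSub_ses (KRR.vbP _) (RegSheaf7.shortExact_twF (a : ℤ) (hS.map_of_exact P))
      (flf_twF_pull h₁ _) (flf_twF_pull h₂ _) (flf_twF_pull h₃ _)
  suffices h : ((gP m Y).comp (gP n (KRR.PY m Y))).comp τ = (((gP n Y).comp (gP m (KRR.PY n Y))).comp θ).comp τ by
    have := DFunLike.congr_fun h (KRR.cl _ G)
    simp only [AddMonoidHom.comp_apply] at this ⊢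
    rw [show τ (KRR.cl _ G) = _ from hτ G hG] at this
    exact this
  refine hom_ext_gen fun E hE b => ?_
  simp only [AddMonoidHom.comp_apply]
  rw [show τ (KRR.cl _ (KRR.twF m Y (b : ℤ) ((Scheme.Modules.pullback (KRR.pr m Y)).obj E))) = _ from
    hτ _ (flf_twF_pull hE _)]
  show gP m Y (gP n (KRR.PY m Y) (KRR.cl _ (KRR.twF n (KRR.PY m Y) (a : ℤ) ((Scheme.Modules.pullback (KRR.pr n (KRR.PY m Y))).obj
      (KRR.twF m Y (b : ℤ) ((Scheme.Modules.pullback (KRR.pr m Y)).obj E)))))) =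
    gP n Y (gP m (KRR.PY n Y) (θ (KRR.cl _ (KRR.twF n (KRR.PY m Y) (a : ℤ) ((Scheme.Modules.pullback (KRR.pr n (KRR.PY m Y))).obj
      (KRR.twF m Y (b : ℤ) ((Scheme.Modules.pullback (KRR.pr m Y)).obj E)))))))
  have hbE := flf_twF_pull (n := m) hE (b : ℤ)
  have haE := flf_twF_pull (n := n) hE (a : ℤ)
  rw [gP_gen hbE, map_nsmul, gP_gen hE, hθ _ (flf_twF_pull hbE _)]
  obtain ⟨e⟩ : Nonempty ((Scheme.Modules.pullback (swapHom Y m n)).obj
      (KRR.twF n (KRR.PY m Y) (a : ℤ) ((Scheme.Modules.pullback (KRR.pr n (KRR.PY m Y))).obj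
        (KRR.twF m Y (b : ℤ) ((Scheme.Modules.pullback (KRR.pr m Y)).obj E)))) ≅
      KRR.twF m (KRR.PY n Y) (b : ℤ) ((Scheme.Modules.pullback (KRR.pr m (KRR.PY n Y))).obj
        (KRR.twF n Y (a : ℤ) ((Scheme.Modules.pullback (KRR.pr n Y)).obj E)))) := by
    refine H23.PicMul.cl_eq_iff.1 ?_
    show PicF.pullCl _ (PicF.cl (CohB1.tensorMod _ ((Scheme.Modules.pullback _).obj _))) =
      PicF.cl (CohB1.tensorMod _ ((Scheme.Modules.pullback _).obj _))
    rw [H23.PicMul.cl_tensor, H23.PicMul.cl_tensor, H23.PicMul.pullCl_mul]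
    show PicF.pullCl _ _ * PicF.pullCl _ (PicF.pullCl _ (PicF.cl (CohB1.tensorMod _ _))) =
      _ * PicF.pullCl _ (PicF.cl (CohB1.tensorMod _ _))
    rw [H23.PicMul.cl_tensor, H23.PicMul.cl_tensor, H23.PicMul.pullCl_mul, H23.PicMul.pullCl_mul,
      H23.PicMul.pullCl_mul, ← mul_assoc, mul_comm (PicF.pullCl (swapHom Y m n) _) (PicF.pullCl (swapHom Y m n) _)]
    rw [mul_assoc]
    have hz : ∀ {A : Scheme.{u}} {B C : Scheme.{u}} (p : A ⟶ B) (q : B ⟶ C) (c : C.Modules),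
        PicF.pullCl p (PicF.cl ((Scheme.Modules.pullback q).obj c)) = PicF.cl ((Scheme.Modules.pullback (p ≫ q)).obj c) :=
      fun p q c => H23.PicMul.cl_eq_iff.2 ⟨(Scheme.Modules.pullbackComp p q).app c⟩
    refine congrArg₂ (· * ·) ?_ (congrArg₂ (· * ·) ?_ ?_)
    · exact (congrArg _ (hz _ _ _)).trans ((hz _ _ _).trans (by
        rw [← Category.assoc, swapHom_fst']; rfl))
    · exact (hz _ _ _).trans ((by rw [swapHom_fst]; exact (hz _ _ _).symm))
    · exact (congrArg _ (hz _ _ _)).trans ((hz _ _ _).trans (by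
        rw [← Category.assoc, swapHom_pr']; exact (hz _ _ _).symm))
  rw [cl_iso e (KFlatLib.isFinLocFree_pullback _ (flf_twF_pull hbE _)), gP_gen haE, map_nsmul, gP_gen hE, smul_smul,
    smul_smul, mul_comm]

theorem factorizations_eq [IsNoetherian Y]
    (hP : ∀ a : ℕ, KRR.HasEnoughLocFree (KRR.PY a Y) ∧ ∀ b : ℕ, KRR.HasEnoughLocFree (KRR.PY a (KRR.PY b Y)))
    {X : Scheme.{u}} (i₁ : X ⟶ KRR.PY n Y) (i₂ : X ⟶ KRR.PY m Y)
    (h₁ : Mor2.IsRegularClosedImmersion i₁) (h₂ : Mor2.IsRegularClosedImmersion i₂)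
    (hf : i₁ ≫ KRR.pr n Y = i₂ ≫ KRR.pr m Y)
    {c₁ : SGA6.Kvb X →+ SGA6.Kvb (KRR.PY n Y)} (hc₁ : PushClHom i₁ (AddMonoidHom.id _) (AddMonoidHom.id _) c₁)
    {c₂ : SGA6.Kvb X →+ SGA6.Kvb (KRR.PY m Y)} (hc₂ : PushClHom i₂ (AddMonoidHom.id _) (AddMonoidHom.id _) c₂) :
    (gP n Y).comp c₁ = (gP m Y).comp c₂ := by
  haveI := isNoetherian_PY (n := n) (Y := Y)
  haveI := isNoetherian_PY (n := m) (Y := Y)
  haveI := isNoetherian_PY (n := n) (Y := KRR.PY m Y)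
  haveI := isNoetherian_PY (n := m) (Y := KRR.PY n Y)
  haveI : IsClosedImmersion i₁ := h₁.1
  haveI := isNoetherian_of_isClosedImmersion i₁
  let k := liftOf n (i₁ ≫ pullback.fst _ _) i₂
  let k' := liftOf m (i₂ ≫ pullback.fst _ _) i₁
  have hkk : k ≫ swapHom Y n m = k' := by
    apply pullback.hom_ext
    · rw [Category.assoc, swapHom_fst, ← Category.assoc, liftOf_pr, liftOf_fst]
    · show _ ≫ KRR.pr m (KRR.PY n Y) = _ ≫ KRR.pr m (KRR.PY n Y)
      rw [Category.assoc, swapHom_pr, liftOf_pr]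
      apply pullback.hom_ext
      · rw [Category.assoc, projSpaceMap_fst, liftOf_fst]
      · show _ ≫ KRR.pr n Y = _ ≫ KRR.pr n Y
        rw [Category.assoc, projSpaceMap_pr, ← Category.assoc, liftOf_pr, hf]
  have hk := isRegular_liftOf n (i₁ ≫ pullback.fst _ _) i₂ h₂
  have hk' : Mor2.IsRegularClosedImmersion k' := isRegular_liftOf m (i₂ ≫ pullback.fst _ _) i₁ h₁
  have hQ := (hP n).2 m
  have hQ' := (hP m).2 n
  obtain ⟨ck, hck⟩ := exists_pushClHom hQ k hk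
  obtain ⟨ck', hck'⟩ := exists_pushClHom hQ' k' hk'
  have hθ := isRegularClosedImmersion_of_isIso (swapHom Y n m)
  obtain ⟨θ, hθ'⟩ := exists_pushClHom hQ' (swapHom Y n m) hθ
  have h3 : ck' = θ.comp ck := pushCl_comp hQ hQ' k (swapHom Y n m) hk hθ
    (AddMonoidHom.id _) (AddMonoidHom.id _) (AddMonoidHom.id _) Function.bijective_id ck hck θ hθ' ck' (by rw [hkk]; exact hck')
  rw [← gP_pushCl_liftOf n (hP m).1 hQ (i₁ ≫ pullback.fst _ _) i₂ h₂ hc₂ hck,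
    ← gP_pushCl_liftOf m (hP n).1 hQ' (i₂ ≫ pullback.fst _ _) i₁ h₁ hc₁ hck', h3]
  rw [← AddMonoidHom.comp_assoc, ← AddMonoidHom.comp_assoc, ← AddMonoidHom.comp_assoc,
    gP_swap Y n m θ (fun F hF => by rw [pushClHom_iso hθ' hF, inv_swapHom]), AddMonoidHom.comp_assoc,
    AddMonoidHom.comp_assoc]

theorem pushPr_pushCl_eq_of_factorizations [IsNoetherian Y]
    (hP : ∀ a : ℕ, KRR.HasEnoughLocFree (KRR.PY a Y) ∧ ∀ b : ℕ, KRR.HasEnoughLocFree (KRR.PY a (KRR.PY b Y)))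
    {X : Scheme.{u}} (i₁ : X ⟶ KRR.PY n Y) (i₂ : X ⟶ KRR.PY m Y)
    (h₁ : Mor2.IsRegularClosedImmersion i₁) (h₂ : Mor2.IsRegularClosedImmersion i₂)
    (hf : i₁ ≫ KRR.pr n Y = i₂ ≫ KRR.pr m Y)
    {KX KY K₁ K₂ : Type v} [AddCommGroup KX] [AddCommGroup KY] [AddCommGroup K₁] [AddCommGroup K₂]
    {φX : SGA6.Kvb X →+ KX} (hXbij : Function.Bijective φX) {φY : SGA6.Kvb Y →+ KY}
    {φ₁ : SGA6.Kvb (KRR.PY n Y) →+ K₁} {φ₂ : SGA6.Kvb (KRR.PY m Y) →+ K₂}
    {a₁ : KX →+ K₁} (ha₁ : PushClHom i₁ φX φ₁ a₁) {b₁ : K₁ →+ KY} (hb₁ : PushPrHom n Y φ₁ φY b₁)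
    {a₂ : KX →+ K₂} (ha₂ : PushClHom i₂ φX φ₂ a₂) {b₂ : K₂ →+ KY} (hb₂ : PushPrHom m Y φ₂ φY b₂) :
    b₁.comp a₁ = b₂.comp a₂ := by
  haveI := isNoetherian_PY (n := n) (Y := Y)
  haveI := isNoetherian_PY (n := m) (Y := Y)
  haveI : IsClosedImmersion i₁ := h₁.1
  haveI := isNoetherian_of_isClosedImmersion i₁
  obtain ⟨c₁, hc₁⟩ := exists_pushClHom (hP n).1 i₁ h₁
  obtain ⟨c₂, hc₂⟩ := exists_pushClHom (hP m).1 i₂ h₂
  have key := factorizations_eq Y n m hP i₁ i₂ h₁ h₂ hf hc₁ hc₂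
  ext x
  obtain ⟨z, rfl⟩ := hXbij.2 x
  show b₁ ((a₁.comp φX) z) = b₂ ((a₂.comp φX) z)
  rw [pushClHom_eq (hP n).1 i₁ h₁ ha₁ hc₁, pushClHom_eq (hP m).1 i₂ h₂ ha₂ hc₂]
  show (b₁.comp φ₁) (c₁ z) = (b₂.comp φ₂) (c₂ z)
  rw [gP_eq φ₁ φY b₁ hb₁, gP_eq φ₂ φY b₂ hb₂]
  exact congrArg φY (DFunLike.congr_fun key z)

end Groth.Agent.KRR7
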