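import Groth.Agent.KZ.LFRes
import Groth.Agent.CMReg7.Main
import Mathlib.Algebra.Group.ForwardDiff

/-!
# Euler classes of bounded acyclic complexes and of iterated cones
-/

set_option autoImplicit false
set_option linter.style.haveILetI false
set_option backward.isDefEq.respectTransparency false
universe u v w
open CategoryTheory CategoryTheory.Limits HomologicalComplex AlgebraicGeometry
attribute [local instance] HasDerivedCategory.standard

namespace Groth.Agent.KRR7

open Groth.Agent

section generic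

variable {C : Type u} [Category.{v} C] [Abelian C]

/-- the short exact sequence of cycles of an exact complex -/
theorem exists_cycles_ses (K : CochainComplex C ℤ) (hK : K.Acyclic) (p q : ℤ) (hpq : p + 1 = q) :
    ∃ (t : K.X p ⟶ K.cycles q) (w : K.iCycles p ≫ t = 0),
      (ShortComplex.mk (K.iCycles p) t w).ShortExact := by
  subst hpq
  have hexact := hK (p + 1)
  rw [exactAt_iff_isZero_homology] at hexact
  haveI : Epi (K.toCycles p (p + 1)) := by
    refine Preadditive.epi_of_cancel_zero _ fun g hg => ?_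
    obtain ⟨g', hg'⟩ : ∃ g', K.homologyπ _ ≫ g' = g :=
      ⟨_, (K.homologyIsCokernel p (p + 1) (by simp)).fac (CokernelCofork.ofπ g hg) WalkingParallelPair.one⟩
    rw [← hg', hexact.eq_of_src g' 0, comp_zero]
  have w : K.iCycles p ≫ K.toCycles p (p + 1) = 0 := by
    rw [← cancel_mono (K.iCycles (p + 1)), Category.assoc, toCycles_i, iCycles_d, zero_comp]
  refine ⟨_, w, ?_⟩
  let S := ShortComplex.mk (K.iCycles p) (K.toCycles p (p + 1)) w
  haveI : Mono S.f := inferInstanceAs (Mono (K.iCycles p))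
  haveI : Epi S.g := inferInstanceAs (Epi (K.toCycles p (p + 1)))
  exact { exact := S.exact_of_f_is_kernel (KernelFork.IsLimit.ofι' _ _ fun {W} a ha =>
    ⟨K.liftCycles a (p + 1) (by simp) (by simpa [S] using ha =≫ K.iCycles (p + 1)), K.liftCycles_i _ _ _ _⟩) }

/-- Euler class of a complex in degrees `[-N, 0]` -/
noncomputable def eul (P : ObjectProperty C) (K : CochainComplex C ℤ) (N : ℕ) : KZero.K0sub P :=
  ∑ k ∈ Finset.range (N + 1), (-1 : ℤ) ^ k • KZero.clSub P (K.X (-(k : ℤ)))

theorem eul_eq_zero (P : ObjectProperty C) (K : CochainComplex C ℤ) (hK : K.Acyclic) (N : ℕ)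
    (htop : ∀ p, 0 < p → IsZero (K.X p)) (hbot : ∀ p, p < -(N : ℤ) → IsZero (K.X p))
    (hX : ∀ p, P (K.X p)) (hZ : ∀ p, P (K.cycles p)) : eul P K N = 0 := by
  have hstep : ∀ p q : ℤ, p + 1 = q →
      KZero.clSub P (K.X p) = KZero.clSub P (K.cycles p) + KZero.clSub P (K.cycles q) := fun p q hpq => by
    obtain ⟨t, w, hS⟩ := exists_cycles_ses K hK p q hpq
    exact KZ.clSub_ses P hS (hZ p) (hX p) (hZ q)
  have hzero : ∀ p, IsZero (K.X p) → IsZero (K.cycles p) := fun p h => IsZero.of_mono (K.iCycles p) h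
  have key : ∀ M : ℕ, ∑ k ∈ Finset.range (M + 1), (-1 : ℤ) ^ k • KZero.clSub P (K.X (-(k : ℤ))) =
      KZero.clSub P (K.cycles 1) + (-1 : ℤ) ^ M • KZero.clSub P (K.cycles (-(M : ℤ))) := by
    intro M
    induction M with
    | zero =>
      rw [Finset.sum_range_one, pow_zero, one_smul, one_smul, hstep (-((0 : ℕ) : ℤ)) 1 (by simp), add_comm]
    | succ M ih =>
      rw [Finset.sum_range_succ, ih, hstep (-((M + 1 : ℕ) : ℤ)) (-(M : ℤ)) (by push_cast; ring), smul_add, pow_succ]
      simp only [mul_neg, mul_one, neg_smul]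
      abel
  have hN : IsZero (K.cycles (-(N : ℤ))) := by
    obtain ⟨t, w, hS⟩ := exists_cycles_ses K hK (-(N : ℤ) - 1) (-(N : ℤ)) (by ring)
    haveI := hS.epi_g
    exact IsZero.of_epi t (hbot _ (by omega))
  rw [eul, key, KZ.clSub_isZero P (hzero 1 (htop 1 one_pos)), KZ.clSub_isZero P hN, smul_zero, add_zero]

end generic

variable {X : Scheme.{u}} {κ : Type}

/-- the short exact sequence of a term of a mapping cone -/
theorem mappingCone_ses {C : Type u} [Category.{v} C] [Abelian C] {A B : CochainComplex C ℤ} (φ : A ⟶ B) (p : ℤ) :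
    ∃ (S : ShortComplex C), S.ShortExact ∧ S.X₁ = B.X p ∧ S.X₂ = (CochainComplex.mappingCone φ).X p ∧
      S.X₃ = A.X (p + 1) := by
  let S := ShortComplex.mk ((CochainComplex.mappingCone.inr φ).f p)
    ((CochainComplex.mappingCone.fst φ).1.v p (p + 1) rfl) (by simp)
  have s : S.Splitting :=
    { r := (CochainComplex.mappingCone.snd φ).v p p (add_zero p)
      s := (CochainComplex.mappingCone.inl φ).v (p + 1) p (by omega)
      f_r := by simp [S]
      s_g := by simp [S]
      id := by
        rw [add_comm]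
        exact CochainComplex.mappingCone.id_X φ p (p + 1) rfl }
  exact ⟨S, s.shortExact, rfl, rfl, rfl⟩

/-- terms of iterated cones satisfy properties closed under extensions -/
theorem term_prop (P : ObjectProperty X.Modules) [P.IsClosedUnderIsomorphisms]
    (h0 : ∀ M, IsZero M → P M) (hext : ∀ S : ShortComplex X.Modules, S.ShortExact → P S.X₁ → P S.X₃ → P S.X₂)
    (L : ℤ → X.Modules) (m : κ → ∀ a, L a ⟶ L (a + 1))
    (hc : ∀ i j a, m i a ≫ m j (a + 1) = m j a ≫ m i (a + 1)) :
    ∀ (l : List κ) (a p : ℤ), (∀ b, a ≤ b → b ≤ a + (l.length : ℤ) → P (L b)) →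
      P ((((ProjGen7.kdOfModules L m hc).cones l).obj a).X p)
  | [], a, p, h => by
    by_cases hp : p = 0
    · subst hp
      exact P.prop_of_iso (singleObjXSelf (ComplexShape.up ℤ) 0 (L a)).symm (h a le_rfl (by simp))
    · exact h0 _ (isZero_single_obj_X (ComplexShape.up ℤ) 0 (L a) p hp)
  | t :: l, a, p, h => by
    let F' := (ProjGen7.kdOfModules L m hc).cones l
    obtain ⟨S, hS, e₁, e₂, e₃⟩ := mappingCone_ses (F'.op t a) p
    have := hext S hS (by rw [e₁]; exact term_prop P h0 hext L m hc l (a + 1) p fun b hb hb' => h b (by omega) (by simp; omega))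
      (by rw [e₃]; exact term_prop P h0 hext L m hc l a (p + 1) fun b hb hb' => h b hb (by simp; omega))
    rwa [e₂] at this

/-- below the window the terms vanish -/
theorem isZero_below (L : ℤ → X.Modules) (m : κ → ∀ a, L a ⟶ L (a + 1))
    (hc : ∀ i j a, m i a ≫ m j (a + 1) = m j a ≫ m i (a + 1)) (l : List κ) (a p : ℤ)
    (hp : p < -(l.length : ℤ)) : IsZero ((((ProjGen7.kdOfModules L m hc).cones l).obj a).X p) :=
  CMReg7.isZero_term L m hc (𝟭 _) l a p fun h => absurd h.2 (by omega)

/-- the Euler class of the iterated cones is an iterated difference -/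
theorem eul_cones (P : ObjectProperty X.Modules) [P.IsClosedUnderIsomorphisms]
    (h0 : ∀ M, IsZero M → P M) (hext : ∀ S : ShortComplex X.Modules, S.ShortExact → P S.X₁ → P S.X₃ → P S.X₂)
    (L : ℤ → X.Modules) (m : κ → ∀ a, L a ⟶ L (a + 1))
    (hc : ∀ i j a, m i a ≫ m j (a + 1) = m j a ≫ m i (a + 1)) :
    ∀ (l : List κ) (a : ℤ), (∀ b, a ≤ b → b ≤ a + (l.length : ℤ) → P (L b)) →
      eul P (((ProjGen7.kdOfModules L m hc).cones l).obj a) l.length =
        (fwdDiff (1 : ℤ))^[l.length] (fun b => KZero.clSub P (L b)) a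
  | [], a, h => by
    rw [eul, List.length_nil, zero_add, Finset.sum_range_one, pow_zero, one_smul, Function.iterate_zero, id_eq]
    exact KZ.clSub_iso P (singleObjXSelf (ComplexShape.up ℤ) 0 (L a)) (P.prop_of_iso
      (singleObjXSelf (ComplexShape.up ℤ) 0 (L a)).symm (h a le_rfl (by simp))) (h a le_rfl (by simp))
      (isZero_zero _) (h0 _ (isZero_zero _))
  | t :: l, a, h => by
    let F' := (ProjGen7.kdOfModules L m hc).cones l
    have hb : ∀ b, a + 1 ≤ b → b ≤ a + 1 + (l.length : ℤ) → P (L b) := fun b hb hb' => h b (by omega) (by simp; omega)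
    have ha : ∀ b, a ≤ b → b ≤ a + (l.length : ℤ) → P (L b) := fun b hb hb' => h b hb (by simp; omega)
    have hterm : ∀ p, KZero.clSub P ((CochainComplex.mappingCone (F'.op t a)).X p) =
        KZero.clSub P ((F'.obj (a + 1)).X p) + KZero.clSub P ((F'.obj a).X (p + 1)) := fun p => by
      obtain ⟨S, hS, e₁, e₂, e₃⟩ := mappingCone_ses (F'.op t a) p
      rw [← e₁, ← e₂, ← e₃]
      refine KZ.clSub_ses P hS (by rw [e₁]; exact term_prop P h0 hext L m hc l (a + 1) p hb)
        (by rw [e₂]; exact term_prop P h0 hext L m hc (t :: l) a p h)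
        (by rw [e₃]; exact term_prop P h0 hext L m hc l a (p + 1) ha)
    show ∑ k ∈ Finset.range (l.length + 1 + 1), (-1 : ℤ) ^ k •
      KZero.clSub P ((CochainComplex.mappingCone (F'.op t a)).X (-(k : ℤ))) = _
    simp only [hterm, smul_add, Finset.sum_add_distrib]
    rw [List.length_cons, Function.iterate_succ', Function.comp_apply, fwdDiff,
      ← eul_cones P h0 hext L m hc l a ha, ← eul_cones P h0 hext L m hc l (a + 1) hb, sub_eq_add_neg]
    congr 1
    · rw [Finset.sum_range_succ, KZ.clSub_isZero P (isZero_below L m hc l (a + 1) _ (by push_cast; omega)),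
        smul_zero, add_zero]
      rfl
    · have hz := KZ.clSub_isZero P ((CMReg7.nonempty_top L m hc l a).2 1 one_pos)
      rw [Finset.sum_range_succ', eul, ← Finset.sum_neg_distrib]
      refine (add_eq_left.2 ?_).trans (Finset.sum_congr rfl fun k _ => ?_)
      · rw [show (-((0 : ℕ) : ℤ) + 1) = 1 by simp]
        rw [hz, smul_zero]
      · rw [show (-((k + 1 : ℕ) : ℤ) + 1) = -(k : ℤ) by push_cast; ring, pow_succ, mul_neg, mul_one, neg_smul]

end Groth.Agent.KRR7
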