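import Groth.Agent.KRR7.Euler
import Groth.Agent.CMReg7.Syz
import Groth.Agent.H23.PullPush
import Groth.Agent.KFlatLib.Perfect.Tensor

/-!
# The Koszul relations among classes of twists on `P^n_Y`
-/

set_option autoImplicit false
set_option linter.style.haveILetI false
set_option backward.isDefEq.respectTransparency false
universe u
open CategoryTheory CategoryTheory.Limits HomologicalComplex AlgebraicGeometry
attribute [local instance] HasDerivedCategory.standard

namespace Groth.Agent.KRR7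

open Groth.Agent
open scoped Groth.Agent.H23.PicMul

variable {n : ℕ} {Y : Scheme.{u}}

theorem isLocallyNoetherian_PY [IsNoetherian Y] : IsLocallyNoetherian (KRR.PY n Y) := by
  haveI := CMReg7.isProper_pr (n := n) (T := Y)
  exact LocallyOfFiniteType.isLocallyNoetherian (KRR.pr n Y)

theorem flf_ext {X : Scheme.{u}} [IsLocallyNoetherian X] {S : ShortComplex X.Modules} (hS : S.ShortExact)
    (h₁ : FlatMod.IsFinLocFree S.X₁) (h₃ : FlatMod.IsFinLocFree S.X₃) : FlatMod.IsFinLocFree S.X₂ :=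
  KZ.LFRes.pdlt_one_iff.1 (KZ.LFRes.PDLT.ext hS (KZ.LFRes.pdlt_one_iff.2 h₁) (KZ.LFRes.pdlt_one_iff.2 h₃))

theorem flf_ker {X : Scheme.{u}} [IsLocallyNoetherian X] {S : ShortComplex X.Modules} (hS : S.ShortExact)
    (h₂ : FlatMod.IsFinLocFree S.X₂) (h₃ : FlatMod.IsFinLocFree S.X₃) : FlatMod.IsFinLocFree S.X₁ :=
  KZ.LFRes.pdlt_one_iff.1 (KZ.LFRes.PDLT.kernel_of hS (KZ.LFRes.pdlt_one_iff.2 h₂)
    ((KZ.LFRes.pdlt_one_iff.2 h₃).mono (Nat.le_succ _)))

/-- regular bundles -/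
def RB (n : ℕ) (Y : Scheme.{u}) : ObjectProperty (KRR.PY n Y).Modules :=
  fun M => FlatMod.IsFinLocFree M ∧ KRR.IsRegSheaf n Y M

theorem reg_of_iso {F G : (KRR.PY n Y).Modules} (e : F ≅ G) (h : KRR.IsRegSheaf n Y F) : KRR.IsRegSheaf n Y G :=
  fun i hi => (h i hi).of_iso ((Coh.RpushAb (KRR.pr n Y) i).mapIso ((QCoh.toAbFunctor _).mapIso
    (((DCoh.tensorBi (X := KRR.PY n Y)).obj (Twist.twistOver n Y (-(i : ℤ)))).mapIso e))).symm

theorem reg_of_isZero {M : (KRR.PY n Y).Modules} (h : IsZero M) : KRR.IsRegSheaf n Y M := fun i _ => by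
  haveI : ((DCoh.tensorBi (X := KRR.PY n Y)).obj (Twist.twistOver n Y (-(i : ℤ)))).Additive := by
    haveI := AmpleVan.isEquivalence_tw (RegSheaf7.isInvertible_twistOver (n := n) (T := Y) (-(i : ℤ)))
    haveI : ((DCoh.tensorBi (X := KRR.PY n Y)).obj (Twist.twistOver n Y (-(i : ℤ)))).IsEquivalence :=
      Functor.isEquivalence_of_iso ((KFlatLib.tensorBiFlipIso (KRR.PY n Y)).app (Twist.twistOver n Y (-(i : ℤ))) :
        AmpleVan.tw (Twist.twistOver n Y (-(i : ℤ))) ≅ _)
    exact Functor.additive_of_preserves_binary_products _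
  exact (Coh.RpushAb (KRR.pr n Y) i).map_isZero ((QCoh.toAbFunctor _).map_isZero
    (((DCoh.tensorBi (X := KRR.PY n Y)).obj (Twist.twistOver n Y (-(i : ℤ)))).map_isZero h))

theorem nonempty_twF_twF (a b : ℤ) (F : (KRR.PY n Y).Modules) :
    Nonempty (KRR.twF n Y a (KRR.twF n Y b F) ≅ KRR.twF n Y (a + b) F) :=
  RegSheaf7.twF_twF a b _ rfl F

theorem flf_twF {F : (KRR.PY n Y).Modules} (hF : FlatMod.IsFinLocFree F) (a : ℤ) :
    FlatMod.IsFinLocFree (KRR.twF n Y a F) :=
  KFlatLib.isFinLocFree_tensor (H23.PullPush.isFinLocFree_of_isInvertible (RegSheaf7.isInvertible_twistOver a)) hF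

theorem flf_of_iso {X : Scheme.{u}} {F G : X.Modules} (e : F ≅ G) (h : FlatMod.IsFinLocFree F) :
    FlatMod.IsFinLocFree G :=
  H23.PullPush.isFinLocFree_of_iso e h

/-- if `F(a)` is regular then so is `F(b)` for `b ≥ a` -/
theorem reg_twF_ge {F : (KRR.PY n Y).Modules} {a b : ℤ} (hab : a ≤ b)
    (h : KRR.IsRegSheaf n Y (KRR.twF n Y a F)) : KRR.IsRegSheaf n Y (KRR.twF n Y b F) := by
  obtain ⟨k, rfl⟩ := Int.le.dest hab
  obtain ⟨e⟩ := nonempty_twF_twF (k : ℤ) a F
  rw [add_comm]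
  exact reg_of_iso e (CMReg7.reg_twF _ h k)

variable [IsNoetherian Y]

/-- the Koszul relations, among bundles and among regular bundles -/
theorem koszul_relation (F : (KRR.PY n Y).Modules) (hF : FlatMod.IsFinLocFree F) (a : ℤ) :
    (fwdDiff (1 : ℤ))^[n + 1] (fun b => KRR.cl (KRR.PY n Y) (KRR.twF n Y b F)) a = 0 ∧
    (KRR.IsRegSheaf n Y (KRR.twF n Y a F) →
      (fwdDiff (1 : ℤ))^[n + 1] (fun b => KZero.clSub (RB n Y) (KRR.twF n Y b F)) a = 0) := by
  haveI := isLocallyNoetherian_PY (n := n) (Y := Y)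
  let R := ULift.{u} ℤ
  let f : Fin (n + 1) → MvPolynomial (Fin (n + 1)) R := fun j => ProjGen7.coord' n R (ULift.up j)
  have hf : ∀ j, f j ∈ CohB1.polyGrading n R 1 := fun j => ProjGen7.coord'_mem n R (ULift.up j)
  let μ : ∀ (_ : Fin (n + 1)) (b : ℤ), Twist.twistOver n Y b ⟶ Twist.twistOver n Y (b + 1) := fun j b =>
    (Scheme.Modules.pullback (CMReg7.toZ n Y)).map (PnDual.mulHom (hf j) (d := b) (d' := b + 1) rfl)
  let L : ℤ → (KRR.PY n Y).Modules := fun b => KRR.twF n Y b F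
  let m : Fin (n + 1) → ∀ b, L b ⟶ L (b + 1) := fun j b =>
    ((DCoh.tensorBi (X := KRR.PY n Y)).map (μ j b)).app F
  have hc : ∀ j j' b, m j b ≫ m j' (b + 1) = m j' b ≫ m j (b + 1) := fun j j' b => by
    simp only [m, μ, ← NatTrans.comp_app, ← Functor.map_comp, ProjGen7.mulHom_comm (hf j) (hf j') b]
  let V : Fin (n + 1) → (KRR.PY n Y).Opens := fun j => CMReg7.toZ n Y ⁻¹ᵁ Proj.basicOpen (CohB1.polyGrading n R) (f j)
  have hcov : ∀ y, ∃ j, y ∈ V j := fun y => by
    have hy : (CMReg7.toZ n Y) y ∈ ⨆ j, PnCoh.Finite.D (CohB1.polyGrading n R) (ProjGen7.coord' n R j) :=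
      ProjGen7.iSup_coord' n R ▸ TopologicalSpace.Opens.mem_top _
    obtain ⟨j, hj⟩ := TopologicalSpace.Opens.mem_iSup.1 hy
    exact ⟨j.down, hj⟩
  have hiso : ∀ j b, IsIso ((Scheme.Modules.restrictFunctor (V j).ι).map (m j b)) := fun j b => by
    haveI := ProjGen7.isIso_restrict_mulHom (hf j) b
    haveI : IsIso ((Scheme.Modules.restrictFunctor (V j).ι).map (μ j b)) :=
      ExtShX.isIso_restrict_pull (CMReg7.toZ n Y) _ _
    haveI := ExtShX.isIso_restrict_tensor (V j).ι F (μ j b)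
    exact (NatIso.isIso_map_iff (Functor.isoWhiskerRight ((KFlatLib.tensorBiFlipIso (KRR.PY n Y)).app F)
      (Scheme.Modules.restrictFunctor (V j).ι)) (μ j b)).2 ‹_›
  let l := (Finset.univ : Finset (Fin (n + 1))).toList
  have hl : l.length = n + 1 := by simp [l]
  let K := ((ProjGen7.kdOfModules L m hc).cones l).obj a
  have hK : K.Acyclic := CMReg7.acyclic_cones L m hc V hcov hiso a
  have htop := (CMReg7.nonempty_top L m hc l a).2
  have hbot : ∀ p, p < -(l.length : ℤ) → IsZero (K.X p) := fun p hp => isZero_below L m hc l a p hp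
  haveI : ObjectProperty.IsClosedUnderIsomorphisms (KRR.vbP (KRR.PY n Y)) := ⟨fun e h => flf_of_iso e h⟩
  haveI : (RB n Y).IsClosedUnderIsomorphisms := ⟨fun e h => ⟨flf_of_iso e h.1, reg_of_iso e h.2⟩⟩
  have hX : ∀ p, FlatMod.IsFinLocFree (K.X p) := fun p =>
    term_prop (KRR.vbP (KRR.PY n Y)) (fun M => KFlatLib.isFinLocFree_of_isZero)
      (fun S hS => flf_ext hS) L m hc l a p (fun b _ _ => flf_twF hF b)
  have hZ : ∀ p, FlatMod.IsFinLocFree (K.cycles p) := by
    suffices h : ∀ (k : ℕ) (p : ℤ), 1 ≤ p + k → FlatMod.IsFinLocFree (K.cycles p) from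
      fun p => h (1 - p).toNat p (by omega)
    intro k
    induction k with
    | zero => exact fun p hp => KFlatLib.isFinLocFree_of_isZero (IsZero.of_mono (K.iCycles p) (htop p (by omega)))
    | succ k ih =>
      intro p hp
      obtain ⟨t, w, hS⟩ := exists_cycles_ses K hK p (p + 1) rfl
      exact flf_ker hS (hX p) (ih (p + 1) (by push_cast at hp; omega))
  refine ⟨?_, fun hreg => ?_⟩
  · have e := eul_cones (KRR.vbP (KRR.PY n Y)) (fun M => KFlatLib.isFinLocFree_of_isZero)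
      (fun S hS => flf_ext hS) L m hc l a (fun b _ _ => flf_twF hF b)
    rw [eul_eq_zero (KRR.vbP (KRR.PY n Y)) K hK l.length htop hbot hX hZ, hl] at e
    exact e.symm
  · have hb : ∀ b, a ≤ b → b ≤ a + (l.length : ℤ) → RB n Y (L b) := fun b hb _ => ⟨flf_twF hF b, reg_twF_ge hb hreg⟩
    have hext : ∀ S : ShortComplex (KRR.PY n Y).Modules, S.ShortExact → RB n Y S.X₁ → RB n Y S.X₃ → RB n Y S.X₂ :=
      fun S hS h₁ h₃ => ⟨flf_ext hS h₁.1 h₃.1, RegSheaf7.regX2 hS h₁.2 h₃.2⟩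
    have h0 : ∀ M, IsZero M → RB n Y M := fun M hM => ⟨KFlatLib.isFinLocFree_of_isZero hM, reg_of_isZero hM⟩
    have hX' : ∀ p, RB n Y (K.X p) := fun p => term_prop (RB n Y) h0 hext L m hc l a p hb
    have hZ' : ∀ p, RB n Y (K.cycles p) := by
      suffices h : ∀ (k : ℕ) (p : ℤ), p < -(l.length : ℤ) + k → RB n Y (K.cycles p) from
        fun p => h (p + l.length + 1).toNat p (by omega)
      intro k
      induction k with
      | zero => exact fun p hp => h0 _ (IsZero.of_mono (K.iCycles p) (hbot p (by simpa using hp)))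
      | succ k ih =>
        intro p hp
        obtain ⟨t, w, hS⟩ := exists_cycles_ses K hK (p - 1) p (by ring)
        let S := ShortComplex.mk (K.iCycles (p - 1)) t w
        have a₂ : KRR.IsRegSheaf n Y S.X₂ := (hX' (p - 1)).2
        have a₁ : KRR.IsRegSheaf n Y (KRR.twF n Y 1 S.X₁) :=
          CMReg7.reg_twF_one _ (ih (p - 1) (by push_cast at hp; omega)).2
        have a₃ := @RegSheaf7.regX3 n Y S hS a₂ a₁
        exact ⟨hZ p, a₃⟩
    have e := eul_cones (RB n Y) h0 hext L m hc l a hb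
    have z : eul (RB n Y) K l.length = 0 := eul_eq_zero (RB n Y) K hK l.length htop hbot hX' hZ'
    have e' := e.symm.trans z
    rw [hl] at e'
    exact e'

end Groth.Agent.KRR7
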