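import Groth.Agent.KRR7.Pull
import Groth.Agent.KRR7.BaseVan
import Groth.Agent.KRR7.GP
import Groth.Agent.KZ.Localization

/-!
# Existence and uniqueness of the maps on models, base change, disjointness
-/

set_option autoImplicit false
set_option linter.style.haveILetI false
set_option linter.unusedSectionVars false
set_option backward.isDefEq.respectTransparency false
universe u v
open CategoryTheory CategoryTheory.Limits AlgebraicGeometry
attribute [local instance] HasDerivedCategory.standard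

namespace Groth.Agent.KRR7

open Groth.Agent Groth.Agent.KZ.LFRes

variable {X Y : Scheme.{u}} {KX KY : Type v} [AddCommGroup KX] [AddCommGroup KY]

theorem existsUnique_pushPrHom (n : ℕ) [IsNoetherian Y] (φP : SGA6.Kvb (KRR.PY n Y) →+ KX)
    (hP : Function.Bijective φP) (φY : SGA6.Kvb Y →+ KY) : ∃! g : KX →+ KY, PushPrHom n Y φP φY g := by
  let e := AddEquiv.ofBijective φP hP
  refine ⟨(φY.comp (gP n Y)).comp e.symm.toAddMonoidHom, fun F hF hreg => ?_, fun g hg => ?_⟩
  · show φY (gP n Y (e.symm (φP _))) = _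
    rw [show e.symm (φP (KRR.cl _ F)) = KRR.cl _ F from e.symm_apply_apply _, gP_reg n Y hF hreg]
  · refine AddMonoidHom.ext fun y => ?_
    obtain ⟨z, rfl⟩ := hP.2 y
    show (g.comp φP) z = φY (gP n Y (e.symm (φP z)))
    rw [gP_eq φP φY g hg, show e.symm (φP z) = z from e.symm_apply_apply _]
    rfl

theorem existsUnique_pushClHom [IsNoetherian X] [IsNoetherian Y] (hYe : KRR.HasEnoughLocFree Y) (f : X ⟶ Y)
    (hf : Mor2.IsRegularClosedImmersion f) (φX : SGA6.Kvb X →+ KX) (hX : Function.Bijective φX)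
    (φY : SGA6.Kvb Y →+ KY) : ∃! g : KX →+ KY, PushClHom f φX φY g := by
  let e := AddEquiv.ofBijective φX hX
  obtain ⟨c, hc⟩ := exists_pushClHom hYe f hf
  refine ⟨(φY.comp c).comp e.symm.toAddMonoidHom, fun F hF m L π hL => ?_, fun g hg => ?_⟩
  · show φY (c (e.symm (φX _))) = _
    rw [show e.symm (φX (KRR.cl _ F)) = KRR.cl _ F from e.symm_apply_apply _]
    have h := hc F hF m L π hL
    simp only [AddMonoidHom.id_apply] at h
    rw [h, map_sum]
    simp only [map_zsmul]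
  · refine AddMonoidHom.ext fun y => ?_
    obtain ⟨z, rfl⟩ := hX.2 y
    show (g.comp φX) z = φY (c (e.symm (φX z)))
    rw [pushClHom_eq hYe f hf hg hc, show e.symm (φX z) = z from e.symm_apply_apply _]
    rfl

theorem pull_pushPr_baseChange (n : ℕ) {Y₁ : Scheme.{u}} [IsNoetherian Y] [IsNoetherian Y₁] (φ : Y₁ ⟶ Y)
    {KP KP₁ KY₁ : Type v} [AddCommGroup KP] [AddCommGroup KP₁] [AddCommGroup KY₁]
    {φP : SGA6.Kvb (KRR.PY n Y) →+ KP} (hP : Function.Bijective φP) {φY : SGA6.Kvb Y →+ KY}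
    {φP₁ : SGA6.Kvb (KRR.PY n Y₁) →+ KP₁} {φY₁ : SGA6.Kvb Y₁ →+ KY₁}
    {gφ : KY →+ KY₁} (hgφ : PullHom φ φY φY₁ gφ) {gψ : KP →+ KP₁} (hgψ : PullHom (KRR.projSpaceMap n φ) φP φP₁ gψ)
    {b : KP →+ KY} (hb : PushPrHom n Y φP φY b) {b₁ : KP₁ →+ KY₁} (hb₁ : PushPrHom n Y₁ φP₁ φY₁ b₁) (z : KP) :
    gφ (b z) = b₁ (gψ z) := by
  obtain ⟨w, rfl⟩ := hP.2 z
  refine DFunLike.congr_fun (hom_ext_reg (f := (gφ.comp b).comp φP) (g := (b₁.comp gψ).comp φP)
    fun F hF hreg => ?_) w
  show gφ (b (φP (KRR.cl _ F))) = b₁ (gψ (φP (KRR.cl _ F)))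
  haveI : HasInjectiveResolutions (KRR.PY n Y).Modules := KFlatLib.hasInjectiveResolutions_modules
  have hp := CMReg7.isFinLocFree_push_pr hF fun i hi => CMReg7.higher_zero F hreg i hi
  have hψF := KFlatLib.isFinLocFree_pullback (KRR.projSpaceMap n φ) hF
  rw [hb F hF hreg, hgφ _ hp, hgψ F hF, hb₁ _ hψF (reg_projSpaceMap φ hF hreg)]
  haveI := isIso_bcMap φ (projSpaceMap_pr φ) hF hreg
  exact congrArg φY₁ (cl_iso (asIso (KRR.bcMap n φ (projSpaceMap_pr φ) F)) (KFlatLib.isFinLocFree_pullback φ hp))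

theorem pull_pushCl_eq_zero_of_disjoint {P M Z : Scheme.{u}} [IsNoetherian P] [IsNoetherian M]
    (hMe : KRR.HasEnoughLocFree M) (F : P ⟶ M) (hF : Mor2.IsRegularClosedImmersion F) (h : Z ⟶ M)
    (hd : Disjoint (Set.range h) (Set.range F)) {KP KM KW : Type v} [AddCommGroup KP] [AddCommGroup KM]
    [AddCommGroup KW] {φP : SGA6.Kvb P →+ KP} (hP : Function.Bijective φP) {φM : SGA6.Kvb M →+ KM}
    {φZ : SGA6.Kvb Z →+ KW} {gh : KM →+ KW} (hgh : PullHom h φM φZ gh) {gF : KP →+ KM}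
    (hgF : PushClHom F φP φM gF) (p : KP) : gh (gF p) = 0 := by
  haveI : IsClosedImmersion F := hF.1
  obtain ⟨w, rfl⟩ := hP.2 p
  refine DFunLike.congr_fun (KZ.K0sub_hom_ext (KRR.vbP P) (f := (gh.comp gF).comp φP) (g := 0) fun E hE => ?_) w
  show gh (gF (φP (KRR.cl P E))) = 0
  obtain ⟨N, L, π, hL⟩ := (p₁_push F hMe hF hE).2
  rw [hgF E hE N L π hL, map_sum]
  simp only [map_zsmul]
  rw [Finset.sum_congr rfl fun k _ => congrArg _ (hgh _ (hL.finLocFree k))]
  let U : M.Opens := ⟨(Set.range F)ᶜ, F.isClosedEmbedding.isClosed_range.isOpen_compl⟩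
  have hle : Set.range h ⊆ Set.range U.ι := by
    rw [Scheme.Opens.range_ι]
    exact fun x hx hx' => hd.le_bot ⟨hx, hx'⟩
  let k' := IsOpenImmersion.lift U.ι h hle
  let R := Scheme.Modules.pullback U.ι
  haveI : PreservesFiniteLimits R := RGLib.Lim8.preservesFiniteLimits_pullback _
  haveI := (Scheme.Modules.pullbackPushforwardAdjunction U.ι).isLeftAdjoint
  haveI : IsLocallyNoetherian (U : Scheme) := LocallyOfFiniteType.isLocallyNoetherian U.ι
  have hR : IsZero (R.obj ((Scheme.Modules.pushforward F).obj E)) :=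
    (KZ.Localization.isZero_restrict_push (i := F) U.ι (by rw [Scheme.Opens.range_ι]; exact subset_rfl) E).of_iso
      ((Scheme.Modules.restrictFunctorIsoPullback U.ι).app _).symm
  obtain ⟨e⟩ := res_opcycles_zero hL
  have hflf : ∀ k, FlatMod.IsFinLocFree (R.obj (L.opcycles k)) := by
    intro k
    induction k with
    | zero => exact KFlatLib.isFinLocFree_of_isZero (hR.of_iso (R.mapIso e))
    | succ k ih =>
      obtain ⟨S, hS, e₁, e₂, e₃⟩ := res_opcycles_ses hL k
      rw [← e₁]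
      exact flf_ker (hS.map_of_exact R) (by show FlatMod.IsFinLocFree (R.obj S.X₂); rw [e₂]
                                            exact KFlatLib.isFinLocFree_pullback _ (hL.finLocFree k))
        (by show FlatMod.IsFinLocFree (R.obj S.X₃); rw [e₃]; exact ih)
  obtain ⟨c, hc⟩ := exists_pullHom k'
  let γ : (U : Scheme).Modules → KW := fun A => φZ (c (KRR.cl _ A))
  have hγ : ∀ k, φZ (KRR.cl Z ((Scheme.Modules.pullback h).obj (L.X k))) =
      γ (R.obj (L.opcycles (k + 1))) + γ (R.obj (L.opcycles k)) := fun k => by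
    obtain ⟨S, hS, e₁, e₂, e₃⟩ := res_opcycles_ses hL k
    have hk := KFlatLib.isFinLocFree_pullback U.ι (hL.finLocFree k)
    have h1 : KRR.cl (U : Scheme) (R.obj (L.X k)) =
        KRR.cl _ (R.obj (L.opcycles (k + 1))) + KRR.cl _ (R.obj (L.opcycles k)) := by
      rw [← e₁, ← e₂, ← e₃]
      exact KZ.clSub_ses (KRR.vbP (U : Scheme)) (hS.map_of_exact R)
        (by show FlatMod.IsFinLocFree (R.obj S.X₁); rw [e₁]; exact hflf _)
        (by show FlatMod.IsFinLocFree (R.obj S.X₂); rw [e₂]; exact hk)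
        (by show FlatMod.IsFinLocFree (R.obj S.X₃); rw [e₃]; exact hflf _)
    show _ = φZ (c _) + φZ (c _)
    rw [← map_add, ← map_add, ← h1]
    refine congrArg φZ (Eq.trans ?_ (hc _ hk).symm)
    exact cl_iso ((Scheme.Modules.pullbackCongr (IsOpenImmersion.lift_fac U.ι h hle).symm).app _ ≪≫
      ((Scheme.Modules.pullbackComp k' U.ι).app _).symm) (KFlatLib.isFinLocFree_pullback h (hL.finLocFree k))
  rw [Finset.sum_congr rfl fun k _ => congrArg _ (hγ k)]
  have key : ∀ m : ℕ, ∑ k ∈ Finset.range (m + 1),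
      (-1 : ℤ) ^ k • (γ (R.obj (L.opcycles (k + 1))) + γ (R.obj (L.opcycles k))) =
      γ (R.obj (L.opcycles 0)) + (-1 : ℤ) ^ m • γ (R.obj (L.opcycles (m + 1))) := by
    intro m
    induction m with
    | zero => rw [Finset.sum_range_one, pow_zero, one_smul, one_smul, add_comm]
    | succ m ih =>
      rw [Finset.sum_range_succ, ih, smul_add, pow_succ]
      simp only [mul_neg, mul_one, neg_smul]
      abel
  have hγ0 : ∀ A : (U : Scheme).Modules, IsZero A → γ A = 0 := fun A hA => by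
    show φZ (c (KRR.cl _ A)) = 0
    rw [show KRR.cl (U : Scheme) A = 0 from KZ.clSub_isZero (KRR.vbP (U : Scheme)) hA, map_zero, map_zero]
  rw [key, hγ0 _ (hR.of_iso (R.mapIso e)),
    hγ0 _ (R.map_isZero (IsZero.of_epi (L.pOpcycles (N + 1)) (hL.isZero _ (by omega)))), smul_zero, add_zero]

end Groth.Agent.KRR7
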