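import Groth.Agent.KRR7.PullModel
import Groth.Agent.KRR7.Ample
import Groth.Agent.KFlatLib.Perfect.Top

/-!
# The augmentation ideal of `K(X)` of a scheme with an ample invertible module is nil
-/

set_option autoImplicit false
set_option linter.style.haveILetI false
set_option linter.unusedSectionVars false
set_option backward.isDefEq.respectTransparency false
universe u v
open CategoryTheory CategoryTheory.Limits AlgebraicGeometry
attribute [local instance] HasDerivedCategory.standard

namespace Groth.Agent.KRR7.Nil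

open Groth.Agent
open scoped Groth.Agent.H23.PicMul

theorem eq_one_add_X_pow {R : Type v} [CommRing R] [IsDomain R] {f g : Polynomial R} {N n : ℕ}
    (h : f * g = (Polynomial.X + 1) ^ N) (h0 : f.coeff 0 = 1) (hd : f.natDegree ≤ n) (hn : f.coeff n ≠ 0) :
    f = (Polynomial.X + 1) ^ n := by
  have hp : Prime (Polynomial.X + 1 : Polynomial R) := by
    simpa using Polynomial.prime_X_sub_C (-1 : R)
  obtain ⟨i, -, hi⟩ := (dvd_prime_pow hp N).1 ⟨g, h.symm⟩
  obtain ⟨u, hu⟩ := hi.symm
  obtain ⟨c, -, hc⟩ := Polynomial.isUnit_iff.1 u.isUnit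
  rw [← hc] at hu
  have hc1 : c = 1 := by
    rw [← hu, Polynomial.coeff_mul_C, Polynomial.coeff_zero_eq_eval_zero] at h0
    simpa using h0
  rw [hc1, map_one, mul_one] at hu
  have hin : i = n := by
    have hdeg : f.natDegree = i := by rw [← hu, Polynomial.natDegree_pow, show (Polynomial.X + 1 : Polynomial R).natDegree = 1 from Polynomial.natDegree_X_add_C 1, mul_one]
    exact hdeg.symm.trans (le_antisymm hd (Polynomial.le_natDegree_of_ne_zero hn))
  rw [← hu, hin]

variable {K : Type v} [CommRing K] [LambdaRing.LambdaOps K] (P : LambdaRing.PosStructure K)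

theorem lamSeries_add (a b : K) :
    LambdaRing.lamSeries (a + b) = LambdaRing.lamSeries a * LambdaRing.lamSeries b := by
  ext k
  rw [PowerSeries.coeff_mul, Finset.Nat.sum_antidiagonal_eq_sum_range_succ
    (fun i j => PowerSeries.coeff i (LambdaRing.lamSeries a) * PowerSeries.coeff j (LambdaRing.lamSeries b))]
  simp only [LambdaRing.lamSeries, PowerSeries.coeff_mk, LambdaRing.LambdaOps.lam_add]

include P in
theorem lamSeries_natCast (N : ℕ) : LambdaRing.lamSeries (N : K) = (PowerSeries.X + 1) ^ N := by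
  induction N with
  | zero =>
    have hu : IsUnit (LambdaRing.lamSeries (0 : K)) := by
      rw [PowerSeries.isUnit_iff_constantCoeff, ← PowerSeries.coeff_zero_eq_constantCoeff_apply,
        LambdaRing.lamSeries, PowerSeries.coeff_mk, LambdaRing.LambdaOps.lam_zero]
      exact isUnit_one
    have h := lamSeries_add (0 : K) 0
    rw [add_zero] at h
    rw [Nat.cast_zero, pow_zero]
    exact (hu.mul_eq_left.1 h.symm)
  | succ N ih =>
    rw [Nat.cast_succ, lamSeries_add, ih, pow_succ]
    congr 1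
    ext k
    rw [LambdaRing.lamSeries, PowerSeries.coeff_mk, map_add, PowerSeries.coeff_X, PowerSeries.coeff_one]
    match k with
    | 0 => simp [LambdaRing.LambdaOps.lam_zero]
    | 1 => simp [LambdaRing.LambdaOps.lam_one]
    | k + 2 =>
      have h1 : (1 : K) ∈ P.pos := by simpa using P.natCast_mem 1 one_pos
      rw [if_neg (by omega), if_neg (by omega), add_zero]
      exact P.lam_eq_zero 1 h1 _ (by rw [map_one]; omega)

/-- In a domain, a positive element with a complement of finite degree in a multiple of one is its augmentation. -/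
theorem map_eq_aug {R : Type v} [CommRing R] [IsDomain R] (π : K →+* R) {e : K} (he : e ∈ P.pos) {x : K}
    {r N : ℕ} (hx : ∀ i, r < i → LambdaRing.LambdaOps.lam i x = 0) (h : e + x = N) : π e = P.aug e := by
  obtain ⟨n, hn⟩ : ∃ n : ℕ, P.aug e = n := ⟨(P.aug e).toNat, (Int.toNat_of_nonneg (P.aug_pos e he).le).symm⟩
  let poly : K → ℕ → Polynomial R := fun z d =>
    ∑ i ∈ Finset.range (d + 1), Polynomial.C (π (LambdaRing.LambdaOps.lam i z)) * Polynomial.X ^ i
  have hcoeff : ∀ (z : K) (d : ℕ), (∀ i, d < i → LambdaRing.LambdaOps.lam i z = 0) → ∀ k,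
      (poly z d).coeff k = π (LambdaRing.LambdaOps.lam k z) := fun z d hz k => by
    simp only [poly, Polynomial.finsetSum_coeff, Polynomial.coeff_C_mul_X_pow, Finset.sum_ite_eq, Finset.mem_range]
    split_ifs with hk
    · rfl
    · rw [hz k (by omega), map_zero]
  have hcoe : ∀ (z : K) (d : ℕ), (∀ i, d < i → LambdaRing.LambdaOps.lam i z = 0) →
      (poly z d : PowerSeries R) = PowerSeries.map π (LambdaRing.lamSeries z) := fun z d hz => by
    ext k
    rw [Polynomial.coeff_coe, hcoeff z d hz, PowerSeries.coeff_map, LambdaRing.lamSeries, PowerSeries.coeff_mk]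
  have hez : ∀ i, n < i → LambdaRing.LambdaOps.lam i e = 0 := fun i hi =>
    P.lam_eq_zero e he i (by rw [hn]; exact_mod_cast hi)
  have hprod : poly e n * poly x r = (Polynomial.X + 1) ^ N := by
    apply Polynomial.coe_inj.1
    rw [Polynomial.coe_mul, hcoe e n hez, hcoe x r hx, ← map_mul, ← lamSeries_add, h, lamSeries_natCast P,
      Polynomial.coe_pow, Polynomial.coe_add, Polynomial.coe_X, Polynomial.coe_one, map_pow, map_add, map_one,
      PowerSeries.map_X]
  have hne : (poly e n).coeff n ≠ 0 := by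
    rw [hcoeff e n hez]
    have := (P.isUnit_lam e he).map π
    rw [hn, Int.toNat_natCast] at this
    exact this.ne_zero
  have key := eq_one_add_X_pow hprod
    (by rw [hcoeff e n hez, LambdaRing.LambdaOps.lam_zero, map_one])
    (Polynomial.natDegree_le_iff_coeff_eq_zero.2 fun k hk => by rw [hcoeff e n hez, hez k hk, map_zero]) hne
  have h1 := congrArg (fun q : Polynomial R => q.coeff 1) key
  rw [hcoeff e n hez, LambdaRing.LambdaOps.lam_one] at h1
  rw [h1, hn, Int.cast_natCast, add_comm, Polynomial.coeff_one_add_X_pow, Nat.choose_one_right]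

variable {X : Scheme.{u}} {P} {φ : SGA6.Kvb X →+ K}

theorem cl_tensorPow' (hK : KRR.IsModel X K P φ) {L : X.Modules} (hL : PicF.IsInvertible L) :
    ∀ n : ℕ, φ (KRR.cl X (CohB1.tensorPow L n)) = φ (KRR.cl X L) ^ n
  | 0 => by rw [pow_zero]; exact hK.map_one
  | n + 1 => by
    rw [pow_succ, ← cl_tensorPow' hK hL n, hK.map_mul _ _
      (H23.PullPush.isFinLocFree_of_isInvertible (InvX.isInvertible_tensorPow hL n))
      (H23.PullPush.isFinLocFree_of_isInvertible hL)]
    rfl

variable [ConnectedSpace ↥X]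

theorem map_cl_eq_aug (hK : KRR.IsModel X K P φ) {R : Type v} [CommRing R] [IsDomain R] (π : K →+* R)
    {G : X.Modules} (hG : FlatMod.IsFinLocFree G) (he : φ (KRR.cl X G) ∈ P.pos) {k : ℕ}
    (p : FlatMod.freeMod X k ⟶ G) [Epi p] : π (φ (KRR.cl X G)) = P.aug (φ (KRR.cl X G)) := by
  have hk := KFlatLib.isFinLocFree_freeMod (X := X) k
  have hQ : FlatMod.IsFinLocFree (kernel p) := KFlatLib.isFinLocFree_kernel p hk hG
  obtain ⟨r, hr⟩ := exists_rank hQ
  have hS : (ShortComplex.mk (kernel.ι p) p (kernel.condition p)).ShortExact :=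
    { exact := ShortComplex.exact_kernel p }
  have hrel : KRR.cl X (FlatMod.freeMod X k) = KRR.cl X (kernel p) + KRR.cl X G :=
    KZ.clSub_ses (KRR.vbP X) hS hQ hk hG
  refine map_eq_aug P π he (x := φ (KRR.cl X (kernel p))) (r := r) (N := k) (fun i hi => ?_) ?_
  · obtain ⟨M, hM, hMf⟩ := ExtPow7.exists_isExtPow hQ i
    rw [hK.map_lam i _ M hQ hMf hM, show KRR.cl X M = 0 from
      KZ.clSub_isZero _ (ExtPow7.isZero_of_isExtPow_lt hr hi hM), map_zero]
  · rw [add_comm, ← map_add, ← hrel, cl_freeMod, map_nsmul, hK.map_one, nsmul_one]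

theorem map_eq_aug_of_ample (hK : KRR.IsModel X K P φ) {L : X.Modules} (hL : CohB1.IsAmple L)
    {R : Type v} [CommRing R] [IsDomain R] (π : K →+* R) (x : K) : π x = P.aug x := by
  have h1 := InvEnd.isFinLocFreeOfRank_one hL.1
  set ℓ := φ (KRR.cl X L) with hℓdef
  have hℓ : ℓ ∈ P.pos := (hK.mem_pos_iff _).2 ⟨1, L, le_rfl, h1, rfl⟩
  have haug : P.aug ℓ = 1 := by simpa using hK.aug_cl 1 L h1
  have key : ∀ (n : ℕ) (E : X.Modules), FlatMod.IsFinLocFreeOfRank n E → φ (KRR.cl X E) ∈ P.pos →
      ∃ m₀ : ℕ, ∀ m, m₀ ≤ m → π (φ (KRR.cl X E)) * π ℓ ^ m = n := fun n E hE he => by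
    have hE' := flf_of_rank hE
    obtain ⟨m₀, hm₀⟩ := exists_epi_freeMod_twist hL E ⟨QCoh.isQCoh_of_isFinLocFree hE',
      QCoh.isFT_of_isFP (QCoh.isFP_of_isFinLocFree hE')⟩
    refine ⟨m₀, fun m hm => ?_⟩
    obtain ⟨k, p, hp⟩ := hm₀ m hm
    have hLm := H23.PullPush.isFinLocFree_of_isInvertible (InvX.isInvertible_tensorPow hL.1 m)
    have hmul : φ (KRR.cl X E) * φ (KRR.cl X (CohB1.tensorPow L m)) =
        φ (KRR.cl X (CohB1.tensorMod E (CohB1.tensorPow L m))) := hK.map_mul E _ hE' hLm
    have hmem : φ (KRR.cl X (CohB1.tensorMod E (CohB1.tensorPow L m))) ∈ P.pos := by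
      rw [← hmul, cl_tensorPow' hK hL.1]
      exact P.mul_mem _ _ he (pow_mem_pos P hℓ m)
    have : π (φ (KRR.cl X (CohB1.tensorMod E (CohB1.tensorPow L m)))) =
        P.aug (φ (KRR.cl X (CohB1.tensorMod E (CohB1.tensorPow L m)))) :=
      map_cl_eq_aug hK π (KFlatLib.isFinLocFree_tensor hE' hLm) hmem p
    rw [← hmul, cl_tensorPow' hK hL.1, ← hℓdef, map_mul, map_pow, map_mul, map_pow, haug, one_pow, mul_one,
      hK.aug_cl n E hE] at this
    simpa using this
  obtain ⟨m₀, hm⟩ := key 1 L h1 hℓ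
  have hone : π ℓ = 1 := by
    have a := hm m₀ le_rfl
    have b := hm (m₀ + 1) (Nat.le_succ _)
    rw [← hℓdef, Nat.cast_one] at a b
    rw [pow_succ, ← mul_assoc, a, one_mul] at b
    exact b
  have hpos : ∀ e ∈ P.pos, π e = P.aug e := fun e he => by
    obtain ⟨n, E, -, hE, rfl⟩ := (hK.mem_pos_iff e).1 he
    obtain ⟨m₀, hm⟩ := key n E hE he
    have a := hm m₀ le_rfl
    rw [hone, one_pow, mul_one] at a
    rw [a, hK.aug_cl n E hE, Int.cast_natCast]
  obtain ⟨e, f, he, hf, rfl⟩ := P.exists_sub x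
  rw [map_sub, map_sub, hpos e he, hpos f hf, Int.cast_sub]

theorem isNilpotent_of_aug_eq_zero (hK : KRR.IsModel X K P φ) {L : X.Modules} (hL : CohB1.IsAmple L)
    {x : K} (hx : P.aug x = 0) : IsNilpotent x := by
  rw [← mem_nilradical, nilradical_eq_sInf, Submodule.mem_sInf]
  intro p hp
  haveI : Ideal.IsPrime (p : Ideal K) := hp
  rw [← Ideal.Quotient.eq_zero_iff_mem, map_eq_aug_of_ample hK hL, hx, Int.cast_zero]

end Groth.Agent.KRR7.Nil
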