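import Groth.Agent.KRR7.Gen
import Groth.Agent.CMReg7.Bundle
import Groth.Agent.CMReg7.UnitPr
import Groth.Agent.KFlatLib.Scheme.ProjLocFree
import Groth.Agent.KFlatLib.Scheme.RpushQCoh

/-!
# The projection formula and the class of `p_* O` for `p : P^n_Y ⟶ Y`
-/

set_option autoImplicit false
set_option linter.style.haveILetI false
set_option backward.isDefEq.respectTransparency false
universe u v
open CategoryTheory CategoryTheory.Limits AlgebraicGeometry
attribute [local instance] HasDerivedCategory.standard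

namespace Groth.Agent.KRR7

open Groth.Agent
open scoped Groth.Agent.H23.PicMul

variable {n : ℕ} {Y : Scheme.{u}}

theorem isZero_rpush_iff [HasInjectiveResolutions (KRR.PY n Y).Modules] (F : (KRR.PY n Y).Modules) (k : ℕ) :
    IsZero ((Coh.RpushAb (KRR.pr n Y) (k + 1)).obj (Coh.toAb F)) ↔
      IsZero ((Coh.Rpush (KRR.pr n Y) (k + 1)).obj F) := by
  obtain ⟨e⟩ := QCoh.nonempty_RpushAb_iso (KRR.pr n Y) F k
  obtain ⟨e'⟩ := QCoh.nonempty_Rpush_iso (KRR.pr n Y) F k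
  let i : (Coh.RpushAb (KRR.pr n Y) (k + 1)).obj (Coh.toAb F) ≅
      (QCoh.toAbFunctor Y).obj ((Coh.Rpush (KRR.pr n Y) (k + 1)).obj F) := e ≪≫ (QCoh.toAbFunctor Y).mapIso e'.symm
  refine ⟨fun h => ?_, fun h => ((QCoh.toAbFunctor Y).map_isZero h).of_iso i⟩
  have hz := h.of_iso i.symm
  rw [IsZero.iff_id_eq_zero] at hz ⊢
  haveI : (QCoh.toAbFunctor Y).Faithful := inferInstanceAs (SheafOfModules.toSheaf Y.ringCatSheaf).Faithful
  exact (QCoh.toAbFunctor Y).map_injective (by rw [CategoryTheory.Functor.map_id, hz, Functor.map_zero])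

theorem nonempty_tensor_congr {X : Scheme.{u}} {A B C D : X.Modules} (h : PicF.cl A * PicF.cl B = PicF.cl C * PicF.cl D) :
    Nonempty (CohB1.tensorMod A B ≅ CohB1.tensorMod C D) :=
  H23.PicMul.cl_eq_iff.1 (by rw [H23.PicMul.cl_tensor, H23.PicMul.cl_tensor]; exact h)

theorem isZero_tensorMod {X : Scheme.{u}} (E : X.Modules) {M : X.Modules} (h : IsZero M) :
    IsZero (CohB1.tensorMod E M) := by
  refine IsZero.of_iso ?_ (H23.PicMul.comm E M).some
  let T := (DCoh.tensorBi (X := X)).flip.obj E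
  haveI : T.Additive := inferInstance
  exact T.map_isZero h

theorem reg_tensor_pull {F : (KRR.PY n Y).Modules} (hreg : KRR.IsRegSheaf n Y F)
    {E : Y.Modules} (hE : FlatMod.IsFinLocFree E) :
    KRR.IsRegSheaf n Y (CohB1.tensorMod F ((Scheme.Modules.pullback (KRR.pr n Y)).obj E)) := by
  haveI : HasInjectiveResolutions (KRR.PY n Y).Modules := KFlatLib.hasInjectiveResolutions_modules
  intro i hi
  obtain ⟨k, rfl⟩ := Nat.exists_eq_add_of_le' hi
  refine (isZero_rpush_iff _ k).2 ?_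
  let F' := KRR.twF n Y (-((k + 1 : ℕ) : ℤ)) F
  have h' : IsZero ((Coh.Rpush (KRR.pr n Y) (k + 1)).obj F') := (isZero_rpush_iff _ k).1 (hreg (k + 1) hi)
  obtain ⟨e⟩ := KFlatLib.nonempty_rpush_tensor_finLocFree (KRR.pr n Y) F' E hE (k + 1)
  obtain ⟨a⟩ : Nonempty (CohB1.tensorMod ((Scheme.Modules.pullback (KRR.pr n Y)).obj E) F' ≅
      KRR.twF n Y (-((k + 1 : ℕ) : ℤ)) (CohB1.tensorMod F ((Scheme.Modules.pullback (KRR.pr n Y)).obj E))) :=
    nonempty_tensor_congr (by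
      show _ * PicF.cl (CohB1.tensorMod _ F) = _ * PicF.cl (CohB1.tensorMod F _)
      rw [H23.PicMul.cl_tensor, H23.PicMul.cl_tensor]
      ac_rfl)
  exact ((isZero_tensorMod E h').of_iso e.symm).of_iso ((Coh.Rpush (KRR.pr n Y) (k + 1)).mapIso a).symm

theorem nonempty_push_tensor_pull (F : (KRR.PY n Y).Modules) {E : Y.Modules} (hE : FlatMod.IsFinLocFree E) :
    Nonempty ((Scheme.Modules.pushforward (KRR.pr n Y)).obj
        (CohB1.tensorMod F ((Scheme.Modules.pullback (KRR.pr n Y)).obj E)) ≅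
      CohB1.tensorMod ((Scheme.Modules.pushforward (KRR.pr n Y)).obj F) E) := by
  haveI : HasInjectiveResolutions (KRR.PY n Y).Modules := KFlatLib.hasInjectiveResolutions_modules
  haveI := SpObjSS.enoughInjectives_of_hasInjectiveResolutions (C := (KRR.PY n Y).Modules)
  haveI := QCoh.preservesFiniteLimits_push (KRR.pr n Y)
  obtain ⟨e⟩ := KFlatLib.nonempty_rpush_tensor_finLocFree (KRR.pr n Y) F E hE 0
  let z := (Scheme.Modules.pushforward (KRR.pr n Y)).rightDerivedZeroIsoSelf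
  obtain ⟨a⟩ := H23.PicMul.comm F ((Scheme.Modules.pullback (KRR.pr n Y)).obj E)
  obtain ⟨b⟩ : Nonempty (CohB1.tensorMod E ((Coh.Rpush (KRR.pr n Y) 0).obj F) ≅
      CohB1.tensorMod ((Scheme.Modules.pushforward (KRR.pr n Y)).obj F) E) :=
    nonempty_tensor_congr (by rw [H23.PicMul.cl_eq_iff.2 ⟨z.app F⟩, mul_comm])
  exact ⟨(Scheme.Modules.pushforward (KRR.pr n Y)).mapIso a ≪≫ (z.app _).symm ≪≫ e.symm ≪≫ b⟩

theorem reg_structureModule : KRR.IsRegSheaf n Y (Coh.structureModule (KRR.PY n Y)) := by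
  intro i hi
  obtain ⟨k, rfl⟩ := Nat.exists_eq_add_of_le' hi
  obtain ⟨u⟩ := PicClLib.nonempty_pullback_structureModule (KRR.pr n Y)
  refine IsZero.of_iso ?_ ((Coh.RpushAb (KRR.pr n Y) (k + 1)).mapIso ((QCoh.toAbFunctor _).mapIso
    (((DCoh.tensorBi (X := KRR.PY n Y)).obj (Twist.twistOver n Y (-((k + 1 : ℕ) : ℤ)))).mapIso u))).symm
  by_cases hk : k + 1 ≤ n
  · exact CMReg7.isZero_RpushAb_twF_pullback n Y _ (by omega) _ QCoh.isQCoh_structureModule k
  · exact CMReg7.isZero_RpushAb_above n Y (KFlatLib.isQCoh_tensor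
      (ProjUPX.isQCoh_of_isInvertible (RegSheaf7.isInvertible_twistOver _))
      (QCoh.isQCoh_pullback _ QCoh.isQCoh_structureModule)) k (by omega)

theorem tensorBi_obj_obj {X : Scheme.{u}} (F G : X.Modules) :
    ((DCoh.tensorBi (X := X)).obj F).obj G = CohB1.tensorMod F G := rfl

theorem cl_push_tensor_pull [IsNoetherian Y] (F : (KRR.PY n Y).Modules) (hF : FlatMod.IsFinLocFree F)
    (hreg : KRR.IsRegSheaf n Y F) {E : Y.Modules} (hE : FlatMod.IsFinLocFree E) :
    KRR.cl Y ((Scheme.Modules.pushforward (KRR.pr n Y)).obj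
        (((DCoh.tensorBi (X := KRR.PY n Y)).obj F).obj ((Scheme.Modules.pullback (KRR.pr n Y)).obj E))) =
      KRR.cl Y (((DCoh.tensorBi (X := Y)).obj ((Scheme.Modules.pushforward (KRR.pr n Y)).obj F)).obj E) := by
  have hpF : FlatMod.IsFinLocFree ((Scheme.Modules.pushforward (KRR.pr n Y)).obj F) :=
    CMReg7.isFinLocFree_push_pr hF fun i hi => CMReg7.higher_zero F hreg i hi
  obtain ⟨e⟩ := nonempty_push_tensor_pull F hE
  have h2 : FlatMod.IsFinLocFree (CohB1.tensorMod ((Scheme.Modules.pushforward (KRR.pr n Y)).obj F) E) := by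
    rw [← tensorBi_obj_obj]
    exact KFlatLib.isFinLocFree_tensor hpF hE
  rw [tensorBi_obj_obj F, tensorBi_obj_obj ((Scheme.Modules.pushforward (KRR.pr n Y)).obj F) E]
  exact cl_iso e (flf_of_iso e.symm h2)

theorem projection_formula [IsNoetherian Y] {KP KY : Type v} [CommRing KP] [CommRing KY]
    (φP : SGA6.Kvb (KRR.PY n Y) →+ KP) (φY : SGA6.Kvb Y →+ KY)
    (hPbij : Function.Bijective φP) (hYbij : Function.Bijective φY)
    (hPmul : ∀ E F : (KRR.PY n Y).Modules, FlatMod.IsFinLocFree E → FlatMod.IsFinLocFree F →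
      φP (KRR.cl _ E) * φP (KRR.cl _ F) = φP (KRR.cl _ (((DCoh.tensorBi (X := KRR.PY n Y)).obj E).obj F)))
    (hYmul : ∀ E F : Y.Modules, FlatMod.IsFinLocFree E → FlatMod.IsFinLocFree F →
      φY (KRR.cl _ E) * φY (KRR.cl _ F) = φY (KRR.cl _ (((DCoh.tensorBi (X := Y)).obj E).obj F)))
    (g : KP →+ KY) (hg : KRR.IsPushPr n Y φP φY g) (q : KY →+ KP) (hq : KRR.IsPull (KRR.pr n Y) φY φP q)
    (x : KP) (y : KY) : g (x * q y) = g x * y := by
  obtain ⟨x₀, rfl⟩ := hPbij.2 x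
  obtain ⟨y₀, rfl⟩ := hYbij.2 y
  suffices h : ∀ E : Y.Modules, FlatMod.IsFinLocFree E → ∀ x₀, g (φP x₀ * q (φY (KRR.cl Y E))) = g (φP x₀) * φY (KRR.cl Y E) from
    DFunLike.congr_fun (KZ.K0sub_hom_ext (KRR.vbP Y)
      (f := g.comp ((AddMonoidHom.mulLeft (φP x₀)).comp (q.comp φY))) (g := (AddMonoidHom.mulLeft (g (φP x₀))).comp φY)
      fun E hE => h E hE x₀) y₀
  intro E hE x₀
  refine DFunLike.congr_fun (hom_ext_reg
    (f := g.comp ((AddMonoidHom.mulRight (q (φY (KRR.cl Y E)))).comp φP))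
    (g := (AddMonoidHom.mulRight (φY (KRR.cl Y E))).comp (g.comp φP)) fun F hF hreg => ?_) x₀
  show g (φP (KRR.cl _ F) * q (φY (KRR.cl Y E))) = g (φP (KRR.cl _ F)) * φY (KRR.cl Y E)
  have hpE := KFlatLib.isFinLocFree_pullback (KRR.pr n Y) hE
  have hpF : FlatMod.IsFinLocFree ((Scheme.Modules.pushforward (KRR.pr n Y)).obj F) :=
    CMReg7.isFinLocFree_push_pr hF fun i hi => CMReg7.higher_zero F hreg i hi
  have h1 : FlatMod.IsFinLocFree (((DCoh.tensorBi (X := KRR.PY n Y)).obj F).obj ((Scheme.Modules.pullback (KRR.pr n Y)).obj E)) :=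
    KFlatLib.isFinLocFree_tensor hF hpE
  have h2 : KRR.IsRegSheaf n Y (((DCoh.tensorBi (X := KRR.PY n Y)).obj F).obj ((Scheme.Modules.pullback (KRR.pr n Y)).obj E)) :=
    reg_tensor_pull hreg hE
  rw [hq E hE, hPmul F _ hF hpE, hg _ h1 h2, hg F hF hreg, hYmul _ E hpF hE, cl_push_tensor_pull F hF hreg hE]

end Groth.Agent.KRR7
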