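import Groth.Agent.KZ.LFRes

/-!
# Classes of resolvable coherent modules and push-forward along closed immersions
-/

set_option autoImplicit false
set_option linter.style.haveILetI false
set_option backward.isDefEq.respectTransparency false
universe u v
open CategoryTheory CategoryTheory.Limits AlgebraicGeometry
attribute [local instance] HasDerivedCategory.standard

namespace Groth.Agent.KRR7

open Groth.Agent Groth.Agent.KZ.LFRes

variable {X : Scheme.{u}}

/-- `a` is the push-forward along `f` on classes of bundles, computed through resolutions (`KRR.IsPushCl`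
without the ring structures). -/
def PushClHom {X Y : Scheme.{u}} (f : X ⟶ Y) {KX KY : Type v} [AddCommGroup KX] [AddCommGroup KY]
    (φX : SGA6.Kvb X →+ KX) (φY : SGA6.Kvb Y →+ KY) (a : KX →+ KY) : Prop :=
  ∀ F : X.Modules, FlatMod.IsFinLocFree F → ∀ (n : ℕ) (L : ChainComplex Y.Modules ℕ)
    (π : L ⟶ (ChainComplex.single₀ Y.Modules).obj ((Scheme.Modules.pushforward f).obj F)),
    KRR.IsLFRes ((Scheme.Modules.pushforward f).obj F) n L π →
      a (φX (KRR.cl X F)) = ∑ k ∈ Finset.range (n + 1), (-1 : ℤ) ^ k • φY (KRR.cl Y (L.X k))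

/-- `g` is the push-forward along `P^n_Y ⟶ Y` on regular bundles (`KRR.IsPushPr` without the ring structures). -/
def PushPrHom (n : ℕ) (Y : Scheme.{u}) {KP KY : Type v} [AddCommGroup KP] [AddCommGroup KY]
    (φP : SGA6.Kvb (KRR.PY n Y) →+ KP) (φY : SGA6.Kvb Y →+ KY) (g : KP →+ KY) : Prop :=
  ∀ F : (KRR.PY n Y).Modules, FlatMod.IsFinLocFree F → KRR.IsRegSheaf n Y F →
    g (φP (KRR.cl (KRR.PY n Y) F)) = φY (KRR.cl Y ((Scheme.Modules.pushforward (KRR.pr n Y)).obj F))

theorem res_opcycles_ses {F : X.Modules} {n : ℕ} {L : ChainComplex X.Modules ℕ}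
    {π : L ⟶ (ChainComplex.single₀ X.Modules).obj F} (h : KRR.IsLFRes F n L π) (k : ℕ) :
    ∃ (S : ShortComplex X.Modules), S.ShortExact ∧ S.X₁ = L.opcycles (k + 1) ∧ S.X₂ = L.X k ∧ S.X₃ = L.opcycles k := by
  haveI := h.quasiIso
  have hex : L.ExactAt (k + 1) := by
    rw [← quasiIsoAt_iff_exactAt' π (k + 1) (HomologicalComplex.exactAt_single_obj _ _ _ _ (by simp))]
    infer_instance
  haveI : Mono (L.fromOpcycles (k + 1) k) := by
    have h := (L.exactAt_iff' (k + 2) (k + 1) k (by simp) (by simp)).1 hex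
    have := h.mono_fromOpcycles
    have e : L.fromOpcycles (k + 1) k = (L.opcyclesIsoSc' (k + 2) (k + 1) k (by simp) (by simp)).hom ≫
        (L.sc' (k + 2) (k + 1) k).fromOpcycles := by
      rw [← cancel_epi (L.pOpcycles (k + 1))]
      rw [L.p_fromOpcycles, HomologicalComplex.pOpcycles_opcyclesIsoSc'_hom_assoc, ShortComplex.p_fromOpcycles]
      rfl
    rw [e]
    infer_instance
  let S := ShortComplex.mk (L.fromOpcycles (k + 1) k) (L.pOpcycles k)
    (by rw [← cancel_epi (L.pOpcycles (k + 1))]; simp)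
  refine ⟨S, .mk' ?_ inferInstance inferInstance, rfl, rfl, rfl⟩
  refine ShortComplex.exact_of_g_is_cokernel _ (CokernelCofork.IsColimit.ofπ _ _
    (fun g hg => L.descOpcycles g (k + 1) (by simp) (by
      rw [← L.p_fromOpcycles, Category.assoc]
      exact (congrArg _ hg).trans comp_zero))
    (fun g hg => L.p_descOpcycles _ _ _ _) (fun g hg b hb => ?_))
  rw [← cancel_epi (L.pOpcycles k), L.p_descOpcycles]
  exact hb

theorem res_opcycles_zero {F : X.Modules} {n : ℕ} {L : ChainComplex X.Modules ℕ}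
    {π : L ⟶ (ChainComplex.single₀ X.Modules).obj F} (h : KRR.IsLFRes F n L π) :
    Nonempty (L.opcycles 0 ≅ F) := by
  haveI := h.quasiIso
  exact ⟨(L.isoHomologyι₀).symm ≪≫ asIso (HomologicalComplex.homologyMap π 0) ≪≫
    HomologicalComplex.singleObjHomologySelfIso (ComplexShape.down ℕ) 0 F⟩

/-- the alternating sum of a resolution is the class of the module -/
theorem sum_res_eq [IsNoetherian X] (hX : KRR.HasEnoughLocFree X) {F : X.Modules} (hF : Coh.IsCoh F) {n : ℕ}
    {L : ChainComplex X.Modules ℕ} {π : L ⟶ (ChainComplex.single₀ X.Modules).obj F} (h : KRR.IsLFRes F n L π) :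
    ∑ k ∈ Finset.range (n + 1), (-1 : ℤ) ^ k • KZero.clSub (P₁ X) (L.X k) = KZero.clSub (P₁ X) F := by
  have hS₀ := resSetup hX
  haveI := hS₀.iso₁
  obtain ⟨e⟩ := res_opcycles_zero h
  have hP : ∀ k, P₁ X (L.opcycles k) := by
    intro k
    induction k with
    | zero => exact (P₁ X).prop_of_iso e.symm ⟨hF, ⟨n, L, π, h⟩⟩
    | succ k ih =>
      obtain ⟨S, hS, e₁, e₂, e₃⟩ := res_opcycles_ses h k
      rw [← e₁]
      exact hS₀.ker₁ S hS (by rw [e₂]; exact hS₀.le _ (h.finLocFree k)) (by rw [e₃]; exact ih)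
  have hrel : ∀ k, KZero.clSub (P₁ X) (L.X k) =
      KZero.clSub (P₁ X) (L.opcycles (k + 1)) + KZero.clSub (P₁ X) (L.opcycles k) := fun k => by
    obtain ⟨S, hS, e₁, e₂, e₃⟩ := res_opcycles_ses h k
    rw [← e₁, ← e₂, ← e₃]
    exact KZ.clSub_ses (P₁ X) hS (by rw [e₁]; exact hP _) (by rw [e₂]; exact hS₀.le _ (h.finLocFree k))
      (by rw [e₃]; exact hP _)
  have key : ∀ M : ℕ, ∑ k ∈ Finset.range (M + 1), (-1 : ℤ) ^ k • KZero.clSub (P₁ X) (L.X k) =
      KZero.clSub (P₁ X) (L.opcycles 0) + (-1 : ℤ) ^ M • KZero.clSub (P₁ X) (L.opcycles (M + 1)) := by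
    intro M
    induction M with
    | zero => rw [Finset.sum_range_one, pow_zero, one_smul, one_smul, hrel 0, add_comm]
    | succ M ih =>
      rw [Finset.sum_range_succ, ih, hrel (M + 1), smul_add, pow_succ]
      simp only [mul_neg, mul_one, neg_smul]
      abel
  have hz : IsZero (L.opcycles (n + 1)) := IsZero.of_epi (L.pOpcycles (n + 1)) (h.isZero _ (by omega))
  rw [key, KZ.clSub_isZero (P₁ X) hz, smul_zero, add_zero]
  exact KZ.clSub_iso (P₁ X) e (hP 0) ⟨hF, ⟨n, L, π, h⟩⟩ (isZero_zero _)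
    (hS₀.le _ (pdlt_one_iff.1 ((pdlt_of_isZero (isZero_zero _)).mono (Nat.zero_le _))))

/-- the class map of resolvable modules -/
theorem exists_classOf [IsNoetherian X] (hX : KRR.HasEnoughLocFree X) :
    ∃ c : X.Modules → SGA6.Kvb X,
      (∀ (F : X.Modules), Coh.IsCoh F → ∀ (n : ℕ) (L : ChainComplex X.Modules ℕ)
        (π : L ⟶ (ChainComplex.single₀ X.Modules).obj F), KRR.IsLFRes F n L π →
        c F = ∑ k ∈ Finset.range (n + 1), (-1 : ℤ) ^ k • KRR.cl X (L.X k)) ∧
      (∀ M, FlatMod.IsFinLocFree M → c M = KRR.cl X M) ∧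
      (∀ S : ShortComplex X.Modules, S.ShortExact → P₁ X S.X₁ → P₁ X S.X₂ → P₁ X S.X₃ →
        c S.X₂ = c S.X₁ + c S.X₃) := by
  have hle : ∀ M : X.Modules, FlatMod.IsFinLocFree M → P₁ X M := (resSetup hX).le
  obtain ⟨ι, hι⟩ := KZ.exists_liftSub (fun M : X.Modules => FlatMod.IsFinLocFree M)
    (fun M => KZero.clSub (P₁ X) M) (fun S hS h₁ h₂ h₃ => KZ.clSub_ses (P₁ X) hS (hle _ h₁) (hle _ h₂) (hle _ h₃))
  let e := AddEquiv.ofBijective ι (bijective_resolvable hX ι hι)
  refine ⟨fun F => e.symm (KZero.clSub (P₁ X) F), fun F hF n L π h => ?_, fun M hM => ?_, fun S hS h₁ h₂ h₃ => ?_⟩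
  · rw [AddEquiv.symm_apply_eq]
    refine (sum_res_eq hX hF h).symm.trans ?_
    rw [map_sum]
    refine Finset.sum_congr rfl fun k _ => ?_
    rw [map_zsmul]
    exact congrArg _ (hι _ (h.finLocFree k)).symm
  · rw [AddEquiv.symm_apply_eq]
    exact (hι M hM).symm
  · simp only [← map_add, KZ.clSub_ses (P₁ X) hS h₁ h₂ h₃]

end Groth.Agent.KRR7
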