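import Groth.Agent.KZ.LFRes
import Groth.Agent.H23.SpClosed
import Groth.Agent.QCoh.Support
import Groth.Prelude.Def_Mor2
import Mathlib.RingTheory.Regular.ProjectiveDimension
import Mathlib.RingTheory.Regular.Flat

/-!
# Finite resolutions of direct images along regular closed immersions
-/

set_option autoImplicit false
set_option linter.style.haveILetI false
set_option backward.isDefEq.respectTransparency false
universe u
open CategoryTheory CategoryTheory.Limits AlgebraicGeometry TopologicalSpace IsLocalRing RingTheory.Sequence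

namespace Groth.Agent.KRR7

open Groth.Agent Groth.Agent.KZ.LFRes

variable {X Y : Scheme.{u}} (i : X ⟶ Y) [IsClosedImmersion i]

theorem ker_stalkMap_eq {U : Y.Opens} (hU : IsAffineOpen U) (z : X) (hz : i z ∈ U) :
    RingHom.ker (i.stalkMap z).hom = (i.ker.ideal ⟨U, hU⟩).map (Y.presheaf.germ U (i z) hz).hom := by
  let _ := Y.presheaf.algebra_section_stalk (⟨i z, hz⟩ : U)
  let p := (hU.primeIdealOf ⟨i z, hz⟩).asIdeal
  have : IsLocalization.AtPrime (Y.presheaf.stalk (i z)) p := hU.isLocalization_stalk ⟨i z, hz⟩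
  have key : ∀ b : Γ(Y, U), i.stalkMap z (Y.presheaf.germ U _ hz b) =
      X.presheaf.germ (i ⁻¹ᵁ U) z hz (i.app U b) := fun b =>
    Scheme.Hom.germ_stalkMap_apply i U z hz b
  have hker : ∀ b, b ∈ i.ker.ideal ⟨U, hU⟩ ↔ i.app U b = 0 := fun b => by
    rw [Scheme.Hom.ker_apply]; rfl
  refine le_antisymm (fun s hs => ?_) (Ideal.map_le_iff_le_comap.2 fun b hb => ?_)
  · obtain ⟨⟨b, c⟩, hbc⟩ := IsLocalization.surj p.primeCompl s
    have hb : X.presheaf.germ (i ⁻¹ᵁ U) z hz (i.app U b) = 0 := by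
      rw [← key]
      show (i.stalkMap z).hom (algebraMap Γ(Y, U) _ b) = 0
      rw [← hbc, map_mul, RingHom.mem_ker.1 hs, zero_mul]
    have hV : IsAffineOpen (i ⁻¹ᵁ U) := hU.preimage _
    let q := (hV.primeIdealOf ⟨z, hz⟩).asIdeal
    let _ := X.presheaf.algebra_section_stalk (⟨z, hz⟩ : (i ⁻¹ᵁ U : X.Opens))
    have : IsLocalization.AtPrime (X.presheaf.stalk z) q := hV.isLocalization_stalk ⟨z, hz⟩
    obtain ⟨⟨c', hc'⟩, h0⟩ := (IsLocalization.map_eq_zero_iff q.primeCompl (X.presheaf.stalk z) (i.app U b)).1 hb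
    obtain ⟨e, rfl⟩ := i.app_surjective U hU c'
    have he : IsUnit (algebraMap Γ(Y, U) (Y.presheaf.stalk (i z)) e) := by
      refine isUnit_of_map_unit (i.stalkMap z).hom _ ?_
      show IsUnit (i.stalkMap z (Y.presheaf.germ U _ hz e))
      rw [key]
      exact IsLocalization.map_units (X.presheaf.stalk z) (⟨_, hc'⟩ : q.primeCompl)
    have hmem : e * b ∈ i.ker.ideal ⟨U, hU⟩ := (hker _).2 (by rw [map_mul]; exact h0)
    have hcu := IsLocalization.map_units (Y.presheaf.stalk (i z)) c
    have h := Ideal.mem_map_of_mem (Y.presheaf.germ U (i z) hz).hom hmem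
    rw [map_mul] at h
    have h' : (Y.presheaf.germ U (i z) hz).hom b ∈
        (i.ker.ideal ⟨U, hU⟩).map (Y.presheaf.germ U (i z) hz).hom := (Ideal.unit_mul_mem_iff_mem _ he).1 h
    rw [show (Y.presheaf.germ U (i z) hz).hom b = s * algebraMap _ _ (c : Γ(Y, U)) from hbc.symm] at h'
    exact (Ideal.mul_unit_mem_iff_mem _ hcu).1 h'
  · show i.stalkMap z (Y.presheaf.germ U _ hz b) = 0
    rw [key, (hker b).1 hb, map_zero]

theorem hasPd_pi {R : Type u} [CommRing R] (Q : Type u) [AddCommGroup Q] [Module R Q] (m : ℕ)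
    (hQ : HasProjectiveDimensionLT (ModuleCat.of R Q) (m + 1)) :
    ∀ r : ℕ, HasProjectiveDimensionLT (ModuleCat.of R (Fin r → Q)) (m + 1)
  | 0 => by
    haveI : Subsingleton (ModuleCat.of R (Fin 0 → Q)) := inferInstanceAs (Subsingleton (Fin 0 → Q))
    haveI := (ModuleCat.isZero_of_subsingleton (ModuleCat.of R (Fin 0 → Q))).hasProjectiveDimensionLT_zero
    exact hasProjectiveDimensionLT_of_ge _ 0 _ (Nat.zero_le _)
  | r + 1 => by
    haveI := hasPd_pi Q m hQ r
    let S := ShortComplex.mk (ModuleCat.ofHom (LinearMap.inl R Q (Fin r → Q)))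
      (ModuleCat.ofHom (LinearMap.snd R Q (Fin r → Q))) (by ext1; exact LinearMap.ext fun x => rfl)
    haveI : Mono S.f := (ModuleCat.mono_iff_injective _).2 LinearMap.inl_injective
    haveI : Epi S.g := (ModuleCat.epi_iff_surjective _).2 LinearMap.snd_surjective
    have hS : S.ShortExact := .mk' ((ShortComplex.moduleCat_exact_iff S).2 fun x hx =>
      ⟨x.1, Prod.ext rfl hx.symm⟩) inferInstance inferInstance
    haveI := hS.hasProjectiveDimensionLT_X₂ (m + 1) hQ ‹_›
    exact hasProjectiveDimensionLT_of_iso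
      ((Fin.consLinearEquiv R (fun _ : Fin (r + 1) => Q)).toModuleIso :
        ModuleCat.of R (Q × (Fin r → Q)) ≅ ModuleCat.of R (Fin (r + 1) → Q)) (m + 1)

theorem pd_stalk_push [IsLocallyNoetherian Y] [IsLocallyNoetherian X] {F : X.Modules} (hF : FlatMod.IsFinLocFree F)
    {U : Y.Opens} (hU : IsAffineOpen U) (rs : List Γ(Y, U)) (hrs : IsWeaklyRegular Γ(Y, U) rs)
    (hI : i.ker.ideal ⟨U, hU⟩ = Ideal.ofList rs) (y : Y) (hy : y ∈ U) :
    HasProjectiveDimensionLT (stk ((Scheme.Modules.pushforward i).obj F) y) (rs.length + 1) := by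
  by_cases hr : y ∈ Set.range i
  swap
  · haveI : Subsingleton (stk ((Scheme.Modules.pushforward i).obj F) y) :=
      H23.ClosedPushLen.subsingleton_stalk i F hr
    haveI := (ModuleCat.isZero_of_subsingleton (stk ((Scheme.Modules.pushforward i).obj F) y)).hasProjectiveDimensionLT_zero
    exact hasProjectiveDimensionLT_of_ge _ 0 _ (Nat.zero_le _)
  obtain ⟨z, rfl⟩ := hr
  let R := Y.presheaf.stalk (i z)
  let S := X.presheaf.stalk z
  letI : Algebra R S := (i.stalkMap z).hom.toAlgebra
  haveI : IsNoetherianRing R := inferInstance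
  let _ := Y.presheaf.algebra_section_stalk (⟨i z, hy⟩ : U)
  haveI : IsLocalization.AtPrime R (hU.primeIdealOf ⟨i z, hy⟩).asIdeal := hU.isLocalization_stalk ⟨i z, hy⟩
  have hw : IsWeaklyRegular R (rs.map (algebraMap Γ(Y, U) R)) :=
    IsWeaklyRegular.of_isLocalization R (hU.primeIdealOf ⟨i z, hy⟩).asIdeal.primeCompl hrs
  have hk : RingHom.ker (algebraMap R S) = Ideal.ofList (rs.map (algebraMap Γ(Y, U) R)) := by
    show RingHom.ker (i.stalkMap z).hom = _
    rw [ker_stalkMap_eq i hU z hy, hI, Ideal.map_ofList]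
    rfl
  have hmem : ∀ r ∈ rs.map (algebraMap Γ(Y, U) R), r ∈ maximalIdeal R := fun r hr =>
    IsLocalRing.le_maximalIdeal (RingHom.ker_ne_top (algebraMap R S)) (hk ▸ Ideal.subset_span hr)
  have h1 : HasProjectiveDimensionLT (ModuleCat.of R (R ⧸ RingHom.ker (algebraMap R S))) (rs.length + 1) := by
    rw [hk]
    have h := ModuleCat.projectiveDimension_quotient_eq_add_length_of_isWeaklyRegular (ModuleCat.of R R) _ hw hmem
    haveI : Projective (ModuleCat.of R R) := (IsProjective.iff_projective (R := R) R).1 inferInstance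
    rw [ModuleCat.projectiveDimension_eq_zero_of_projective (ModuleCat.of R R), zero_add, List.length_map] at h
    haveI := (projectiveDimension_le_iff _ rs.length).1 h.le
    exact hasProjectiveDimensionLT_of_iso
      (Submodule.quotEquivOfEq (Ideal.ofList (rs.map (algebraMap Γ(Y, U) R)) • (⊤ : Submodule R R))
        (Ideal.ofList (rs.map (algebraMap Γ(Y, U) R))) (Ideal.mul_top _)).toModuleIso (rs.length + 1)
  haveI := QCoh.free_stalk_of_isFinLocFree hF z
  haveI : Module.Finite S (F.presheaf.stalk z) :=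
    QCoh.finite_stalk_of_isFT (flf_isCoh hF).1 (flf_isCoh hF).2 z
  let b := Module.finBasis S (F.presheaf.stalk z)
  letI : Module R (F.presheaf.stalk z) := Module.compHom _ (i.stalkMap z).hom
  haveI : IsScalarTower R S (F.presheaf.stalk z) := IsScalarTower.of_algebraMap_smul fun _ _ => rfl
  obtain ⟨e⟩ := H23.SpClosed.nonempty_stalkEquiv i F z
  let q : (R ⧸ RingHom.ker (algebraMap R S)) ≃ₗ[R] S :=
    (Submodule.quotEquivOfEq _ (LinearMap.ker (Algebra.linearMap R S)) (Submodule.ext fun _ => Iff.rfl)).trans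
      ((Algebra.linearMap R S).quotKerEquivOfSurjective (i.stalkMap_surjective z))
  haveI := hasPd_pi (R ⧸ RingHom.ker (algebraMap R S)) rs.length h1 (Module.finrank S (F.presheaf.stalk z))
  exact hasProjectiveDimensionLT_of_iso
    ((LinearEquiv.piCongrRight fun _ => q).trans ((b.equivFun.restrictScalars R).symm.trans e.symm)).toModuleIso _

theorem exists_pdlt_push [IsNoetherian X] [IsNoetherian Y] (hi : Mor2.IsRegularClosedImmersion i) {F : X.Modules}
    (hF : FlatMod.IsFinLocFree F) : ∃ n, PDLT (n + 1) ((Scheme.Modules.pushforward i).obj F) := by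
  choose U hU hz rs hrs hI using hi.2
  obtain ⟨t, ht⟩ := isCompact_univ.elim_finite_subcover (fun z : X => ((i ⁻¹ᵁ U z : X.Opens) : Set X))
    (fun z => (i ⁻¹ᵁ U z).2) (fun z _ => Set.mem_iUnion.2 ⟨z, hz z⟩)
  refine ⟨t.sup fun z => (rs z).length, QCoh.isCoh_pushforward_finite i (flf_isCoh hF), fun y => ?_⟩
  by_cases hr : y ∈ Set.range i
  · obtain ⟨x, rfl⟩ := hr
    obtain ⟨z, hzt, hxz⟩ := Set.mem_iUnion₂.1 (ht (Set.mem_univ x))
    haveI := pd_stalk_push i hF (hU z) (rs z) (hrs z).toIsWeaklyRegular (hI z) (i x) hxz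
    exact hasProjectiveDimensionLT_of_ge _ _ _
      (Nat.succ_le_succ (Finset.le_sup (f := fun z => (rs z).length) hzt))
  · haveI : Subsingleton (stk ((Scheme.Modules.pushforward i).obj F) y) :=
      H23.ClosedPushLen.subsingleton_stalk i F hr
    haveI := (ModuleCat.isZero_of_subsingleton (stk ((Scheme.Modules.pushforward i).obj F) y)).hasProjectiveDimensionLT_zero
    exact hasProjectiveDimensionLT_of_ge _ 0 _ (Nat.zero_le _)

theorem p₁_push [IsNoetherian X] [IsNoetherian Y] (hYe : KRR.HasEnoughLocFree Y)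
    (hi : Mor2.IsRegularClosedImmersion i) {F : X.Modules} (hF : FlatMod.IsFinLocFree F) :
    P₁ Y ((Scheme.Modules.pushforward i).obj F) :=
  let ⟨n, hn⟩ := exists_pdlt_push i hi hF
  ⟨hn.1, hasLFRes hYe n _ hn⟩

end Groth.Agent.KRR7
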