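import Groth.Agent.KRR7.PushCl
import Groth.Agent.KRR7.RegPd
import Groth.Agent.S1661

/-!
# Functoriality of the push-forward along regular closed immersions
-/

set_option autoImplicit false
set_option linter.style.haveILetI false
set_option backward.isDefEq.respectTransparency false
universe u v
open CategoryTheory CategoryTheory.Limits AlgebraicGeometry
attribute [local instance] HasDerivedCategory.standard

namespace Groth.Agent.KRR7

open Groth.Agent Groth.Agent.KZ.LFRes
open scoped ZeroObject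

variable {X Y Z : Scheme.{u}}

/-- the class of the image of a module under an exact functor, from a resolution -/
theorem sum_res_map [IsNoetherian Z] (hZe : KRR.HasEnoughLocFree Z) (G : Y.Modules ⥤ Z.Modules)
    [G.PreservesZeroMorphisms] [PreservesFiniteLimits G] [PreservesFiniteColimits G]
    (hG : ∀ M, FlatMod.IsFinLocFree M → P₁ Z (G.obj M)) {M : Y.Modules} (hM : P₁ Z (G.obj M)) {n : ℕ}
    {L : ChainComplex Y.Modules ℕ} {π : L ⟶ (ChainComplex.single₀ Y.Modules).obj M} (h : KRR.IsLFRes M n L π)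
    {A : Type v} [AddCommGroup A] (c : Z.Modules → A)
    (hc : ∀ S : ShortComplex Z.Modules, S.ShortExact → P₁ Z S.X₁ → P₁ Z S.X₂ → P₁ Z S.X₃ → c S.X₂ = c S.X₁ + c S.X₃) :
    ∑ k ∈ Finset.range (n + 1), (-1 : ℤ) ^ k • c (G.obj (L.X k)) = c (G.obj M) := by
  have hS₀ := resSetup hZe
  haveI := hS₀.iso₁
  obtain ⟨e⟩ := res_opcycles_zero h
  have hzero : P₁ Z 0 := hS₀.le _ (pdlt_one_iff.1 ((pdlt_of_isZero (isZero_zero _)).mono (Nat.zero_le _)))
  have hciso : ∀ {A B : Z.Modules}, (A ≅ B) → P₁ Z A → c A = c B := fun {A B} i hA => by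
    have hB : P₁ Z B := (P₁ Z).prop_of_iso i hA
    have h0 : c 0 = 0 := by
      have := hc _ (KZ.shortExact_iso_zero (Iso.refl (0 : Z.Modules)) (isZero_zero _)) hzero hzero hzero
      simpa using this
    have := hc _ (KZ.shortExact_iso_zero i (isZero_zero _)) hzero hA hB
    simpa [h0] using this
  have hP : ∀ k, P₁ Z (G.obj (L.opcycles k)) := by
    intro k
    induction k with
    | zero => exact (P₁ Z).prop_of_iso (G.mapIso e.symm) hM
    | succ k ih =>
      obtain ⟨S, hS, e₁, e₂, e₃⟩ := res_opcycles_ses h k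
      have hS' := hS.map_of_exact G
      have := hS₀.ker₁ (S.map G) hS' (by show P₁ Z (G.obj S.X₂); rw [e₂]; exact hG _ (h.finLocFree k))
        (by show P₁ Z (G.obj S.X₃); rw [e₃]; exact ih)
      rw [← e₁]
      exact this
  have hrel : ∀ k, c (G.obj (L.X k)) = c (G.obj (L.opcycles (k + 1))) + c (G.obj (L.opcycles k)) := fun k => by
    obtain ⟨S, hS, e₁, e₂, e₃⟩ := res_opcycles_ses h k
    rw [← e₁, ← e₂, ← e₃]
    exact hc _ (hS.map_of_exact G) (by show P₁ Z (G.obj S.X₁); rw [e₁]; exact hP _)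
      (by show P₁ Z (G.obj S.X₂); rw [e₂]; exact hG _ (h.finLocFree k))
      (by show P₁ Z (G.obj S.X₃); rw [e₃]; exact hP _)
  have key : ∀ M : ℕ, ∑ k ∈ Finset.range (M + 1), (-1 : ℤ) ^ k • c (G.obj (L.X k)) =
      c (G.obj (L.opcycles 0)) + (-1 : ℤ) ^ M • c (G.obj (L.opcycles (M + 1))) := by
    intro M
    induction M with
    | zero => rw [Finset.sum_range_one, pow_zero, one_smul, one_smul, hrel 0, add_comm]
    | succ M ih =>
      rw [Finset.sum_range_succ, ih, hrel (M + 1), smul_add, pow_succ]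
      simp only [mul_neg, mul_one, neg_smul]
      abel
  have hz : IsZero (G.obj (L.opcycles (n + 1))) :=
    G.map_isZero (IsZero.of_epi (L.pOpcycles (n + 1)) (h.isZero _ (by omega)))
  have h0 : c 0 = 0 := by
    have := hc _ (KZ.shortExact_iso_zero (Iso.refl (0 : Z.Modules)) (isZero_zero _)) hzero hzero hzero
    simpa using this
  rw [key, hciso (hz.iso (isZero_zero _)) (hP _), h0, smul_zero, add_zero]
  exact hciso (G.mapIso e) (hP 0)

theorem pushCl_comp [IsNoetherian X] [IsNoetherian Y] [IsNoetherian Z]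
    (hYe : KRR.HasEnoughLocFree Y) (hZe : KRR.HasEnoughLocFree Z) (f : X ⟶ Y) (g : Y ⟶ Z)
    (hf : Mor2.IsRegularClosedImmersion f) (hg : Mor2.IsRegularClosedImmersion g)
    {KX KY KW : Type v} [AddCommGroup KX] [AddCommGroup KY] [AddCommGroup KW]
    (φX : SGA6.Kvb X →+ KX) (φY : SGA6.Kvb Y →+ KY) (φZ : SGA6.Kvb Z →+ KW) (hXbij : Function.Bijective φX)
    (a : KX →+ KY) (ha : PushClHom f φX φY a) (b : KY →+ KW) (hb : PushClHom g φY φZ b)
    (c : KX →+ KW) (hc : PushClHom (f ≫ g) φX φZ c) : c = b.comp a := by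
  haveI : IsClosedImmersion f := hf.1
  haveI : IsClosedImmersion g := hg.1
  haveI : PreservesFiniteColimits (Scheme.Modules.pushforward g) :=
    ⟨fun J _ _ => KFlatLib.preservesColimitsOfShape_push g J⟩
  haveI : PreservesFiniteLimits (Scheme.Modules.pushforward g) := by
    haveI : PreservesLimitsOfSize.{0, 0} (Scheme.Modules.pushforward g) :=
      (Scheme.Modules.pullbackPushforwardAdjunction g).rightAdjoint_preservesLimits
    infer_instance
  have hfg : Mor2.IsRegularClosedImmersion (f ≫ g) := S1661.result f g hf hg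
  obtain ⟨cl, hcl, -, hadd⟩ := exists_classOf hZe
  ext x
  obtain ⟨x₀, rfl⟩ := hXbij.2 x
  refine DFunLike.congr_fun (KZ.K0sub_hom_ext (KRR.vbP X) (f := c.comp φX) (g := (b.comp a).comp φX)
    fun F hF => ?_) x₀
  show c (φX (KRR.cl X F)) = b (a (φX (KRR.cl X F)))
  have hFY := p₁_push f hYe hf hF
  obtain ⟨n, L, π, hL⟩ := hFY.2
  have hFZ := p₁_push (f ≫ g) hZe hfg hF
  obtain ⟨m, M, ρ, hM⟩ := hFZ.2
  let i := (Scheme.Modules.pushforwardComp f g).app F
  haveI := (resSetup hZe).iso₁
  have hGM : P₁ Z ((Scheme.Modules.pushforward g).obj ((Scheme.Modules.pushforward f).obj F)) :=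
    (P₁ Z).prop_of_iso i.symm hFZ
  have hsum := sum_res_map hZe (Scheme.Modules.pushforward g) (fun N hN => p₁_push g hZe hg hN) hGM hL
    (fun N => φZ (cl N)) (fun S hS h₁ h₂ h₃ => by simp only [hadd S hS h₁ h₂ h₃, map_add])
  have hM' : KRR.IsLFRes ((Scheme.Modules.pushforward g).obj ((Scheme.Modules.pushforward f).obj F)) m M
      (ρ ≫ (ChainComplex.single₀ Z.Modules).map i.inv) :=
    { finLocFree := hM.finLocFree
      isZero := hM.isZero
      quasiIso := by
        haveI := hM.quasiIso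
        haveI : IsIso ((ChainComplex.single₀ Z.Modules).map i.inv) := inferInstance
        infer_instance }
  rw [hc F hF m M ρ hM, ha F hF n L π hL, map_sum]
  simp only [map_zsmul]
  have h1 : ∑ k ∈ Finset.range (m + 1), (-1 : ℤ) ^ k • φZ (KRR.cl Z (M.X k)) =
      φZ (cl ((Scheme.Modules.pushforward g).obj ((Scheme.Modules.pushforward f).obj F))) := by
    rw [hcl _ hGM.1 m M _ hM', map_sum]
    simp only [map_zsmul]
  rw [h1, ← hsum]
  refine Finset.sum_congr rfl fun k _ => congrArg _ ?_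
  have hk := p₁_push g hZe hg (hL.finLocFree k)
  obtain ⟨p, N, σ, hN⟩ := hk.2
  rw [hb _ (hL.finLocFree k) p N σ hN, hcl _ hk.1 p N σ hN, map_sum]
  simp only [map_zsmul]

end Groth.Agent.KRR7
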