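import Groth.Agent.KRR7.PushCl
import Groth.Agent.KRR7.RegPd
import Groth.Agent.KRR7.Proj
import Groth.Agent.KRR7.Gen
import Groth.Agent.Lib.CurveTensor

/-!
# Projection formula for the push-forward along a regular closed immersion
-/

set_option autoImplicit false
set_option linter.style.haveILetI false
set_option backward.isDefEq.respectTransparency false
universe u v
open CategoryTheory CategoryTheory.Limits AlgebraicGeometry
attribute [local instance] HasDerivedCategory.standard

namespace Groth.Agent.KRR7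

open Groth.Agent Groth.Agent.KZ.LFRes
open scoped Groth.Agent.H23.PicMul

variable {X Y : Scheme.{u}}

theorem nonempty_push_tensor_pull_gen (f : X ⟶ Y) [HasInjectiveResolutions X.Modules] (F : X.Modules)
    {E : Y.Modules} (hE : FlatMod.IsFinLocFree E) :
    Nonempty ((Scheme.Modules.pushforward f).obj (CohB1.tensorMod F ((Scheme.Modules.pullback f).obj E)) ≅
      CohB1.tensorMod E ((Scheme.Modules.pushforward f).obj F)) := by
  haveI := SpObjSS.enoughInjectives_of_hasInjectiveResolutions (C := X.Modules)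
  haveI := QCoh.preservesFiniteLimits_push f
  obtain ⟨e⟩ := KFlatLib.nonempty_rpush_tensor_finLocFree f F E hE 0
  let z := (Scheme.Modules.pushforward f).rightDerivedZeroIsoSelf
  obtain ⟨a⟩ := H23.PicMul.comm F ((Scheme.Modules.pullback f).obj E)
  obtain ⟨b⟩ : Nonempty (CohB1.tensorMod E ((Coh.Rpush f 0).obj F) ≅
      CohB1.tensorMod E ((Scheme.Modules.pushforward f).obj F)) :=
    nonempty_tensor_congr (by rw [H23.PicMul.cl_eq_iff.2 ⟨z.app F⟩])
  exact ⟨(Scheme.Modules.pushforward f).mapIso a ≪≫ (z.app _).symm ≪≫ e.symm ≪≫ b⟩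

theorem preservesHomology_tensor {E : Y.Modules} (hE : FlatMod.IsFinLocFree E) :
    ((DCoh.tensorBi (X := Y)).obj E).PreservesHomology :=
  (((DCoh.tensorBi (X := Y)).obj E).exact_tfae.out 0 2).1
    fun (S : ShortComplex Y.Modules) (hS : S.ShortExact) => CurveTensor.shortExact_tensor hE S.f S.g S.zero hS

/-- tensoring a resolution -/
theorem isLFRes_tensor {E : Y.Modules} (hE : FlatMod.IsFinLocFree E) {M : Y.Modules} {n : ℕ}
    {L : ChainComplex Y.Modules ℕ} {π : L ⟶ (ChainComplex.single₀ Y.Modules).obj M} (h : KRR.IsLFRes M n L π) :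
    ∃ π' : (((DCoh.tensorBi (X := Y)).obj E).mapHomologicalComplex (ComplexShape.down ℕ)).obj L ⟶
        (ChainComplex.single₀ Y.Modules).obj (((DCoh.tensorBi (X := Y)).obj E).obj M),
      KRR.IsLFRes (((DCoh.tensorBi (X := Y)).obj E).obj M) n
        ((((DCoh.tensorBi (X := Y)).obj E).mapHomologicalComplex (ComplexShape.down ℕ)).obj L) π' := by
  let T := (DCoh.tensorBi (X := Y)).obj E
  haveI := h.quasiIso
  haveI := preservesHomology_tensor hE
  refine ⟨(T.mapHomologicalComplex (ComplexShape.down ℕ)).map π ≫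
    ((HomologicalComplex.singleMapHomologicalComplex T (ComplexShape.down ℕ) 0).app M).hom, fun i => ?_, fun i hi => ?_,
    inferInstance⟩
  · exact KFlatLib.isFinLocFree_tensor hE (h.finLocFree i)
  · exact T.map_isZero (h.isZero i hi)

variable [IsNoetherian X] [IsNoetherian Y]

theorem pushCl_mul_pull (hYe : KRR.HasEnoughLocFree Y) (f : X ⟶ Y) (hf : Mor2.IsRegularClosedImmersion f)
    {KX KY : Type v} [CommRing KX] [CommRing KY] (φX : SGA6.Kvb X →+ KX) (φY : SGA6.Kvb Y →+ KY)
    (hXbij : Function.Bijective φX) (hYbij : Function.Bijective φY)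
    (hXmul : ∀ E F : X.Modules, FlatMod.IsFinLocFree E → FlatMod.IsFinLocFree F →
      φX (KRR.cl _ E) * φX (KRR.cl _ F) = φX (KRR.cl _ (((DCoh.tensorBi (X := X)).obj E).obj F)))
    (hYmul : ∀ E F : Y.Modules, FlatMod.IsFinLocFree E → FlatMod.IsFinLocFree F →
      φY (KRR.cl _ E) * φY (KRR.cl _ F) = φY (KRR.cl _ (((DCoh.tensorBi (X := Y)).obj E).obj F)))
    (g : KY →+ KX) (hg : KRR.IsPull f φY φX g) (h : KX →+ KY) (hh : KRR.IsPushCl f φX φY h)
    (x : KX) (y : KY) : h (x * g y) = h x * y := by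
  haveI : IsClosedImmersion f := hf.1
  haveI : HasInjectiveResolutions X.Modules := KFlatLib.hasInjectiveResolutions_modules
  obtain ⟨x₀, rfl⟩ := hXbij.2 x
  obtain ⟨y₀, rfl⟩ := hYbij.2 y
  suffices key : ∀ F : X.Modules, FlatMod.IsFinLocFree F → ∀ E : Y.Modules, FlatMod.IsFinLocFree E →
      h (φX (KRR.cl X F) * g (φY (KRR.cl Y E))) = h (φX (KRR.cl X F)) * φY (KRR.cl Y E) by
    refine DFunLike.congr_fun (KZ.K0sub_hom_ext (KRR.vbP X)
      (f := h.comp ((AddMonoidHom.mulRight (g (φY y₀))).comp φX))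
      (g := (AddMonoidHom.mulRight (φY y₀)).comp (h.comp φX)) fun F hF => ?_) x₀
    exact DFunLike.congr_fun (KZ.K0sub_hom_ext (KRR.vbP Y)
      (f := h.comp ((AddMonoidHom.mulLeft (φX (KRR.cl X F))).comp (g.comp φY)))
      (g := (AddMonoidHom.mulLeft (h (φX (KRR.cl X F)))).comp φY) fun E hE => key F hF E hE) y₀
  intro F hF E hE
  have hpE : FlatMod.IsFinLocFree ((Scheme.Modules.pullback f).obj E) := KFlatLib.isFinLocFree_pullback f hE
  have hFE : FlatMod.IsFinLocFree (((DCoh.tensorBi (X := X)).obj F).obj ((Scheme.Modules.pullback f).obj E)) :=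
    KFlatLib.isFinLocFree_tensor hF hpE
  obtain ⟨n, L, π, hL⟩ := (p₁_push f hYe hf hF).2
  obtain ⟨π', hL'⟩ := isLFRes_tensor hE hL
  obtain ⟨i⟩ := nonempty_push_tensor_pull_gen f F hE
  have hL'' : KRR.IsLFRes ((Scheme.Modules.pushforward f).obj
      (((DCoh.tensorBi (X := X)).obj F).obj ((Scheme.Modules.pullback f).obj E))) n _
      (π' ≫ (ChainComplex.single₀ Y.Modules).map i.inv) :=
    { finLocFree := hL'.finLocFree
      isZero := hL'.isZero
      quasiIso := by
        haveI := hL'.quasiIso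
        haveI : IsIso ((ChainComplex.single₀ Y.Modules).map i.inv) := inferInstance
        infer_instance }
  rw [hg E hE, hXmul F _ hF hpE, hh _ hFE n _ _ hL'', hh F hF n L π hL, Finset.sum_mul]
  refine Finset.sum_congr rfl fun k _ => ?_
  rw [smul_mul_assoc, mul_comm, hYmul E _ hE (hL.finLocFree k)]
  rfl

end Groth.Agent.KRR7
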