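import Groth.Agent.KRR7.TwistLam
import Groth.Agent.KRR7.GP
import Groth.Agent.Lambda7.TwistFil

/-!
# The push-forward along `P^n_Y ⟶ Y` lowers the γ-filtration by at most `n`
-/

set_option autoImplicit false
set_option linter.style.haveILetI false
set_option linter.unusedSectionVars false
set_option backward.isDefEq.respectTransparency false
universe u v
open CategoryTheory CategoryTheory.Limits AlgebraicGeometry
attribute [local instance] HasDerivedCategory.standard

namespace Groth.Agent.KRR7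

open Groth.Agent
open scoped Groth.Agent.H23.PicMul

variable {n : ℕ} {Y : Scheme.{u}} [IsNoetherian Y]
  {KP KY : Type v} [CommRing KP] [CommRing KY] [LambdaRing.LambdaOps KP] [LambdaRing.LambdaOps KY]
  {PP : LambdaRing.PosStructure KP} {PY : LambdaRing.PosStructure KY}
  {φP : SGA6.Kvb (KRR.PY n Y) →+ KP} {φY : SGA6.Kvb Y →+ KY}
  (hKP : KRR.IsModel (KRR.PY n Y) KP PP φP) (hKY : KRR.IsModel Y KY PY φY)

/-- The class of `O(1)`. -/
noncomputable def ell (φP : SGA6.Kvb (KRR.PY n Y) →+ KP) : KP :=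
  φP (KRR.cl (KRR.PY n Y) (Twist.twistOver n Y 1))

include hKP

theorem ell_pow (a : ℕ) : φP (KRR.cl (KRR.PY n Y) (Twist.twistOver n Y (a : ℤ))) = ell φP ^ a := by
  have h := RegSheaf7.isInvertible_twistOver (n := n) (T := Y) 1
  rw [ell, ← Nil.cl_tensorPow' hKP h]
  obtain ⟨e⟩ : Nonempty (Twist.twistOver n Y (a : ℤ) ≅ CohB1.tensorPow (Twist.twistOver n Y 1) a) :=
    H23.PicMul.cl_eq_iff.1 (by rw [H23.PicMul.cl_tensorPow, CMReg7.cl_twistOver_pow])
  exact congrArg φP (cl_iso e (H23.PullPush.isFinLocFree_of_isInvertible (RegSheaf7.isInvertible_twistOver _)))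

theorem cl_twF (a : ℕ) {F : (KRR.PY n Y).Modules} (hF : FlatMod.IsFinLocFree F) :
    φP (KRR.cl _ (KRR.twF n Y (a : ℤ) F)) = φP (KRR.cl _ F) * ell φP ^ a := by
  rw [← ell_pow hKP a, mul_comm, hKP.map_mul _ _
    (H23.PullPush.isFinLocFree_of_isInvertible (RegSheaf7.isInvertible_twistOver _)) hF]
  rfl

theorem ell_sub_one_pow : (ell φP - 1) ^ (n + 1) = 0 := by
  have hO : FlatMod.IsFinLocFree (Coh.structureModule (KRR.PY n Y)) := ExtPow7.Lam.flf_O
  have h := congrArg φP (koszul_relation (n := n) (Y := Y) _ hO 0).1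
  rw [map_zero, fwdDiff_iter_eq_sum_shift, map_sum] at h
  rw [sub_eq_add_neg, add_pow, ← h]
  refine Finset.sum_congr rfl fun k _ => ?_
  rw [map_zsmul, show (0 : ℤ) + k • (1 : ℤ) = (k : ℤ) by simp, cl_twF hKP k hO, hKP.map_one, one_mul, zsmul_eq_mul]
  push_cast
  ring

variable {g : KP →+ KY} (hg : KRR.IsPushPr n Y φP φY g) {q : KY →+ KP}
  (hq : KRR.IsPull (KRR.pr n Y) φY φP q)

include hKY hg hq

theorem push_gen (a : ℕ) (y : KY) : g (q y * ell φP ^ a) = Nat.choose (n + a) n • y := by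
  let A : KY →+ KY := g.comp ((AddMonoidHom.mulRight (ell φP ^ a)).comp q)
  refine DFunLike.congr_fun (model_hom_ext hKY (a := A) (b := Nat.choose (n + a) n • AddMonoidHom.id KY)
    fun E hE => ?_) y
  show g (q _ * _) = Nat.choose (n + a) n • φY (KRR.cl Y E)
  rw [hq E hE, ← cl_twF hKP a (KFlatLib.isFinLocFree_pullback _ hE)]
  have := DFunLike.congr_fun (gP_eq φP φY g hg)
    (KRR.cl _ (KRR.twF n Y (a : ℤ) ((Scheme.Modules.pullback (KRR.pr n Y)).obj E)))
  rw [AddMonoidHom.comp_apply, AddMonoidHom.comp_apply, gP_gen hE a, map_nsmul] at this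
  exact this

omit hg in
theorem closure_gen :
    AddSubgroup.closure {z | ∃ (a : ℕ), ∃ e ∈ PY.pos, z = q e * ell φP ^ a} = ⊤ := by
  set H := AddSubgroup.closure {z | ∃ (a : ℕ), ∃ e ∈ PY.pos, z = q e * ell φP ^ a}
  have key : (QuotientAddGroup.mk' H).comp φP = 0 := hom_ext_gen fun E hE a => by
    show (QuotientAddGroup.mk' H) (φP _) = 0
    refine (QuotientAddGroup.eq_zero_iff _).2 ?_
    rw [cl_twF hKP a (KFlatLib.isFinLocFree_pullback _ hE), ← hq E hE]
    obtain ⟨e, f, he, hf, hEq⟩ := PY.exists_sub (φY (KRR.cl Y E))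
    rw [hEq, map_sub, sub_mul]
    exact sub_mem (AddSubgroup.subset_closure ⟨a, e, he, rfl⟩) (AddSubgroup.subset_closure ⟨a, f, hf, rfl⟩)
  refine eq_top_iff.2 fun z _ => ?_
  obtain ⟨w, rfl⟩ := hKP.bijective.2 z
  exact (QuotientAddGroup.eq_zero_iff _).1 (DFunLike.congr_fun key w)

theorem push_gammaFiltration {k : ℕ} {x : KP} (hx : x ∈ LambdaRing.gammaFiltration PP k) :
    g x ∈ LambdaRing.gammaFiltration PY (k - n) := by
  have hℓ := RegSheaf7.isInvertible_twistOver (n := n) (T := Y) 1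
  have hℓpos : ell φP ∈ PP.pos := (hKP.mem_pos_iff _).2 ⟨1, _, le_rfl, InvEnd.isFinLocFreeOfRank_one hℓ, rfl⟩
  have hℓaug : PP.aug (ell φP) = 1 := by
    simpa [ell] using hKP.aug_cl 1 _ (InvEnd.isFinLocFreeOfRank_one hℓ)
  have htw : ∀ e ∈ PY.pos, ∀ (a i : ℕ),
      LambdaRing.LambdaOps.lam i (pullRingHom hKY hKP hq e * ell φP ^ a) =
        pullRingHom hKY hKP hq (LambdaRing.LambdaOps.lam i e) * (ell φP ^ a) ^ i := fun e he a i => by
    obtain ⟨m, E, -, hE, rfl⟩ := (hKY.mem_pos_iff e).1 he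
    have hE' := flf_of_rank hE
    show LambdaRing.LambdaOps.lam i (q _ * _) = q _ * _
    rw [pull_lam hKY hKP hq, hq E hE', ← ell_pow hKP a]
    exact lam_mul_line hKP (KFlatLib.isFinLocFree_pullback _ hE') (RegSheaf7.isInvertible_twistOver _) i
  have hx' := Lambda7.gammaFiltration_le (P := PY) (q := pullRingHom hKY hKP hq) (u := ell φP) PP
    (pull_aug hKY hKP hq) (fun k y => pull_gamma hKY hKP hq k y)
    (fun a => by rw [map_pow, hℓaug, one_pow])
    (fun e he a => PP.mul_mem _ _ (pull_mem_pos hKY hKP hq he) (pow_mem_pos PP hℓpos a))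
    htw (closure_gen hKP hKY hq) k hx
  clear hx
  unfold Lambda7.Fil at hx'
  induction hx' using AddSubgroup.closure_induction with
  | mem z hz =>
    obtain ⟨i, y, hy, rfl⟩ := hz
    show g ((ell φP - 1) ^ i * q y) ∈ _
    rcases le_or_gt i n with hi | hi
    · rw [sub_eq_add_neg, add_pow, Finset.sum_mul, map_sum]
      refine sum_mem fun a _ => ?_
      rw [show ell φP ^ a * (-1) ^ (i - a) * (i.choose a : KP) * q y =
        ((-1 : ℤ) ^ (i - a) * (i.choose a : ℤ)) • (q y * ell φP ^ a) by rw [zsmul_eq_mul]; push_cast; ring,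
        map_zsmul, push_gen hKP hKY hg hq a y]
      exact zsmul_mem (nsmul_mem (Lambda.gammaFiltration_anti (by omega) hy) _) _
    · obtain ⟨c, rfl⟩ : ∃ c, i = n + 1 + c := ⟨i - (n + 1), by omega⟩
      rw [pow_add, ell_sub_one_pow hKP, zero_mul, zero_mul, map_zero]
      exact zero_mem _
  | zero => rw [map_zero]; exact zero_mem _
  | add a b _ _ ha hb => rw [map_add]; exact add_mem ha hb
  | neg a _ ha => rw [map_neg]; exact neg_mem ha

end Groth.Agent.KRR7
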