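import Groth.Agent.KRR7.PushClProj
import Groth.Agent.TriCat.AcyclicObj
import Groth.Agent.KRR7.SmoothPr
import Groth.Agent.S1676

/-!
# `p_K ∘ s_K = id` for a section `s` of `P^n_Y ⟶ Y`
-/

set_option autoImplicit false
set_option linter.style.haveILetI false
set_option backward.isDefEq.respectTransparency false
universe u v
open CategoryTheory CategoryTheory.Limits AlgebraicGeometry
attribute [local instance] HasDerivedCategory.standard

namespace Groth.Agent.KRR7

open Groth.Agent Groth.Agent.KZ.LFRes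
open scoped Groth.Agent.H23.PicMul

variable {n : ℕ} {Y : Scheme.{u}}

theorem isRegularClosedImmersion_section (s : Y ⟶ KRR.PY n Y) (hs : s ≫ KRR.pr n Y = 𝟙 Y) :
    Mor2.IsRegularClosedImmersion s := by
  haveI := smooth_pr n Y
  haveI := CMReg7.isProper_pr (n := n) (T := Y)
  haveI : IsClosedImmersion (s ≫ KRR.pr n Y) := by rw [hs]; infer_instance
  haveI : IsClosedImmersion s := IsClosedImmersion.of_comp s (KRR.pr n Y)
  exact S1676.result (KRR.pr n Y) s hs

/-- The direct image of the opcycles sequence of a resolution by regular bundles is short exact. -/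
theorem exists_push_opcycles_ses [IsNoetherian Y] {A : (KRR.PY n Y).Modules} {m : ℕ}
    {L : ChainComplex (KRR.PY n Y).Modules ℕ} {π : L ⟶ (ChainComplex.single₀ (KRR.PY n Y).Modules).obj A}
    (h : KRR.IsLFRes A m L π) (hreg : ∀ k, KRR.IsRegSheaf n Y (L.X k)) (k : ℕ) :
    ∃ S : ShortComplex Y.Modules, S.ShortExact ∧
      S.X₁ = (Scheme.Modules.pushforward (KRR.pr n Y)).obj (L.opcycles (k + 1)) ∧
      S.X₂ = (Scheme.Modules.pushforward (KRR.pr n Y)).obj (L.X k) ∧
      S.X₃ = (Scheme.Modules.pushforward (KRR.pr n Y)).obj (L.opcycles k) := by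
  haveI : HasInjectiveResolutions (KRR.PY n Y).Modules := KFlatLib.hasInjectiveResolutions_modules
  haveI := SpObjSS.enoughInjectives_of_hasInjectiveResolutions (C := (KRR.PY n Y).Modules)
  haveI := QCoh.preservesFiniteLimits_push (KRR.pr n Y)
  let P := Scheme.Modules.pushforward (KRR.pr n Y)
  have hvanL : ∀ k q, IsZero ((Coh.Rpush (KRR.pr n Y) (q + 1)).obj (L.X k)) := fun k q =>
    (isZero_rpush_iff _ q).1 (CMReg7.higher_zero _ (hreg k) (q + 1) (by omega))
  have hvan : ∀ (j k : ℕ), m + 1 ≤ k + j → ∀ q, IsZero ((Coh.Rpush (KRR.pr n Y) (q + 1)).obj (L.opcycles k)) := by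
    intro j
    induction j with
    | zero =>
      intro k hk q
      exact Functor.map_isZero _ (IsZero.of_epi (L.pOpcycles k) (h.isZero k (by omega)))
    | succ j ih =>
      intro k hk q
      obtain ⟨S, hS, e₁, e₂, e₃⟩ := res_opcycles_ses h k
      obtain ⟨δ, w₁, w₂, w₃, h₁, h₂, h₃⟩ := TriCat.exists_rightDerived_ses P hS (q + 1)
      have hz1 : IsZero ((P.rightDerived (q + 1 + 1)).obj S.X₁) := by rw [e₁]; exact ih (k + 1) (by omega) (q + 1)
      have hz2 : IsZero ((P.rightDerived (q + 1)).obj S.X₂) := by rw [e₂]; exact hvanL k q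
      rw [← e₃]
      exact h₂.isZero_of_both_zeros (hz2.eq_of_src _ _) (hz1.eq_of_tgt _ _)
  have hses : ∀ k, ∃ S : ShortComplex Y.Modules, S.ShortExact ∧ S.X₁ = P.obj (L.opcycles (k + 1)) ∧
      S.X₂ = P.obj (L.X k) ∧ S.X₃ = P.obj (L.opcycles k) := fun k => by
    obtain ⟨S, hS, e₁, e₂, e₃⟩ := res_opcycles_ses h k
    refine ⟨S.map P, TriCat.shortExact_map_of_subsingleton (F := P) hS ?_, ?_, ?_, ?_⟩
    · show IsZero ((P.rightDerived 1).obj S.X₁)
      rw [e₁]; exact hvan (m + 1) (k + 1) (by omega) 0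
    · exact congrArg P.obj e₁
    · exact congrArg P.obj e₂
    · exact congrArg P.obj e₃
  exact hses k

/-- Sum of the push-forwards of the terms of a resolution by modules without higher direct images. -/
theorem sum_push_acyclic [IsNoetherian Y] {A : (KRR.PY n Y).Modules} {m : ℕ}
    {L : ChainComplex (KRR.PY n Y).Modules ℕ} {π : L ⟶ (ChainComplex.single₀ (KRR.PY n Y).Modules).obj A}
    (h : KRR.IsLFRes A m L π) (hreg : ∀ k, KRR.IsRegSheaf n Y (L.X k))
    (hA : FlatMod.IsFinLocFree ((Scheme.Modules.pushforward (KRR.pr n Y)).obj A)) :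
    ∑ k ∈ Finset.range (m + 1), (-1 : ℤ) ^ k • KRR.cl Y ((Scheme.Modules.pushforward (KRR.pr n Y)).obj (L.X k)) =
      KRR.cl Y ((Scheme.Modules.pushforward (KRR.pr n Y)).obj A) := by
  haveI : HasInjectiveResolutions (KRR.PY n Y).Modules := KFlatLib.hasInjectiveResolutions_modules
  haveI := SpObjSS.enoughInjectives_of_hasInjectiveResolutions (C := (KRR.PY n Y).Modules)
  haveI := QCoh.preservesFiniteLimits_push (KRR.pr n Y)
  let P := Scheme.Modules.pushforward (KRR.pr n Y)
  obtain ⟨e⟩ := res_opcycles_zero h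
  have hflf : ∀ k, FlatMod.IsFinLocFree (P.obj (L.X k)) := fun k =>
    CMReg7.isFinLocFree_push_pr (h.finLocFree k) fun i hi => CMReg7.higher_zero _ (hreg k) i hi
  have hses := exists_push_opcycles_ses h hreg
  have hP : ∀ k, FlatMod.IsFinLocFree (P.obj (L.opcycles k)) := by
    intro k
    induction k with
    | zero => exact flf_of_iso (P.mapIso e.symm) hA
    | succ k ih =>
      obtain ⟨S, hS, e₁, e₂, e₃⟩ := hses k
      rw [← e₁]
      exact flf_ker hS (by rw [e₂]; exact hflf k) (by rw [e₃]; exact ih)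
  have hrel : ∀ k, KRR.cl Y (P.obj (L.X k)) =
      KRR.cl Y (P.obj (L.opcycles (k + 1))) + KRR.cl Y (P.obj (L.opcycles k)) := fun k => by
    obtain ⟨S, hS, e₁, e₂, e₃⟩ := hses k
    rw [← e₁, ← e₂, ← e₃]
    exact KZ.clSub_ses (KRR.vbP Y) hS (by show FlatMod.IsFinLocFree S.X₁; rw [e₁]; exact hP _)
      (by show FlatMod.IsFinLocFree S.X₂; rw [e₂]; exact hflf k)
      (by show FlatMod.IsFinLocFree S.X₃; rw [e₃]; exact hP _)
  have key : ∀ M : ℕ, ∑ k ∈ Finset.range (M + 1), (-1 : ℤ) ^ k • KRR.cl Y (P.obj (L.X k)) =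
      KRR.cl Y (P.obj (L.opcycles 0)) + (-1 : ℤ) ^ M • KRR.cl Y (P.obj (L.opcycles (M + 1))) := by
    intro M
    induction M with
    | zero => rw [Finset.sum_range_one, pow_zero, one_smul, one_smul, hrel 0, add_comm]
    | succ M ih =>
      rw [Finset.sum_range_succ, ih, hrel (M + 1), smul_add, pow_succ]
      simp only [mul_neg, mul_one, neg_smul]
      abel
  have hz : IsZero (P.obj (L.opcycles (m + 1))) :=
    P.map_isZero (IsZero.of_epi (L.pOpcycles (m + 1)) (h.isZero _ (by omega)))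
  have hz0 : KRR.cl Y (P.obj (L.opcycles (m + 1))) = 0 := KZ.clSub_isZero (KRR.vbP Y) hz
  rw [key, hz0, smul_zero, add_zero]
  exact cl_iso (P.mapIso e) (hP 0)

theorem exists_reg_res [IsNoetherian Y] (hPe : KRR.HasEnoughLocFree (KRR.PY n Y)) (s : Y ⟶ KRR.PY n Y)
    (hs : s ≫ KRR.pr n Y = 𝟙 Y) {E : Y.Modules} (hE : FlatMod.IsFinLocFree E) :
    ∃ (m : ℕ) (L : ChainComplex (KRR.PY n Y).Modules ℕ)
      (π : L ⟶ (ChainComplex.single₀ (KRR.PY n Y).Modules).obj ((Scheme.Modules.pushforward s).obj E)),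
      KRR.IsLFRes ((Scheme.Modules.pushforward s).obj E) m L π ∧ ∀ k, KRR.IsRegSheaf n Y (L.X k) := by
  haveI := CMReg7.isProper_pr (n := n) (T := Y)
  haveI : LocallyOfFiniteType (KRR.pr n Y) := inferInstance
  haveI : IsNoetherian (KRR.PY n Y) := by
    haveI := isLocallyNoetherian_PY (n := n) (Y := Y)
    haveI : CompactSpace (KRR.PY n Y) := QuasiCompact.compactSpace_of_compactSpace (KRR.pr n Y)
    exact {}
  have hreg := isRegularClosedImmersion_section s hs
  haveI : IsClosedImmersion s := hreg.1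
  haveI : HasInjectiveResolutions Y.Modules := KFlatLib.hasInjectiveResolutions_modules
  obtain ⟨m, L, π, hL⟩ := (p₁_push s hPe hreg hE).2
  choose b hb using fun k => exists_reg_twF (L.X k) (hL.finLocFree k)
  let B : ℕ := (Finset.range (m + 1)).sup b
  let D := (Scheme.Modules.pullback s).obj (Twist.twistOver n Y (-(B : ℤ)))
  have hD : FlatMod.IsFinLocFree D := KFlatLib.isFinLocFree_pullback s
    (H23.PullPush.isFinLocFree_of_isInvertible (RegSheaf7.isInvertible_twistOver _))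
  let N := CohB1.tensorMod (Twist.twistOver n Y (B : ℤ)) ((Scheme.Modules.pullback (KRR.pr n Y)).obj D)
  have hN : FlatMod.IsFinLocFree N := by
    show FlatMod.IsFinLocFree (CohB1.tensorMod _ _)
    rw [← tensorBi_obj_obj]
    exact KFlatLib.isFinLocFree_tensor
      (H23.PullPush.isFinLocFree_of_isInvertible (RegSheaf7.isInvertible_twistOver _))
      (KFlatLib.isFinLocFree_pullback _ hD)
  obtain ⟨π', hL'⟩ := isLFRes_tensor hN hL
  obtain ⟨i⟩ := nonempty_push_tensor_pull_gen s E hN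
  have hone : PicF.pullCl s (PicF.cl N) = 1 := by
    show PicF.pullCl s (PicF.cl (CohB1.tensorMod _ _)) = 1
    rw [H23.PicMul.cl_tensor, H23.PicMul.pullCl_mul]
    have h1 : PicF.pullCl s (PicF.cl ((Scheme.Modules.pullback (KRR.pr n Y)).obj D)) = PicF.cl D :=
      H23.PicMul.cl_eq_iff.2 ⟨(Scheme.Modules.pullbackComp _ _).app D ≪≫
        (Scheme.Modules.pullbackCongr hs).app D ≪≫ (Scheme.Modules.pullbackId Y).app D⟩
    rw [h1]
    show PicF.pullCl s (PicF.cl (Twist.twistOver n Y (B : ℤ))) * PicF.pullCl s (PicF.cl (Twist.twistOver n Y (-(B : ℤ)))) = 1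
    rw [← H23.PicMul.pullCl_mul, RegSheaf7.cl_twistOver_add, add_neg_cancel, CMReg7.cl_twistOver_zero, H23.PicMul.pullCl_one]
  obtain ⟨u⟩ : Nonempty (CohB1.tensorMod E ((Scheme.Modules.pullback s).obj N) ≅ E) :=
    H23.PicMul.cl_eq_iff.1 (by
      rw [H23.PicMul.cl_tensor]
      show _ * PicF.pullCl s (PicF.cl N) = _
      rw [hone, mul_one])
  let j := i.symm ≪≫ (Scheme.Modules.pushforward s).mapIso u
  refine ⟨m, _, π' ≫ (ChainComplex.single₀ _).map j.hom,
    { finLocFree := hL'.finLocFree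
      isZero := hL'.isZero
      quasiIso := by
        haveI := hL'.quasiIso
        haveI : IsIso ((ChainComplex.single₀ (KRR.PY n Y).Modules).map j.hom) := inferInstance
        infer_instance }, fun k => ?_⟩
  by_cases hk : m < k
  · exact reg_of_isZero (hL'.isZero k hk)
  have h1 := reg_tensor_pull (reg_twF_ge (a := (b k : ℤ)) (b := (B : ℤ))
    (Int.ofNat_le.2 (Finset.le_sup (f := b) (Finset.mem_range.2 (by omega)))) (hb k)) hD
  obtain ⟨a⟩ : Nonempty (CohB1.tensorMod (KRR.twF n Y (B : ℤ) (L.X k)) ((Scheme.Modules.pullback (KRR.pr n Y)).obj D) ≅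
      CohB1.tensorMod N (L.X k)) := nonempty_tensor_congr (by
    show PicF.cl (CohB1.tensorMod _ _) * _ = PicF.cl (CohB1.tensorMod _ _) * _
    rw [H23.PicMul.cl_tensor, H23.PicMul.cl_tensor]
    ac_rfl)
  exact reg_of_iso a h1

theorem pushPr_pushCl_section [IsNoetherian Y] (hPe : KRR.HasEnoughLocFree (KRR.PY n Y)) (s : Y ⟶ KRR.PY n Y)
    (hs : s ≫ KRR.pr n Y = 𝟙 Y) {KP KY : Type v} [AddCommGroup KP] [AddCommGroup KY]
    (φP : SGA6.Kvb (KRR.PY n Y) →+ KP) (φY : SGA6.Kvb Y →+ KY) (hYbij : Function.Bijective φY)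
    (gs : KY →+ KP) (hgs : PushClHom s φY φP gs) (gp : KP →+ KY) (hgp : PushPrHom n Y φP φY gp) :
    gp.comp gs = AddMonoidHom.id KY := by
  ext y
  obtain ⟨y₀, rfl⟩ := hYbij.2 y
  refine DFunLike.congr_fun (KZ.K0sub_hom_ext (KRR.vbP Y) (f := (gp.comp gs).comp φY) (g := φY) fun E hE => ?_) y₀
  show gp (gs (φY (KRR.cl Y E))) = φY (KRR.cl Y E)
  obtain ⟨m, L, π, hL, hreg⟩ := exists_reg_res hPe s hs hE
  let i : (Scheme.Modules.pushforward (KRR.pr n Y)).obj ((Scheme.Modules.pushforward s).obj E) ≅ E :=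
    (Scheme.Modules.pushforwardComp s (KRR.pr n Y)).app E ≪≫ (Scheme.Modules.pushforwardCongr hs).app E ≪≫
      (Scheme.Modules.pushforwardId Y).app E
  rw [hgs E hE m L π hL, map_sum]
  simp only [map_zsmul]
  rw [Finset.sum_congr rfl fun k _ => congrArg _ (hgp _ (hL.finLocFree k) (hreg k))]
  simp only [← map_zsmul]
  rw [← map_sum, sum_push_acyclic hL hreg (flf_of_iso i.symm hE), cl_iso i (flf_of_iso i.symm hE)]

end Groth.Agent.KRR7
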