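import Groth.Agent.KRR7.Section
import Groth.Agent.KRR7.PushClComp
import Groth.Agent.KRR7.BaseVan
import Groth.Agent.RegImmLib.Closed

/-!
# `i_K ∘ g_K = f_K ∘ j_K` for the square of projective spaces over a regular closed immersion
-/

set_option autoImplicit false
set_option linter.style.haveILetI false
set_option backward.isDefEq.respectTransparency false
universe u v
open CategoryTheory CategoryTheory.Limits AlgebraicGeometry
attribute [local instance] HasDerivedCategory.standard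

namespace Groth.Agent.KRR7

open Groth.Agent Groth.Agent.KZ.LFRes
open scoped Groth.Agent.H23.PicMul

variable {n : ℕ} {X Y : Scheme.{u}}

theorem isRegularClosedImmersion_projSpaceMap (i : X ⟶ Y) (hi : Mor2.IsRegularClosedImmersion i) :
    Mor2.IsRegularClosedImmersion (KRR.projSpaceMap n i) := by
  haveI : Flat (KRR.pr n Y) := ProjGen7.flat_toBase n Y
  exact RegImmLib.regClosed_baseChange (isPullback_projSpaceMap i).flip hi

theorem isNoetherian_PY [IsNoetherian Y] : IsNoetherian (KRR.PY n Y) := by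
  haveI := CMReg7.isProper_pr (n := n) (T := Y)
  haveI := isLocallyNoetherian_PY (n := n) (Y := Y)
  haveI : CompactSpace (KRR.PY n Y) := QuasiCompact.compactSpace_of_compactSpace (KRR.pr n Y)
  exact {}

/-- the class of the push-forward of a module with a regular resolution -/
theorem cl_push_eq_sum [IsNoetherian Y] (hYe : KRR.HasEnoughLocFree Y) {A : (KRR.PY n Y).Modules} {m : ℕ}
    {L : ChainComplex (KRR.PY n Y).Modules ℕ} {π : L ⟶ (ChainComplex.single₀ (KRR.PY n Y).Modules).obj A}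
    (h : KRR.IsLFRes A m L π) (hreg : ∀ k, KRR.IsRegSheaf n Y (L.X k))
    (hA : P₁ Y ((Scheme.Modules.pushforward (KRR.pr n Y)).obj A)) (cY : Y.Modules → SGA6.Kvb Y)
    (hvb : ∀ M, FlatMod.IsFinLocFree M → cY M = KRR.cl Y M)
    (hadd : ∀ S : ShortComplex Y.Modules, S.ShortExact → P₁ Y S.X₁ → P₁ Y S.X₂ → P₁ Y S.X₃ →
      cY S.X₂ = cY S.X₁ + cY S.X₃) :
    ∑ k ∈ Finset.range (m + 1), (-1 : ℤ) ^ k • KRR.cl Y ((Scheme.Modules.pushforward (KRR.pr n Y)).obj (L.X k)) =
      cY ((Scheme.Modules.pushforward (KRR.pr n Y)).obj A) := by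
  have hS₀ := resSetup hYe
  haveI := hS₀.iso₁
  let P := Scheme.Modules.pushforward (KRR.pr n Y)
  obtain ⟨e⟩ := res_opcycles_zero h
  have hflf : ∀ k, FlatMod.IsFinLocFree (P.obj (L.X k)) := fun k =>
    CMReg7.isFinLocFree_push_pr (h.finLocFree k) fun i hi => CMReg7.higher_zero _ (hreg k) i hi
  have hiso : ∀ {M N : Y.Modules}, (M ≅ N) → P₁ Y M → cY M = cY N := fun {M N} i hM => by
    have hz : IsZero (FlatMod.freeMod Y 0) := KFlatLib.isZero_freeMod_zero
    have hF : FlatMod.IsFinLocFree (FlatMod.freeMod Y 0) := KFlatLib.isFinLocFree_freeMod 0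
    have h0 : cY (FlatMod.freeMod Y 0) = 0 := (hvb _ hF).trans (KZ.clSub_isZero (KRR.vbP Y) hz)
    have := hadd _ (KZ.shortExact_iso_zero i hz) (hS₀.le _ hF) hM ((P₁ Y).prop_of_iso i hM)
    simpa [h0] using this
  have hP : ∀ k, P₁ Y (P.obj (L.opcycles k)) := by
    intro k
    induction k with
    | zero => exact (P₁ Y).prop_of_iso (P.mapIso e.symm) hA
    | succ k ih =>
      obtain ⟨S, hS, e₁, e₂, e₃⟩ := exists_push_opcycles_ses h hreg k
      rw [← e₁]
      exact hS₀.ker₁ S hS (by rw [e₂]; exact hS₀.le _ (hflf k)) (by rw [e₃]; exact ih)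
  have hrel : ∀ k, KRR.cl Y (P.obj (L.X k)) = cY (P.obj (L.opcycles (k + 1))) + cY (P.obj (L.opcycles k)) :=
    fun k => by
    obtain ⟨S, hS, e₁, e₂, e₃⟩ := exists_push_opcycles_ses h hreg k
    rw [← hvb _ (hflf k), ← e₁, ← e₂, ← e₃]
    exact hadd S hS (by rw [e₁]; exact hP _) (by rw [e₂]; exact hS₀.le _ (hflf k)) (by rw [e₃]; exact hP _)
  have key : ∀ M : ℕ, ∑ k ∈ Finset.range (M + 1), (-1 : ℤ) ^ k • KRR.cl Y (P.obj (L.X k)) =
      cY (P.obj (L.opcycles 0)) + (-1 : ℤ) ^ M • cY (P.obj (L.opcycles (M + 1))) := by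
    intro M
    induction M with
    | zero => rw [Finset.sum_range_one, pow_zero, one_smul, one_smul, hrel 0, add_comm]
    | succ M ih =>
      rw [Finset.sum_range_succ, ih, hrel (M + 1), smul_add, pow_succ]
      simp only [mul_neg, mul_one, neg_smul]
      abel
  have hz : IsZero (P.obj (L.opcycles (m + 1))) :=
    P.map_isZero (IsZero.of_epi (L.pOpcycles (m + 1)) (h.isZero _ (by omega)))
  have hzf : FlatMod.IsFinLocFree (P.obj (L.opcycles (m + 1))) := KFlatLib.isFinLocFree_of_isZero hz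
  have h0 : cY (P.obj (L.opcycles (m + 1))) = 0 := (hvb _ hzf).trans (KZ.clSub_isZero (KRR.vbP Y) hz)
  rw [key, h0, smul_zero, add_zero]
  exact hiso (P.mapIso e) (hP 0)

variable [IsNoetherian X] [IsNoetherian Y]

theorem exists_twist_res (hPe : KRR.HasEnoughLocFree (KRR.PY n Y)) (i : X ⟶ Y)
    (hi : Mor2.IsRegularClosedImmersion i) {F : (KRR.PY n X).Modules} (hF : FlatMod.IsFinLocFree F) :
    ∃ b₀ : ℕ, ∀ b : ℤ, (b₀ : ℤ) ≤ b → KRR.IsRegSheaf n X (KRR.twF n X b F) ∧
      ∃ (m : ℕ) (L : ChainComplex (KRR.PY n Y).Modules ℕ)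
        (π : L ⟶ (ChainComplex.single₀ (KRR.PY n Y).Modules).obj
          ((Scheme.Modules.pushforward (KRR.projSpaceMap n i)).obj (KRR.twF n X b F))),
        KRR.IsLFRes ((Scheme.Modules.pushforward (KRR.projSpaceMap n i)).obj (KRR.twF n X b F)) m L π ∧
          ∀ k, KRR.IsRegSheaf n Y (L.X k) := by
  haveI := isNoetherian_PY (n := n) (Y := Y)
  haveI := isNoetherian_PY (n := n) (Y := X)
  have hj := isRegularClosedImmersion_projSpaceMap (n := n) i hi
  haveI : IsClosedImmersion (KRR.projSpaceMap n i) := hj.1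
  haveI : HasInjectiveResolutions (KRR.PY n X).Modules := KFlatLib.hasInjectiveResolutions_modules
  obtain ⟨m, L, π, hL⟩ := (p₁_push (KRR.projSpaceMap n i) hPe hj hF).2
  choose c hc using fun k => exists_reg_twF (L.X k) (hL.finLocFree k)
  obtain ⟨d, hd⟩ := exists_reg_twF F hF
  refine ⟨max d ((Finset.range (m + 1)).sup c), fun b hb => ⟨reg_twF_ge (a := (d : ℤ)) (by omega) hd, ?_⟩⟩
  have hN : FlatMod.IsFinLocFree (Twist.twistOver n Y b) :=
    H23.PullPush.isFinLocFree_of_isInvertible (RegSheaf7.isInvertible_twistOver b)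
  obtain ⟨π', hL'⟩ := isLFRes_tensor hN hL
  obtain ⟨t⟩ := nonempty_push_tensor_pull_gen (KRR.projSpaceMap n i) F hN
  obtain ⟨u⟩ : Nonempty (CohB1.tensorMod F ((Scheme.Modules.pullback (KRR.projSpaceMap n i)).obj (Twist.twistOver n Y b)) ≅
      KRR.twF n X b F) := H23.PicMul.cl_eq_iff.1 (by
    show _ = PicF.cl (CohB1.tensorMod (Twist.twistOver n X b) F)
    rw [H23.PicMul.cl_tensor, H23.PicMul.cl_tensor, mul_comm]
    refine congrArg₂ (· * ·) (H23.PicMul.cl_eq_iff.2 ⟨?_⟩) rfl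
    exact (Scheme.Modules.pullbackComp _ _).app _ ≪≫ (Scheme.Modules.pullbackCongr (projSpaceMap_fst i)).app _)
  let j := t.symm ≪≫ (Scheme.Modules.pushforward (KRR.projSpaceMap n i)).mapIso u
  refine ⟨m, _, π' ≫ (ChainComplex.single₀ _).map j.hom,
    { finLocFree := hL'.finLocFree
      isZero := hL'.isZero
      quasiIso := by
        haveI := hL'.quasiIso
        haveI : IsIso ((ChainComplex.single₀ (KRR.PY n Y).Modules).map j.hom) := inferInstance
        infer_instance }, fun k => ?_⟩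
  by_cases hk : m < k
  · exact reg_of_isZero (hL'.isZero k hk)
  exact reg_twF_ge (a := (c k : ℤ)) (b := b) (by
    have : c k ≤ (Finset.range (m + 1)).sup c := Finset.le_sup (f := c) (Finset.mem_range.2 (by omega))
    omega) (hc k)

omit [AlgebraicGeometry.IsNoetherian X] [AlgebraicGeometry.IsNoetherian Y] in
theorem nonempty_pushSquareIso (i : X ⟶ Y) (M : (KRR.PY n X).Modules) :
    Nonempty ((Scheme.Modules.pushforward (KRR.pr n Y)).obj
        ((Scheme.Modules.pushforward (KRR.projSpaceMap n i)).obj M) ≅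
      (Scheme.Modules.pushforward i).obj ((Scheme.Modules.pushforward (KRR.pr n X)).obj M)) :=
  ⟨(Scheme.Modules.pushforwardComp (KRR.projSpaceMap n i) (KRR.pr n Y)).app M ≪≫
    (Scheme.Modules.pushforwardCongr (projSpaceMap_pr (n := n) i)).app M ≪≫
    ((Scheme.Modules.pushforwardComp (KRR.pr n X) i).app M).symm⟩

theorem pushCl_square (hYe : KRR.HasEnoughLocFree Y) (hPe : KRR.HasEnoughLocFree (KRR.PY n Y)) (i : X ⟶ Y)
    (hi : Mor2.IsRegularClosedImmersion i) {KX KY KPX KPY : Type v} [AddCommGroup KX] [AddCommGroup KY] [AddCommGroup KPX] [AddCommGroup KPY]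
    (φX : SGA6.Kvb X →+ KX) (φY : SGA6.Kvb Y →+ KY) (φPX : SGA6.Kvb (KRR.PY n X) →+ KPX)
    (φPY : SGA6.Kvb (KRR.PY n Y) →+ KPY) (hbij : Function.Bijective φPX)
    (gi : KX →+ KY) (hgi : PushClHom i φX φY gi)
    (gj : KPX →+ KPY) (hgj : PushClHom (KRR.projSpaceMap n i) φPX φPY gj)
    (gX : KPX →+ KX) (hgX : PushPrHom n X φPX φX gX) (gY : KPY →+ KY) (hgY : PushPrHom n Y φPY φY gY) :
    gi.comp gX = gY.comp gj := by
  haveI : IsClosedImmersion i := hi.1
  obtain ⟨cY, hres, hvb, hadd⟩ := exists_classOf hYe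
  ext x
  obtain ⟨x₀, rfl⟩ := hbij.2 x
  refine DFunLike.congr_fun (KZ.K0sub_hom_ext (KRR.vbP (KRR.PY n X)) (f := (gi.comp gX).comp φPX)
    (g := (gY.comp gj).comp φPX) fun F hF => ?_) x₀
  obtain ⟨b₀, hb₀⟩ := exists_twist_res hPe i hi hF
  let f₁ := (gi.comp gX).comp φPX
  let f₂ := (gY.comp gj).comp φPX
  have hrec : ∀ (f : SGA6.Kvb (KRR.PY n X) →+ KY) (a : ℤ),
      (fwdDiff (1 : ℤ))^[n + 1] (fun b => f (KRR.cl _ (KRR.twF n X b F))) a = 0 := fun f a => by
    have h := congrArg f (koszul_relation F hF a).1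
    rw [map_zero] at h
    rw [← h, fwdDiff_iter_eq_sum_shift, fwdDiff_iter_eq_sum_shift, map_sum]
    simp
  have hlarge : ∀ b : ℤ, (b₀ : ℤ) ≤ b →
      f₁ (KRR.cl _ (KRR.twF n X b F)) = f₂ (KRR.cl _ (KRR.twF n X b F)) := fun b hb => by
    obtain ⟨hreg, m, L, π, hL, hLreg⟩ := hb₀ b hb
    have hFb := flf_twF hF b
    show gi (gX (φPX (KRR.cl _ _))) = gY (gj (φPX (KRR.cl _ _)))
    let G := (Scheme.Modules.pushforward (KRR.pr n X)).obj (KRR.twF n X b F)
    have hG : FlatMod.IsFinLocFree G := CMReg7.isFinLocFree_push_pr hFb fun q hq => CMReg7.higher_zero _ hreg q hq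
    have hiG := p₁_push i hYe hi hG
    obtain ⟨p, M, σ, hM⟩ := hiG.2
    rw [hgX _ hFb hreg, hgi G hG p M σ hM, hgj _ hFb m L π hL, map_sum]
    simp only [map_zsmul]
    rw [Finset.sum_congr rfl fun k _ => congrArg _ (hgY _ (hL.finLocFree k) (hLreg k))]
    simp only [← map_zsmul]
    rw [← map_sum, ← map_sum, ← hres _ hiG.1 p M σ hM]
    obtain ⟨e⟩ := nonempty_pushSquareIso i (KRR.twF n X b F)
    haveI := (resSetup hYe).iso₁
    have hA : P₁ Y _ := (P₁ Y).prop_of_iso e.symm hiG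
    rw [cl_push_eq_sum hYe hL hLreg hA cY hvb hadd]
    refine congrArg φY ?_
    have hz : IsZero (FlatMod.freeMod Y 0) := KFlatLib.isZero_freeMod_zero
    have hF0 : FlatMod.IsFinLocFree (FlatMod.freeMod Y 0) := KFlatLib.isFinLocFree_freeMod 0
    have := hadd _ (KZ.shortExact_iso_zero e hz) ((resSetup hYe).le _ hF0) hA hiG
    rw [show cY (FlatMod.freeMod Y 0) = 0 from (hvb _ hF0).trans (KZ.clSub_isZero (KRR.vbP Y) hz), zero_add] at this
    exact this.symm
  have h0 := eq_of_window (n + 1) (hrec f₁) (hrec f₂) (b₀ : ℤ) (fun k _ => hlarge _ (by omega)) b₀ 0 n.succ_pos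
  rw [show (b₀ : ℤ) - (b₀ : ℤ) + ((0 : ℕ) : ℤ) = 0 by simp] at h0
  obtain ⟨z⟩ := nonempty_twF_zero (n := n) (Y := X) F
  rw [cl_iso z (flf_twF hF 0)] at h0
  exact h0

end Groth.Agent.KRR7
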