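import Groth.Agent.KRR7.GP
import Groth.Agent.KZ.ClosedDev

/-!
# Push-forwards to projective spaces and comparison of towers
-/

set_option autoImplicit false
set_option linter.style.haveILetI false
set_option linter.unusedSectionVars false
set_option backward.isDefEq.respectTransparency false
universe u v
open CategoryTheory CategoryTheory.Limits AlgebraicGeometry
attribute [local instance] HasDerivedCategory.standard

namespace Groth.Agent.KRR7

open Groth.Agent Groth.Agent.KZ.LFRes
open scoped Groth.Agent.H23.PicMul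

variable {X Y Z : Scheme.{u}}

theorem enough_closed' [IsNoetherian X] (hX : KRR.HasEnoughLocFree X) (i : Z ⟶ X) [IsClosedImmersion i] :
    KRR.HasEnoughLocFree Z := by
  intro F hF
  have hiF : Coh.IsCoh ((Coh.push i).obj F) := QCoh.isCoh_push i hF
  obtain ⟨E, p, hE, hp⟩ := hX _ hiF
  haveI := KZ.ClosedDev.isIso_counit i hiF.1
  refine ⟨(Scheme.Modules.pullback i).obj E, (Scheme.Modules.pullback i).map p ≫
    (Scheme.Modules.pullbackPushforwardAdjunction i).counit.app F,
    KFlatLib.isFinLocFree_pullback i hE, ?_⟩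
  haveI : Epi ((Scheme.Modules.pullback i).map p) := inferInstance
  exact epi_comp _ _

theorem exists_pushClHom [IsNoetherian X] [IsNoetherian Y] (hYe : KRR.HasEnoughLocFree Y) (f : X ⟶ Y)
    (hf : Mor2.IsRegularClosedImmersion f) :
    ∃ a : SGA6.Kvb X →+ SGA6.Kvb Y, PushClHom f (AddMonoidHom.id _) (AddMonoidHom.id _) a := by
  haveI : IsClosedImmersion f := hf.1
  haveI : PreservesFiniteColimits (Scheme.Modules.pushforward f) :=
    ⟨fun J _ _ => KFlatLib.preservesColimitsOfShape_push f J⟩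
  haveI : PreservesFiniteLimits (Scheme.Modules.pushforward f) := by
    haveI : PreservesLimitsOfSize.{0, 0} (Scheme.Modules.pushforward f) :=
      (Scheme.Modules.pullbackPushforwardAdjunction f).rightAdjoint_preservesLimits
    infer_instance
  obtain ⟨c, hc, -, hadd⟩ := exists_classOf hYe
  obtain ⟨a, ha⟩ := KZ.exists_liftSub (KRR.vbP X) (fun M => c ((Scheme.Modules.pushforward f).obj M))
    fun S hS h₁ h₂ h₃ => hadd _ (hS.map_of_exact (Scheme.Modules.pushforward f))
      (p₁_push f hYe hf h₁) (p₁_push f hYe hf h₂) (p₁_push f hYe hf h₃)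
  exact ⟨a, fun F hF n L π hL => (ha F hF).trans (hc _ (p₁_push f hYe hf hF).1 n L π hL)⟩

theorem pushClHom_eq [IsNoetherian X] [IsNoetherian Y] (hYe : KRR.HasEnoughLocFree Y) (f : X ⟶ Y)
    (hf : Mor2.IsRegularClosedImmersion f) {KX KY : Type v} [AddCommGroup KX] [AddCommGroup KY]
    {φX : SGA6.Kvb X →+ KX} {φY : SGA6.Kvb Y →+ KY} {a : KX →+ KY} (ha : PushClHom f φX φY a)
    {c : SGA6.Kvb X →+ SGA6.Kvb Y} (hc : PushClHom f (AddMonoidHom.id _) (AddMonoidHom.id _) c) :
    a.comp φX = φY.comp c := by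
  haveI : IsClosedImmersion f := hf.1
  refine KZ.K0sub_hom_ext (KRR.vbP X) fun F hF => ?_
  obtain ⟨n, L, π, hL⟩ := (p₁_push f hYe hf hF).2
  refine (ha F hF n L π hL).trans ?_
  show _ = φY (c (KRR.cl X F))
  have h := hc F hF n L π hL
  simp only [AddMonoidHom.id_apply] at h
  rw [h, map_sum]
  simp only [map_zsmul]

theorem isRegularClosedImmersion_of_isIso (θ : X ⟶ Y) [IsIso θ] : Mor2.IsRegularClosedImmersion θ := by
  refine ⟨inferInstance, fun z => ?_⟩
  obtain ⟨U, hU, hzU, -⟩ := exists_isAffineOpen_mem_and_subset (U := ⊤) (x := θ z) trivial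
  haveI : Nonempty U := ⟨⟨θ z, hzU⟩⟩
  refine ⟨U, hU, hzU, [], RingTheory.Sequence.IsRegular.nil Γ(Y, U) Γ(Y, U), ?_⟩
  rw [Scheme.Hom.ker_apply, Ideal.ofList_nil]
  exact (RingHom.injective_iff_ker_eq_bot _).1
    ((ConcreteCategory.bijective_of_isIso (θ.app U)).1)

theorem nonempty_push_iso_pullback_inv (θ : X ⟶ Y) [IsIso θ] {F : X.Modules} (hF : Coh.IsQCoh F) :
    Nonempty ((Scheme.Modules.pushforward θ).obj F ≅ (Scheme.Modules.pullback (inv θ)).obj F) := by
  let j : Y ⟶ X := inv θ
  haveI := KZ.ClosedDev.isIso_counit j (M := (Scheme.Modules.pushforward θ).obj F)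
    (QCoh.isQCoh_pushforward j (QCoh.isQCoh_pushforward θ hF))
  let e : (Scheme.Modules.pushforward j).obj ((Scheme.Modules.pushforward θ).obj F) ≅ F :=
    (Scheme.Modules.pushforwardComp θ j).app F ≪≫ (Scheme.Modules.pushforwardCongr (IsIso.hom_inv_id θ)).app F ≪≫
      (Scheme.Modules.pushforwardId X).app F
  exact ⟨(asIso ((Scheme.Modules.pullbackPushforwardAdjunction j).counit.app
      ((Scheme.Modules.pushforward θ).obj F))).symm ≪≫ (Scheme.Modules.pullback j).mapIso e⟩

theorem pushClHom_iso [IsNoetherian Y] {θ : X ⟶ Y} [IsIso θ] {a : SGA6.Kvb X →+ SGA6.Kvb Y}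
    (ha : PushClHom θ (AddMonoidHom.id _) (AddMonoidHom.id _) a) {F : X.Modules} (hF : FlatMod.IsFinLocFree F) :
    a (KRR.cl X F) = KRR.cl Y ((Scheme.Modules.pullback (inv θ)).obj F) := by
  obtain ⟨e⟩ := nonempty_push_iso_pullback_inv θ (QCoh.isQCoh_of_isFinLocFree hF)
  have hG : FlatMod.IsFinLocFree ((Scheme.Modules.pushforward θ).obj F) :=
    flf_of_iso e.symm (KFlatLib.isFinLocFree_pullback _ hF)
  let G := (Scheme.Modules.pushforward θ).obj F
  have hres : KRR.IsLFRes G 0 ((ChainComplex.single₀ Y.Modules).obj G) (𝟙 _) := by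
    refine ⟨fun i => ?_, fun i hi => ?_, inferInstance⟩
    · rcases i with _ | i
      · exact hG
      · exact KFlatLib.isFinLocFree_of_isZero (HomologicalComplex.isZero_single_obj_X _ _ _ _ (by simp))
    · exact HomologicalComplex.isZero_single_obj_X _ _ _ _ (by omega)
  have h := ha F hF 0 _ _ hres
  simp only [AddMonoidHom.id_apply] at h
  rw [h, zero_add, Finset.sum_range_one, pow_zero, one_smul]
  exact cl_iso e hG

end Groth.Agent.KRR7
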