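import Groth.Agent.ExtPow7.TwistLine
import Groth.Agent.KRR7.Nil

/-!
# `λ^i(e u) = λ^i(e) u^i` for the class `u` of an invertible module
-/

set_option autoImplicit false
set_option linter.style.haveILetI false
set_option linter.unusedSectionVars false
set_option backward.isDefEq.respectTransparency false
universe u v
open CategoryTheory CategoryTheory.Limits AlgebraicGeometry
attribute [local instance] HasDerivedCategory.standard

namespace Groth.Agent.KRR7

open Groth.Agent
open scoped Groth.Agent.H23.PicMul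

variable {X : Scheme.{u}} {K : Type v} [CommRing K] [LambdaRing.LambdaOps K]
  {P : LambdaRing.PosStructure K} {φ : SGA6.Kvb X →+ K} (hK : KRR.IsModel X K P φ)

include hK

theorem lam_mul_line {E L : X.Modules} (hE : FlatMod.IsFinLocFree E) (hL : PicF.IsInvertible L) (i : ℕ) :
    LambdaRing.LambdaOps.lam i (φ (KRR.cl X E) * φ (KRR.cl X L)) =
      LambdaRing.LambdaOps.lam i (φ (KRR.cl X E)) * φ (KRR.cl X L) ^ i := by
  have hLf := H23.PullPush.isFinLocFree_of_isInvertible hL
  have hLp := H23.PullPush.isFinLocFree_of_isInvertible (InvX.isInvertible_tensorPow hL i)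
  have hEL : FlatMod.IsFinLocFree (CohB1.tensorMod E L) := KFlatLib.isFinLocFree_tensor hE hLf
  obtain ⟨A, hA, hAf⟩ := ExtPow7.exists_isExtPow hE i
  obtain ⟨B, hB, hBf⟩ := ExtPow7.exists_isExtPow hEL i
  obtain ⟨e⟩ := ExtPow7.nonempty_iso_isExtPow_tensor_line hE hL hA hB
  have h1 : φ (KRR.cl X E) * φ (KRR.cl X L) = φ (KRR.cl X (CohB1.tensorMod E L)) := hK.map_mul E L hE hLf
  have h2 : φ (KRR.cl X A) * φ (KRR.cl X (CohB1.tensorPow L i)) =
      φ (KRR.cl X (CohB1.tensorMod A (CohB1.tensorPow L i))) := hK.map_mul A _ hAf hLp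
  rw [h1, hK.map_lam i _ B hEL hBf hB, hK.map_lam i E A hE hAf hA, ← Nil.cl_tensorPow' hK hL, h2,
    cl_iso e hBf]

end Groth.Agent.KRR7
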